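import Cfsg.Agent.RelMcKay.Canon
import Cfsg.Agent.ProjExt.Ratio

/-!
# Matching the `p'`-degree characters of `K S` with those of `C S`, `C = K ⊓ C(S)`
-/

set_option autoImplicit false

namespace Cfsg.Agent.RelMcKay

open Cfsg.Agent.ProjExt Cfsg.Agent.Char
open scoped ComplexConjugate

universe u

noncomputable local instance bijFin {α : Type u} [Finite α] : Fintype α := Fintype.ofFinite α

variable {G : Type u} [Group G]

/-- Irreducible characters of `p'`-degree lying over `lam`. -/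
def Pl (p : ℕ) (M Z : Subgroup G) (lam : Z →* ℂˣ) (ψ : IrrCharacter M) : Prop :=
  ¬ p ∣ charDegree (ψ : M → ℂ) ∧
    ∀ (z : Z) (h : (z : G) ∈ M), (ψ : M → ℂ) ⟨z, h⟩ = (lam z : ℂ) * (ψ : M → ℂ) 1

theorem classInner_subgroupOf' [Finite G] {K Γ : Subgroup G} (hKΓ : K ≤ Γ) (f g : K → ℂ) :
    classInner (fun x : K.subgroupOf Γ => f (Subgroup.subgroupOfEquivOfLe hKΓ x))
      (fun x : K.subgroupOf Γ => g (Subgroup.subgroupOfEquivOfLe hKΓ x)) = classInner f g := by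
  rw [classInner, classInner, Nat.card_congr (Subgroup.subgroupOfEquivOfLe hKΓ).toEquiv]
  exact congrArg _ (Fintype.sum_equiv (Subgroup.subgroupOfEquivOfLe hKΓ).toEquiv _ _ fun k => rfl)

/-- The quotient of degrees divides the index. -/
theorem exists_ratio [Finite G] {K Γ : Subgroup G} (hKΓ : K ≤ Γ)
    (hn : Γ ≤ Subgroup.normalizer (K : Set G)) (χ : IrrCharacter Γ) (θ : IrrCharacter K)
    (hne : classInner (res hKΓ (χ : Γ → ℂ)) (θ : K → ℂ) ≠ 0) :
    ∃ k : ℕ, (χ : Γ → ℂ) 1 = k * (θ : K → ℂ) 1 ∧ k ∣ (K.subgroupOf Γ).index := by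
  have := subgroupOf_normal hn
  let e := Subgroup.subgroupOfEquivOfLe hKΓ
  obtain ⟨k, hk, hki⟩ := exists_ratio_dvd_index (N := K.subgroupOf Γ) χ.2
    (θ := fun x => (θ : K → ℂ) (e x)) ((isIrrCharacter_comp_equiv e).2 θ.2) (by
      rw [← classInner_subgroupOf' hKΓ] at hne
      exact hne)
  exact ⟨k, by simpa using hk, hki⟩

theorem exists_constituent [Finite G] {K Γ : Subgroup G} (hKΓ : K ≤ Γ) (χ : IrrCharacter Γ) :
    ∃ θ : IrrCharacter K, classInner (res hKΓ (χ : Γ → ℂ)) (θ : K → ℂ) ≠ 0 := by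
  by_contra h
  push Not at h
  have hexp := classFun_expansion (isClassFunction_of_isCharacter
    (isCharacter_res' hKΓ (IsIrr.isCharacter χ.2)))
  have h1 := congrFun hexp 1
  simp only [h, zero_smul, Finset.sum_const_zero, Pi.zero_apply] at h1
  exact IsIrr.one_ne_zero χ.2 h1

variable [Finite G] {p : ℕ} [Fact p.Prime]

/-- A character of `p'`-degree restricts irreducibly to a normal subgroup of `p`-power index. -/
theorem exists_res_eq {K Γ : Subgroup G} (hKΓ : K ≤ Γ) (hn : Γ ≤ Subgroup.normalizer (K : Set G))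
    {m : ℕ} (hidx : (K.subgroupOf Γ).index ∣ p ^ m) (χ : IrrCharacter Γ)
    (hχ : ¬ p ∣ charDegree (χ : Γ → ℂ)) :
    ∃ θ : IrrCharacter K, res hKΓ (χ : Γ → ℂ) = (θ : K → ℂ) := by
  obtain ⟨θ, hθ⟩ := exists_constituent hKΓ χ
  obtain ⟨k, hk, hki⟩ := exists_ratio hKΓ hn χ θ hθ
  obtain ⟨d, -, hd⟩ := IsIrr.degree θ.2
  rw [hd, ← Nat.cast_mul] at hk
  rw [charDegree_eq_natCast hk] at hχ
  obtain ⟨i, -, rfl⟩ := (Nat.dvd_prime_pow (Fact.out : p.Prime)).1 (hki.trans hidx)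
  have hi : i = 0 := by
    by_contra hi
    exact hχ ((dvd_pow_self p hi).mul_right d)
  subst hi
  refine ⟨θ, eq_of_inner_of_degree (isCharacter_res' hKΓ (IsIrr.isCharacter χ.2)) θ.2 hθ ?_⟩
  rw [hd, res_apply]
  show (χ : Γ → ℂ) 1 = (d : ℂ)
  simpa using hk

section Setup

variable {K S : Subgroup G}

/-- The relation matching characters of `M = K ⊔ S` and `D = C ⊔ S`. -/
def Match (p : ℕ) {C M D : Subgroup G} (S : Subgroup G) (hCK : C ≤ K) (hKM : K ≤ M) (hCD : C ≤ D)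
    (hDM : D ≤ M) (ψ : IrrCharacter M) (ψ' : IrrCharacter D) : Prop :=
  ∃ (θ : IrrCharacter K) (φ : IrrCharacter C) (η : IrrCharacter M) (η' : IrrCharacter D)
    (μ : M →* ℂˣ),
    res hKM (η : M → ℂ) = (θ : K → ℂ) ∧ (∀ g : M, (g : G) ∈ S → detChar (η : M → ℂ) g = 1) ∧
    res hCD (η' : D → ℂ) = (φ : C → ℂ) ∧ (∀ g : D, (g : G) ∈ S → detChar (η' : D → ℂ) g = 1) ∧
    S ≤ stab K (θ : K → ℂ) ∧ Cor p hCK θ φ ∧ (∀ g : M, (g : G) ∈ K → μ g = 1) ∧
    (ψ : M → ℂ) = (fun g => (μ g : ℂ) * (η : M → ℂ) g) ∧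
    (ψ' : D → ℂ) = fun g : D => (μ ⟨g, hDM g.2⟩ : ℂ) * (η' : D → ℂ) g

variable {C M D : Subgroup G} {hCK : C ≤ K} {hKM : K ≤ M} {hCD : C ≤ D} {hDM : D ≤ M}

theorem Match.res_left {ψ : IrrCharacter M} {ψ' : IrrCharacter D}
    (h : Match p S hCK hKM hCD hDM ψ ψ') :
    ∃ (θ : IrrCharacter K) (φ : IrrCharacter C), res hKM (ψ : M → ℂ) = (θ : K → ℂ) ∧
      res hCD (ψ' : D → ℂ) = (φ : C → ℂ) ∧ S ≤ stab K (θ : K → ℂ) ∧ Cor p hCK θ φ := by
  obtain ⟨θ, φ, η, η', μ, h1, -, h3, -, h5, h6, h7, h8, h9⟩ := h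
  refine ⟨θ, φ, funext fun k => ?_, funext fun c => ?_, h5, h6⟩
  · rw [res_apply, h8]
    show (μ _ : ℂ) * (η : M → ℂ) _ = _
    rw [h7 _ k.2, Units.val_one, one_mul]
    exact congrFun h1 k
  · rw [res_apply, h9]
    show (μ _ : ℂ) * (η' : D → ℂ) _ = _
    rw [h7 _ (hCK c.2), Units.val_one, one_mul]
    exact congrFun h3 c

variable (hM : M = K ⊔ S) (hD : D = C ⊔ S) (hC : C = K ⊓ Subgroup.centralizer (S : Set G))
  (hSK : S ≤ Subgroup.normalizer (K : Set G)) (hS : IsPGroup p S) (hK : ¬ p ∣ Nat.card K)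

include hC hSK in
omit [Finite G] [Fact p.Prime] in
theorem le_normalizer_C : S ≤ Subgroup.normalizer (C : Set G) :=
  fun s hs => hC ▸ normalizer_inf_centralizer (hSK hs) (Subgroup.le_normalizer hs)

include hC hK in
theorem not_dvd_C : ¬ p ∣ Nat.card C :=
  fun h => hK (h.trans (Subgroup.card_dvd_of_le (hC ▸ inf_le_left)))

include hM hD hC hSK hS hK in
theorem exists_match (ψ : IrrCharacter M) (hψ : ¬ p ∣ charDegree (ψ : M → ℂ)) :
    ∃ ψ' : IrrCharacter D, Match p S hCK hKM hCD hDM ψ ψ' := by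
  have hn : M ≤ Subgroup.normalizer (K : Set G) := hM.le.trans (sup_le Subgroup.le_normalizer hSK)
  obtain ⟨m, hm⟩ := IsPGroup.iff_card.1 hS
  obtain ⟨θ, hθ⟩ := exists_res_eq hKM hn (m := m) (hm ▸ index_subgroupOf_dvd hM hSK) ψ hψ
  have hθS : S ≤ stab K (θ : K → ℂ) := by
    intro s hs
    refine ⟨hSK hs, fun k k' h => ?_⟩
    rw [← hθ, res_apply, res_apply]
    have hsM : s ∈ M := hM ▸ (le_sup_right : S ≤ K ⊔ S) hs
    have := isClassFunction_of_isIrr ψ.2 (⟨k, hKM k.2⟩ : M) ⟨s, hsM⟩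
    convert this using 2
    exact Subtype.ext h
  obtain ⟨φ, hφ, -⟩ := (glauberman hSK hS hK hC hCK).1 θ hθS
  obtain ⟨η, hη, hηd⟩ := exists_canon hM hSK hS hK hKM θ hθS
  obtain ⟨η', hη', hη'd⟩ := exists_canon hD (le_normalizer_C hC hSK) hS (not_dvd_C hC hK) hCD φ
    fun s hs => cor_fixed hSK hS hK hC hθS hφ (hθS hs) (le_normalizer_C hC hSK hs)
  obtain ⟨μ, hμ, hμψ⟩ := exists_twist hKM hn η ψ (hθ.trans hη.symm) (hη ▸ θ.2)
  exact ⟨⟨_, isIrr_hom_mul (μ.comp (Subgroup.inclusion hDM)) η'.2⟩, θ, φ, η, η', μ, hη, hηd, hη',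
    hη'd, hθS, hφ, hμ, funext hμψ, rfl⟩

include hM hD hC hSK hS hK in
theorem exists_match' (hdisj : K ⊓ S = ⊥) (ψ' : IrrCharacter D)
    (hψ : ¬ p ∣ charDegree (ψ' : D → ℂ)) :
    ∃ ψ : IrrCharacter M, Match p S hCK hKM hCD hDM ψ ψ' := by
  have hn : D ≤ Subgroup.normalizer (C : Set G) :=
    hD.le.trans (sup_le Subgroup.le_normalizer (le_normalizer_C hC hSK))
  obtain ⟨m, hm⟩ := IsPGroup.iff_card.1 hS
  obtain ⟨φ, hφ⟩ := exists_res_eq hCD hn (m := m)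
    (hm ▸ index_subgroupOf_dvd hD (le_normalizer_C hC hSK)) ψ' hψ
  obtain ⟨θ, hθS, hc⟩ := (glauberman hSK hS hK hC hCK).2.2 φ
  obtain ⟨η, hη, hηd⟩ := exists_canon hM hSK hS hK hKM θ hθS
  obtain ⟨η', hη', hη'd⟩ := exists_canon hD (le_normalizer_C hC hSK) hS (not_dvd_C hC hK) hCD φ
    fun s hs => cor_fixed hSK hS hK hC hθS hc (hθS hs) (le_normalizer_C hC hSK hs)
  obtain ⟨ν, hν, hνψ⟩ := exists_twist hCD hn η' ψ' (hφ.trans hη'.symm) (hη' ▸ φ.2)
  -- extend `ν` to `M`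
  have hnK : M ≤ Subgroup.normalizer (K : Set G) :=
    hM.le.trans (sup_le Subgroup.le_normalizer hSK)
  have := subgroupOf_normal hnK
  let f : D →* M ⧸ K.subgroupOf M :=
    (QuotientGroup.mk' (K.subgroupOf M)).comp (Subgroup.inclusion hDM)
  have hSD : S ≤ D := hD ▸ le_sup_right
  have hf : Function.Surjective f := by
    intro q
    obtain ⟨g, rfl⟩ := QuotientGroup.mk_surjective q
    have hg : (g : G) ∈ ((K ⊔ S : Subgroup G) : Set G) := by rw [← hM]; exact g.2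
    rw [Subgroup.coe_mul_of_right_le_normalizer_left K S hSK] at hg
    obtain ⟨k, hk, s, hs, hks⟩ := Set.mem_mul.1 hg
    refine ⟨⟨s, hSD hs⟩, ?_⟩
    show QuotientGroup.mk (⟨s, hDM (hSD hs)⟩ : M) = _
    rw [eq_comm, QuotientGroup.eq, Subgroup.mem_subgroupOf]
    show (g : G)⁻¹ * s ∈ K
    rw [← hks, show (k * s)⁻¹ * s = s⁻¹ * k⁻¹ * s by group]
    exact conj_mem' (hSK hs) (inv_mem hk)
  have hker : f.ker ≤ ν.ker := by
    intro g hg
    refine hν g ?_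
    rw [MonoidHom.mem_ker] at hg
    have hgK : (g : G) ∈ K := Subgroup.mem_subgroupOf.1 ((QuotientGroup.eq_one_iff (N := K.subgroupOf M) (Subgroup.inclusion hDM g)).1 hg)
    have hgD : (g : G) ∈ ((C ⊔ S : Subgroup G) : Set G) := by rw [← hD]; exact g.2
    rw [Subgroup.coe_mul_of_right_le_normalizer_left C S (le_normalizer_C hC hSK)] at hgD
    obtain ⟨c, hc, s, hs, hcs⟩ := Set.mem_mul.1 hgD
    have hsK : s ∈ K ⊓ S := Subgroup.mem_inf.2 ⟨by
      rw [show s = c⁻¹ * (c * s) by group, hcs]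
      exact mul_mem (inv_mem (hCK hc)) hgK, hs⟩
    rw [hdisj, Subgroup.mem_bot] at hsK
    rw [← hcs, hsK, mul_one]
    exact hc
  let μ : M →* ℂˣ := (f.liftOfSurjective hf ⟨ν, hker⟩).comp (QuotientGroup.mk' (K.subgroupOf M))
  have hμ : ∀ g : M, (g : G) ∈ K → μ g = 1 := by
    intro g hg
    show f.liftOfSurjective hf ⟨ν, hker⟩ (QuotientGroup.mk g) = 1
    rw [(QuotientGroup.eq_one_iff g).2 (Subgroup.mem_subgroupOf.2 hg), map_one]
  have hμν : ∀ g : D, μ ⟨g, hDM g.2⟩ = ν g := fun g =>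
    MonoidHom.liftOfRightInverse_comp_apply f _ (Function.rightInverse_surjInv hf) ⟨ν, hker⟩ g
  refine ⟨⟨_, isIrr_hom_mul μ η.2⟩, θ, φ, η, η', μ, hη, hηd, hη', hη'd, hθS, hc, hμ, rfl, ?_⟩
  funext g
  rw [hνψ, hμν]

include hM hD hC hSK hS hK in
theorem Match.unique {ψ : IrrCharacter M} {a b : IrrCharacter D}
    (ha : Match p S hCK hKM hCD hDM ψ a) (hb : Match p S hCK hKM hCD hDM ψ b) : a = b := by
  obtain ⟨θ1, φ1, η1, η1', μ1, a1, a2, a3, a4, a5, a6, a7, a8, a9⟩ := id ha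
  obtain ⟨θ2, φ2, η2, η2', μ2, b1, b2, b3, b4, b5, b6, b7, b8, b9⟩ := id hb
  obtain ⟨θa, -, r1, -, -, -⟩ := ha.res_left
  obtain rfl : θ1 = θ2 := by
    refine Subtype.ext (funext fun k => ?_)
    rw [← a1, ← b1, res_apply, res_apply]
    have e1 := congrFun a8 ⟨k, hKM k.2⟩
    have e2 := congrFun b8 ⟨k, hKM k.2⟩
    rw [a7 _ k.2, Units.val_one, one_mul] at e1
    rw [b7 _ k.2, Units.val_one, one_mul] at e2
    rw [← e1, ← e2]
  obtain rfl : φ1 = φ2 := ((glauberman hSK hS hK hC hCK).1 θ1 a5).unique a6 b6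
  obtain rfl : η1 = η2 := canon_unique hM hSK hS hK hKM θ1 a1 b1 a2 b2
  obtain rfl : η1' = η2' :=
    canon_unique hD (le_normalizer_C hC hSK) hS (not_dvd_C hC hK) hCD φ1 a3 b3 a4 b4
  have hn : M ≤ Subgroup.normalizer (K : Set G) := hM.le.trans (sup_le Subgroup.le_normalizer hSK)
  have hμ : μ2 / μ1 = 1 := twist_eq_one hKM hn η1 (a1 ▸ θ1.2) _
    (fun g hg => by rw [MonoidHom.div_apply, a7 g hg, b7 g hg, div_one]) fun g => by
      have e : (μ1 g : ℂ) * (η1 : M → ℂ) g = (μ2 g : ℂ) * (η1 : M → ℂ) g :=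
        (congrFun a8 g).symm.trans (congrFun b8 g)
      rw [MonoidHom.div_apply, Units.val_div_eq_div_val, div_mul_eq_mul_div, ← e,
        mul_div_cancel_left₀ _ (μ1 g).ne_zero]
  have hμe : μ2 = μ1 := MonoidHom.ext fun g => div_eq_one.1 (DFunLike.congr_fun hμ g)
  exact Subtype.ext (by rw [a9, b9, hμe])

include hM hD hC hSK hS hK in
theorem Match.inj {a b : IrrCharacter M} {ψ' : IrrCharacter D}
    (ha : Match p S hCK hKM hCD hDM a ψ') (hb : Match p S hCK hKM hCD hDM b ψ') : a = b := by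
  obtain ⟨θ1, φ1, η1, η1', μ1, a1, a2, a3, a4, a5, a6, a7, a8, a9⟩ := ha
  obtain ⟨θ2, φ2, η2, η2', μ2, b1, b2, b3, b4, b5, b6, b7, b8, b9⟩ := hb
  obtain rfl : φ1 = φ2 := by
    refine Subtype.ext (funext fun k => ?_)
    rw [← a3, ← b3, res_apply, res_apply]
    have e1 := congrFun a9 ⟨k, hCD k.2⟩
    have e2 := congrFun b9 ⟨k, hCD k.2⟩
    rw [a7 _ (hCK k.2), Units.val_one, one_mul] at e1
    rw [b7 _ (hCK k.2), Units.val_one, one_mul] at e2
    rw [← e1, ← e2]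
  obtain rfl : θ1 = θ2 := (glauberman hSK hS hK hC hCK).2.1 θ1 θ2 φ1 a5 b5 a6 b6
  obtain rfl : η1 = η2 := canon_unique hM hSK hS hK hKM θ1 a1 b1 a2 b2
  obtain rfl : η1' = η2' :=
    canon_unique hD (le_normalizer_C hC hSK) hS (not_dvd_C hC hK) hCD φ1 a3 b3 a4 b4
  have hn : D ≤ Subgroup.normalizer (C : Set G) :=
    hD.le.trans (sup_le Subgroup.le_normalizer (le_normalizer_C hC hSK))
  have hμ : (μ2 / μ1).comp (Subgroup.inclusion hDM) = 1 := twist_eq_one hCD hn η1' (a3 ▸ φ1.2) _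
    (fun g hg => by
      show (μ2 / μ1) (⟨g, hDM g.2⟩ : M) = 1
      rw [MonoidHom.div_apply, a7 _ (hCK hg), b7 _ (hCK hg), div_one]) fun g => by
      show _ = ((μ2 / μ1) (⟨g, hDM g.2⟩ : M) : ℂ) * _
      have e : (μ1 ⟨g, hDM g.2⟩ : ℂ) * (η1' : D → ℂ) g = (μ2 ⟨g, hDM g.2⟩ : ℂ) * (η1' : D → ℂ) g :=
        (congrFun a9 g).symm.trans (congrFun b9 g)
      rw [MonoidHom.div_apply, Units.val_div_eq_div_val, div_mul_eq_mul_div, ← e,
        mul_div_cancel_left₀ _ (μ1 ⟨g, hDM g.2⟩).ne_zero]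
  have hμ' : μ2 / μ1 = 1 := sup_hom_ext hM
    (fun g hg => by rw [MonoidHom.div_apply, a7 g hg, b7 g hg, div_one]) fun g hg => by
      have hgD : (g : G) ∈ D := hD ▸ (le_sup_right : S ≤ C ⊔ S) hg
      have := DFunLike.congr_fun hμ ⟨g, hgD⟩
      exact this
  have hμe : μ2 = μ1 := MonoidHom.ext fun g => div_eq_one.1 (DFunLike.congr_fun hμ' g)
  exact Subtype.ext (by rw [a8, b8, hμe])

theorem detChar_cjc {H : Subgroup G} {x : G} (hx : x ∈ Subgroup.normalizer (H : Set G))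
    (η : IrrCharacter H) (g : H) : detChar (cjc hx η : H → ℂ) g =
      detChar (η : H → ℂ) ⟨x * g * x⁻¹, conj_mem hx g.2⟩ := by
  let c : H →* H := MonoidHom.mk' (fun g => ⟨x * g * x⁻¹, conj_mem hx g.2⟩)
    fun a b => Subtype.ext (by simp [mul_assoc])
  exact congrFun (detChar_comp (IsIrr.isCharacter η.2) c) g

include hC in
theorem Match.conj {x : G} (hxK : x ∈ Subgroup.normalizer (K : Set G))
    (hxS : x ∈ Subgroup.normalizer (S : Set G)) (hxM : x ∈ Subgroup.normalizer (M : Set G))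
    (hxD : x ∈ Subgroup.normalizer (D : Set G)) {ψ : IrrCharacter M} {ψ' : IrrCharacter D}
    (h : Match p S hCK hKM hCD hDM ψ ψ') :
    Match p S hCK hKM hCD hDM (cjc hxM ψ) (cjc hxD ψ') := by
  have hxC : x ∈ Subgroup.normalizer (C : Set G) := hC ▸ normalizer_inf_centralizer hxK hxS
  obtain ⟨θ, φ, η, η', μ, h1, h2, h3, h4, h5, h6, h7, h8, h9⟩ := h
  refine ⟨cjc hxK θ, cjc hxC φ, cjc hxM η, cjc hxD η',
    μ.comp (MonoidHom.mk' (fun g : M => (⟨x * g * x⁻¹, conj_mem hxM g.2⟩ : M))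
      fun a b => Subtype.ext (by simp [mul_assoc])), ?_, ?_, ?_, ?_, ?_, cor_cjc h6 hxK hxC, ?_, ?_,
    ?_⟩
  · funext k
    rw [res_apply, cjc_apply, cjc_apply, ← h1]
    rfl
  · intro g hg
    rw [detChar_cjc]
    exact h2 _ (conj_mem hxS hg)
  · funext k
    rw [res_apply, cjc_apply, cjc_apply, ← h3]
    rfl
  · intro g hg
    rw [detChar_cjc]
    exact h4 _ (conj_mem hxS hg)
  · intro s hs
    have := stab_cjc hxK (h5 (conj_mem hxS hs))
    simpa [mul_assoc] using this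
  · intro g hg
    exact h7 _ (conj_mem hxK hg)
  · funext g
    rw [cjc_apply, h8]
    rfl
  · funext g
    rw [cjc_apply, h9]
    rfl

include hM hD hC hSK hS hK in
/-- Matched characters have the same stabiliser in the normaliser of `S`. -/
theorem Match.fixed_iff {x : G} (hxK : x ∈ Subgroup.normalizer (K : Set G))
    (hxS : x ∈ Subgroup.normalizer (S : Set G)) (hxM : x ∈ Subgroup.normalizer (M : Set G))
    (hxD : x ∈ Subgroup.normalizer (D : Set G)) {ψ : IrrCharacter M} {ψ' : IrrCharacter D}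
    (h : Match p S hCK hKM hCD hDM ψ ψ') :
    IsConjCharOf M x (ψ : M → ℂ) (ψ : M → ℂ) ↔ IsConjCharOf D x (ψ' : D → ℂ) (ψ' : D → ℂ) := by
  have hc := h.conj hC hxK hxS hxM hxD
  rw [← cjc_eq_iff hxM, ← cjc_eq_iff hxD]
  constructor
  · intro e
    rw [e] at hc
    exact Match.unique hM hD hC hSK hS hK hc h
  · intro e
    rw [e] at hc
    exact Match.inj hM hD hC hSK hS hK hc h

theorem mem_center_of_mem {H : Subgroup G} {z : G} (hz : z ∈ Subgroup.center G) (h : z ∈ H) :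
    (⟨z, h⟩ : H) ∈ Subgroup.center H :=
  Subgroup.mem_center_iff.2 fun g => Subtype.ext (Subgroup.mem_center_iff.1 hz g)

include hM hD hC hSK hS hK in
/-- Matched characters have `p'`-degree and the same central scalars. -/
theorem Match.pl_iff {Z : Subgroup G} (hZ : Z ≤ Subgroup.center G) (hZD : Z ≤ D)
    (lam : Z →* ℂˣ) {ψ : IrrCharacter M} {ψ' : IrrCharacter D}
    (h : Match p S hCK hKM hCD hDM ψ ψ') :
    Pl p M Z lam ψ ↔ Pl p D Z lam ψ' := by
  obtain ⟨θ, φ, η, η', μ, h1, h2, h3, h4, h5, h6, h7, h8, h9⟩ := h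
  obtain ⟨d, hd, hdp, hd0⟩ := not_dvd_degree hK θ
  obtain ⟨e, he, hep, he0⟩ := not_dvd_degree (not_dvd_C hC hK) φ
  have hη1 : (η : M → ℂ) 1 = d := by rw [← hd, ← h1]; rfl
  have hη'1 : (η' : D → ℂ) 1 = e := by rw [← he, ← h3]; rfl
  have hψ1 : (ψ : M → ℂ) 1 = d := by rw [h8]; simp [hη1]
  have hψ'1 : (ψ' : D → ℂ) 1 = e := by
    rw [h9]
    show (μ (1 : M) : ℂ) * (η' : D → ℂ) 1 = e
    simp [hη'1]
  obtain ⟨m, hm⟩ := IsPGroup.iff_card.1 hS
  have hcop : ∀ {n : ℕ}, ¬ p ∣ n → (p ^ m).Coprime n := fun hn' =>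
    (((Fact.out : p.Prime).coprime_iff_not_dvd).2 hn').pow_left m
  have key : ∀ (z : Z), ∃ c : ℂ, ∀ (hzM : (z : G) ∈ M) (hzD : (z : G) ∈ D),
      (ψ : M → ℂ) ⟨z, hzM⟩ = c * (d : ℂ) ∧ (ψ' : D → ℂ) ⟨z, hzD⟩ = c * (e : ℂ) := by
    intro z
    have hzD : (z : G) ∈ ((C ⊔ S : Subgroup G) : Set G) := by rw [← hD]; exact hZD z.2
    rw [Subgroup.coe_mul_of_right_le_normalizer_left C S (le_normalizer_C hC hSK)] at hzD
    obtain ⟨k, hk, s, hs, hks⟩ := Set.mem_mul.1 hzD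
    have hcomm : Commute k s :=
      (Subgroup.mem_centralizer_iff.1 (Subgroup.mem_inf.1 (hC ▸ hk)).2 s hs).symm
    have hspow : s ^ p ^ m = 1 := by
      have := pow_card_eq_one' (x := (⟨s, hs⟩ : S))
      rw [hm] at this
      exact congrArg Subtype.val this
    have hkC : k ^ Nat.card C = 1 := by
      have := pow_card_eq_one' (x := (⟨k, hk⟩ : C))
      exact congrArg Subtype.val this
    have hkc : k ∈ Subgroup.center G := by
      have h1 : k ^ p ^ m ∈ Subgroup.center G := by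
        have := pow_mem (hZ z.2) (p ^ m)
        rwa [← hks, hcomm.mul_pow, hspow, mul_one] at this
      obtain ⟨j, hj⟩ := exists_pow_eq_self_of_coprime (x := k) (n := p ^ m)
        (Nat.Coprime.of_dvd_right (orderOf_dvd_of_pow_eq_one hkC) (hcop (not_dvd_C hC hK)))
      exact hj ▸ pow_mem h1 j
    have hsc : s ∈ Subgroup.center G := by
      rw [show s = k⁻¹ * (k * s) by group, hks]
      exact mul_mem (inv_mem hkc) (hZ z.2)
    have hsM : s ∈ M := hM ▸ (le_sup_right : S ≤ K ⊔ S) hs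
    have hsD : s ∈ D := hD ▸ (le_sup_right : S ≤ C ⊔ S) hs
    obtain ⟨a, ha, -⟩ := central_scalar θ.2 (mem_center_of_mem hkc (hCK hk))
    obtain ⟨a', ha', ha'o, -⟩ := central_scalar φ.2 (mem_center_of_mem hkc hk)
    have haa : (a : ℂ) = a' := scalar_eq_of_inner (k := (⟨k, hk⟩ : C))
      (fun x => ha ⟨x, hCK x.2⟩) ha' (conj_unit_eq_inv (orderOf_pos _).ne' ha'o) h6.ne_zero
    obtain ⟨b, hb, hbo, hbd⟩ := central_scalar η.2 (mem_center_of_mem hsc hsM)
    obtain ⟨b', hb', hb'o, hb'd⟩ := central_scalar η'.2 (mem_center_of_mem hsc hsD)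
    have hb1 : b = 1 := by
      refine eq_one_of_pow_coprime ?_ ?_ (hcop hdp)
      · refine orderOf_dvd_iff_pow_eq_one.1 ((orderOf_dvd_of_pow_eq_one hbo).trans ?_)
        exact orderOf_dvd_of_pow_eq_one (Subtype.ext (by simpa using hspow))
      · refine Units.ext ?_
        rw [Units.val_pow_eq_pow_val, ← hbd d hη1, h2 _ hs, Units.val_one]
    have hb'1 : b' = 1 := by
      refine eq_one_of_pow_coprime ?_ ?_ (hcop hep)
      · refine orderOf_dvd_iff_pow_eq_one.1 ((orderOf_dvd_of_pow_eq_one hb'o).trans ?_)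
        exact orderOf_dvd_of_pow_eq_one (Subtype.ext (by simpa using hspow))
      · refine Units.ext ?_
        rw [Units.val_pow_eq_pow_val, ← hb'd e hη'1, h4 _ hs, Units.val_one]
    refine ⟨(μ ⟨z, hDM (hZD z.2)⟩ : ℂ) * a, fun hzM hzD' => ?_⟩
    constructor
    · rw [h8]
      show (μ _ : ℂ) * _ = _
      have e1 : (η : M → ℂ) ⟨z, hzM⟩ = (a : ℂ) * d := by
        rw [show (⟨z, hzM⟩ : M) = ⟨s, hsM⟩ * ⟨k, hKM (hCK hk)⟩ from
          Subtype.ext (by rw [Subgroup.coe_mul]; exact (hks.symm.trans hcomm.eq)),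
          hb, hb1, Units.val_one, one_mul]
        have e2 := congrFun h1 ⟨k, hCK hk⟩
        rw [res_apply] at e2
        have e3 := ha 1
        rw [mul_one, hd] at e3
        rw [e2, e3]
      rw [e1]
      ring
    · rw [h9]
      show (μ _ : ℂ) * _ = _
      have e1 : (η' : D → ℂ) ⟨z, hzD'⟩ = (a : ℂ) * e := by
        rw [show (⟨z, hzD'⟩ : D) = ⟨s, hsD⟩ * ⟨k, hCD hk⟩ from
          Subtype.ext (by rw [Subgroup.coe_mul]; exact (hks.symm.trans hcomm.eq)),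
          hb', hb'1, Units.val_one, one_mul]
        have e2 := congrFun h3 ⟨k, hk⟩
        rw [res_apply] at e2
        have e3 := ha' 1
        rw [mul_one, he] at e3
        rw [e2, e3, haa]
      rw [e1]
      ring
  constructor
  · rintro ⟨-, h⟩
    refine ⟨by rwa [charDegree_eq_natCast hψ'1], fun z hz => ?_⟩
    obtain ⟨c, hc⟩ := key z
    obtain ⟨c1, c2⟩ := hc (hDM hz) hz
    have h' := h z (hDM hz)
    rw [c1, hψ1] at h'
    rw [c2, hψ'1, mul_right_cancel₀ (Nat.cast_ne_zero.2 hd0.ne') h']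
  · rintro ⟨-, h⟩
    refine ⟨by rwa [charDegree_eq_natCast hψ1], fun z hz => ?_⟩
    obtain ⟨c, hc⟩ := key z
    obtain ⟨c1, c2⟩ := hc hz (hZD z.2)
    have h' := h z (hZD z.2)
    rw [c2, hψ'1] at h'
    rw [c1, hψ1, mul_right_cancel₀ (Nat.cast_ne_zero.2 he0.ne') h']

end Setup

end Cfsg.Agent.RelMcKay
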