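import Cfsg.Agent.RelMcKay.Key
import Cfsg.Agent.ProjExt.Criteria
import Cfsg.Agent.ProjExt.Linear
import Cfsg.Agent.ProjExt.Det
import Cfsg.Agent.Char.Integral
import Cfsg.Agent.Char.UniqueDivisible

/-!
# Scalars of central elements, and the canonical extension over a `p`-group
-/

set_option autoImplicit false

namespace Cfsg.Agent.RelMcKay

open Cfsg.Agent.ProjExt Cfsg.Agent.Char
open scoped ComplexConjugate

universe u

noncomputable local instance canonFin {α : Type u} [Finite α] : Fintype α := Fintype.ofFinite α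

variable {H : Type u} [Group H] [Finite H]

/-- A central element acts by a scalar. -/
theorem central_scalar {χ : H → ℂ} (hχ : IsIrrCharacter H χ) {k : H}
    (hk : k ∈ Subgroup.center H) :
    ∃ c : ℂˣ, (∀ x, χ (k * x) = (c : ℂ) * χ x) ∧ c ^ orderOf k = 1 ∧
      ∀ d : ℕ, χ 1 = d → detChar χ k = (c : ℂ) ^ d := by
  obtain ⟨d, ρ, hρi, hρ⟩ := id hχ
  obtain ⟨c, hc⟩ := exists_scalar_of_commute hχ ρ hρ (repU ρ k) fun m => by
    rw [← map_mul, ← map_mul, Subgroup.mem_center_iff.1 hk m]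
  have hρk : ρ k = (c : ℂ) • (1 : Module.End ℂ (Fin d → ℂ)) := by
    rw [← repU_val ρ k, hc, scalarU_val, Algebra.algebraMap_eq_smul_one]
  have hχ1 : χ 1 = (d : ℂ) := by rw [← hρ, ρ.char_one, Module.finrank_fin_fun]
  refine ⟨c, fun x => ?_, ?_, fun e he => ?_⟩
  · rw [← hρ]
    show LinearMap.trace ℂ _ (ρ (k * x)) = (c : ℂ) * LinearMap.trace ℂ _ (ρ x)
    rw [map_mul, hρk, smul_mul_assoc, one_mul, map_smul, smul_eq_mul]
  · obtain ⟨n, hn, hn1⟩ := IsIrr.degree hχ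
    have hd : 0 < d := by
      have : (n : ℂ) = d := hn1.symm.trans hχ1
      have h2 : n = d := by exact_mod_cast this
      omega
    refine scalarU_injective hd ?_
    rw [map_pow, map_one, ← hc, ← map_pow, pow_orderOf_eq_one, map_one]
  · have he' : d = e := by exact_mod_cast hχ1.symm.trans he
    subst he'
    rw [detChar_eq_det ρ hρ]
    show LinearMap.det (ρ k) = _
    rw [hρk, LinearMap.det_smul, map_one, mul_one, Module.finrank_fin_fun]

theorem conj_unit_eq_inv {c : ℂˣ} {n : ℕ} (hn : n ≠ 0) (h : c ^ n = 1) :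
    (c : ℂ) * conj (c : ℂ) = 1 := by
  rw [Complex.mul_conj', Complex.norm_eq_one_of_pow_eq_one
    (by rw [← Units.val_pow_eq_pow_val, h, Units.val_one]) hn]
  simp

/-- Two scalars agree when the functions are not orthogonal. -/
theorem scalar_eq_of_inner {f1 f2 : H → ℂ} {k : H} {c c' : ℂ} (h1 : ∀ x, f1 (k * x) = c * f1 x)
    (h2 : ∀ x, f2 (k * x) = c' * f2 x) (hc' : c' * conj c' = 1) (hne : classInner f1 f2 ≠ 0) :
    c = c' := by
  have h : classInner f1 f2 = (c * conj c') * classInner f1 f2 := by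
    simp only [classInner, Finset.mul_sum]
    conv_lhs => rw [← Equiv.sum_comp (Equiv.mulLeft k)]
    refine Finset.sum_congr rfl fun x _ => ?_
    rw [Equiv.coe_mulLeft, h1, h2, map_mul]
    ring
  have h3 : c * conj c' = 1 := by
    have := mul_eq_right₀ hne |>.1 h.symm
    exact this
  calc c = c * (c' * conj c') := by rw [hc', mul_one]
    _ = (c * conj c') * c' := by ring
    _ = c' := by rw [h3, one_mul]

theorem eq_one_of_pow_coprime {M : Type*} [Monoid M] {a : M} {m n : ℕ} (h : a ^ m = 1)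
    (h' : a ^ n = 1) (hc : m.Coprime n) : a = 1 :=
  orderOf_eq_one_iff.1 (Nat.eq_one_of_dvd_coprimes hc (orderOf_dvd_of_pow_eq_one h)
    (orderOf_dvd_of_pow_eq_one h'))

/-- A character with a constituent of the same degree is that constituent. -/
theorem eq_of_inner_of_degree {f θ : H → ℂ} (hf : IsCharacter H f) (hθ : IsIrrCharacter H θ)
    (hne : classInner f θ ≠ 0) (h1 : f 1 = θ 1) : f = θ := by
  classical
  choose a ha using fun γ : IrrCharacter H =>
    classInner_isCharacter_eq_natCast hf (IsIrr.isCharacter γ.2)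
  choose d hd0 hd using fun γ : IrrCharacter H => IsIrr.degree γ.2
  have hexp := classFun_expansion (isClassFunction_of_isCharacter hf)
  simp only [ha] at hexp
  have hsum : ∑ γ, a γ * d γ = d ⟨θ, hθ⟩ := by
    have h := congrFun hexp 1
    rw [h1, show θ 1 = (d ⟨θ, hθ⟩ : ℂ) from hd ⟨θ, hθ⟩] at h
    simp only [Finset.sum_apply, Pi.smul_apply, smul_eq_mul, hd] at h
    exact_mod_cast h.symm
  have ha0 : 1 ≤ a ⟨θ, hθ⟩ := by
    refine Nat.one_le_iff_ne_zero.2 fun h0 => hne ?_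
    rw [show classInner f θ = (a ⟨θ, hθ⟩ : ℂ) from ha ⟨θ, hθ⟩, h0, Nat.cast_zero]
  rw [← Finset.add_sum_erase _ _ (Finset.mem_univ (⟨θ, hθ⟩ : IrrCharacter H))] at hsum
  have hle := Nat.le_mul_of_pos_left (d ⟨θ, hθ⟩) ha0
  have hz : ∑ γ ∈ Finset.univ.erase (⟨θ, hθ⟩ : IrrCharacter H), a γ * d γ = 0 := by omega
  rw [hz, add_zero] at hsum
  have ha1 : a ⟨θ, hθ⟩ = 1 := (Nat.mul_eq_right (hd0 _).ne').1 hsum
  rw [hexp, Finset.sum_eq_single (⟨θ, hθ⟩ : IrrCharacter H)]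
  · rw [ha1, Nat.cast_one, one_smul]
  · intro γ _ hγ
    have h3 := (Finset.sum_eq_zero_iff.1 hz) γ (Finset.mem_erase.2 ⟨hγ, Finset.mem_univ _⟩)
    rw [(Nat.mul_eq_zero.1 h3).resolve_right (hd0 γ).ne', Nat.cast_zero, zero_smul]
  · simp

theorem not_dvd_degree {p : ℕ} (hH : ¬ p ∣ Nat.card H) (θ : IrrCharacter H) :
    ∃ d : ℕ, (θ : H → ℂ) 1 = d ∧ ¬ p ∣ d ∧ 0 < d := by
  obtain ⟨d, hd0, hd⟩ := IsIrr.degree θ.2
  exact ⟨d, hd, fun h => hH (h.trans (IsIrr.degree_dvd_card θ.2 hd)), hd0⟩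

section Canon

variable {G : Type u} [Group G] [Finite G] {p : ℕ} [Fact p.Prime] {K Γ S : Subgroup G}

theorem index_subgroupOf_dvd (hΓ : Γ = K ⊔ S) (hS : S ≤ Subgroup.normalizer (K : Set G)) :
    (K.subgroupOf Γ).index ∣ Nat.card S := by
  have hKΓ : K ≤ Γ := hΓ ▸ le_sup_left
  have h := (K.subgroupOf Γ).card_mul_index
  rw [Nat.card_congr (Subgroup.subgroupOfEquivOfLe hKΓ).toEquiv] at h
  refine Nat.dvd_of_mul_dvd_mul_left (Nat.card_pos (α := K)) ?_
  rw [h, hΓ]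
  exact card_sup_dvd hS

theorem sup_hom_ext (hΓ : Γ = K ⊔ S) {lam : Γ →* ℂˣ} (hK : ∀ g : Γ, (g : G) ∈ K → lam g = 1)
    (hS : ∀ g : Γ, (g : G) ∈ S → lam g = 1) : lam = 1 := by
  have hKΓ : K ≤ Γ := hΓ ▸ le_sup_left
  have hSΓ : S ≤ Γ := hΓ ▸ le_sup_right
  have h : Γ ≤ lam.ker.map Γ.subtype := by
    calc Γ = K ⊔ S := hΓ
      _ ≤ _ := sup_le (fun k hk => Subgroup.mem_map.2 ⟨⟨k, hKΓ hk⟩, hK _ hk, rfl⟩)
        fun s hs => Subgroup.mem_map.2 ⟨⟨s, hSΓ hs⟩, hS _ hs, rfl⟩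
  refine MonoidHom.ext fun g => ?_
  obtain ⟨g', hg', he⟩ := h g.2
  rw [← show g' = g from Subtype.ext he]
  exact hg'

/-- The canonical extension. -/
theorem exists_canon (hΓ : Γ = K ⊔ S) (hS : S ≤ Subgroup.normalizer (K : Set G))
    (hSp : IsPGroup p S) (hK : ¬ p ∣ Nat.card K) (hKΓ : K ≤ Γ) (θ : IrrCharacter K)
    (hθ : S ≤ stab K (θ : K → ℂ)) :
    ∃ η : IrrCharacter Γ, res hKΓ (η : Γ → ℂ) = (θ : K → ℂ) ∧
      ∀ g : Γ, (g : G) ∈ S → detChar (η : Γ → ℂ) g = 1 := by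
  have hp : p.Prime := Fact.out
  have hn : Γ ≤ Subgroup.normalizer (K : Set G) := hΓ.le.trans (sup_le Subgroup.le_normalizer hS)
  have hst : Γ ≤ stab K (θ : K → ℂ) :=
    hΓ.le.trans (sup_le (le_stab (isClassFunction_of_isIrr θ.2)) hθ)
  have hnorm := subgroupOf_normal hn
  let N := K.subgroupOf Γ
  let e := Subgroup.subgroupOfEquivOfLe hKΓ
  let θ' : N → ℂ := fun x => (θ : K → ℂ) (e x)
  have hθ' : IsIrrCharacter N θ' := (isIrrCharacter_comp_equiv e).2 θ.2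
  have hinv : ∀ (g : Γ) (n : N), θ' ⟨g * n * g⁻¹, hnorm.conj_mem _ n.2 g⟩ = θ' n :=
    fun g n => (hst g.2).2 (e n) _ rfl
  obtain ⟨d, hd, hdp, hd0⟩ := not_dvd_degree hK θ
  obtain ⟨m, hm⟩ := IsPGroup.iff_card.1 hSp
  have hidx : N.index ∣ p ^ m := hm ▸ index_subgroupOf_dvd hΓ hS
  have hcopn : ∀ {n : ℕ}, ¬ p ∣ n → (p ^ m).Coprime n :=
    fun hn' => ((hp.coprime_iff_not_dvd).2 hn').pow_left m
  obtain ⟨lam, hlam⟩ := exists_detChar_hom (IsIrr.isCharacter hθ')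
  have hlinv : ∀ (g : Γ) (n : N), lam ⟨g * n * g⁻¹, hnorm.conj_mem _ n.2 g⟩ = lam n := by
    intro g n
    let c : N →* N := MonoidHom.mk' (fun n => ⟨g * n * g⁻¹, hnorm.conj_mem _ n.2 g⟩)
      fun a b => Subtype.ext (by simp [mul_assoc])
    refine Units.ext ?_
    rw [← congrFun hlam, ← congrFun hlam]
    show detChar θ' (c n) = _
    rw [← congrFun (detChar_comp (IsIrr.isCharacter hθ') c) n,
      show (fun x => θ' (c x)) = θ' from funext fun x => hinv g x]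
  have hlo : orderOf lam ∣ Nat.card K :=
    orderOf_dvd_of_pow_eq_one (MonoidHom.ext fun n => by
      rw [MonoidHom.pow_apply, ← map_pow, MonoidHom.one_apply, ← Nat.card_congr e.toEquiv,
        pow_card_eq_one', map_one])
  have hlp : ¬ p ∣ orderOf lam := fun h => hK (h.trans hlo)
  obtain ⟨μ, hμ, hμo, -⟩ := exists_ext_of_coprime N lam (orderOf_pos_hom lam) hlinv
    (Nat.Coprime.of_dvd_left hidx (hcopn hlp))
  have hθ1 : θ' 1 = d := by
    show (θ : K → ℂ) (e 1) = d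
    rw [map_one, hd]
  have hcop : N.index.Coprime d := Nat.Coprime.of_dvd_left hidx (hcopn hdp)
  have hμdet : ∀ n : N, (μ n : ℂ) = detChar θ' n := fun n => by rw [hμ, congrFun hlam]
  obtain ⟨χ, hχ, hχr⟩ := extends_of_det N hθ' hinv hθ1 hcop μ hμdet
  obtain ⟨η, ⟨hη, hηr, hηd⟩, -⟩ :=
    exists_unique_det N hθ' hθ1 hcop (IsIrr.isCharacter hχ) hχr μ hμdet
  refine ⟨⟨η, hη⟩, funext fun k => hηr ⟨⟨k, hKΓ k.2⟩, Subgroup.mem_subgroupOf.2 k.2⟩,
    fun g hg => ?_⟩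
  show detChar η g = 1
  rw [hηd]
  have h1 : μ g = 1 := by
    refine eq_one_of_pow_coprime (m := p ^ m) (n := orderOf lam) ?_ ?_ (hcopn hlp)
    · rw [← map_pow]
      have : g ^ p ^ m = 1 := Subtype.ext (by
        have h := pow_card_eq_one' (x := (⟨g, hg⟩ : S))
        rw [hm] at h
        simpa using congrArg Subtype.val h)
      rw [this, map_one]
    · rw [← MonoidHom.pow_apply, ← hμo, pow_orderOf_eq_one, MonoidHom.one_apply]
  show (μ g : ℂ) = 1
  rw [h1, Units.val_one]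

/-- Uniqueness of the canonical extension. -/
theorem canon_unique (hΓ : Γ = K ⊔ S) (hS : S ≤ Subgroup.normalizer (K : Set G))
    (hSp : IsPGroup p S) (hK : ¬ p ∣ Nat.card K) (hKΓ : K ≤ Γ) (θ : IrrCharacter K)
    {η η' : IrrCharacter Γ} (hη : res hKΓ (η : Γ → ℂ) = (θ : K → ℂ))
    (hη' : res hKΓ (η' : Γ → ℂ) = (θ : K → ℂ))
    (hd : ∀ g : Γ, (g : G) ∈ S → detChar (η : Γ → ℂ) g = 1)
    (hd' : ∀ g : Γ, (g : G) ∈ S → detChar (η' : Γ → ℂ) g = 1) : η = η' := by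
  have hp : p.Prime := Fact.out
  have hn : Γ ≤ Subgroup.normalizer (K : Set G) := hΓ.le.trans (sup_le Subgroup.le_normalizer hS)
  obtain ⟨lam, hl1, hl2⟩ := exists_twist hKΓ hn η η' (hη'.trans hη.symm) (hη ▸ θ.2)
  obtain ⟨d, hdd, hdp, hd0⟩ := not_dvd_degree hK θ
  have hη1 : (η : Γ → ℂ) 1 = d := by
    rw [← hdd, ← hη]
    rfl
  obtain ⟨m, hm⟩ := IsPGroup.iff_card.1 hSp
  have hlam : lam = 1 := by
    refine sup_hom_ext hΓ hl1 fun g hg => ?_
    refine eq_one_of_pow_coprime (m := p ^ m) (n := d) ?_ ?_ (((hp.coprime_iff_not_dvd).2 hdp).pow_left m)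
    · rw [← map_pow]
      have : g ^ p ^ m = 1 := Subtype.ext (by
        have h := pow_card_eq_one' (x := (⟨g, hg⟩ : S))
        rw [hm] at h
        simpa using congrArg Subtype.val h)
      rw [this, map_one]
    · refine Units.ext ?_
      have h := congrFun (detChar_twist (IsIrr.isCharacter η.2) hη1 lam).2 g
      rw [← show (η' : Γ → ℂ) = fun x => (lam x : ℂ) * (η : Γ → ℂ) x from funext hl2,
        hd' g hg, hd g hg, mul_one] at h
      rw [Units.val_pow_eq_pow_val, Units.val_one]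
      exact h.symm
  exact Subtype.ext (funext fun g => by rw [hl2, hlam]; simp)

end Canon

end Cfsg.Agent.RelMcKay
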