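import Cfsg.Agent.RelMcKay.Scalar
import Cfsg.Agent.Char.Glauberman.Statement
import Cfsg.Agent.Char.Glauberman.Equivariant
import Cfsg.Agent.Char.Clifford

/-!
# Congruence correspondence, extensions over a cyclic quotient, linear twists
-/

set_option autoImplicit false

namespace Cfsg.Agent.RelMcKay

open Cfsg.Agent.ProjExt Cfsg.Agent.Char
open scoped ComplexConjugate

universe u

noncomputable local instance finInst {α : Type u} [Finite α] : Fintype α := Fintype.ofFinite α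

variable {G : Type u} [Group G]

/-- Restriction along an inclusion of subgroups. -/
def res {C K : Subgroup G} (h : C ≤ K) (f : K → ℂ) : C → ℂ := fun c => f ⟨c, h c.2⟩

theorem res_apply {C K : Subgroup G} (h : C ≤ K) (f : K → ℂ) (c : C) :
    res h f c = f ⟨c, h c.2⟩ := rfl

theorem isCharacter_res' {C K : Subgroup G} (h : C ≤ K) {f : K → ℂ} (hf : IsCharacter K f) :
    IsCharacter C (res h f) :=
  isCharacter_comp (Subgroup.inclusion h) hf

theorem res_res {C D K : Subgroup G} (h : C ≤ D) (h' : D ≤ K) (f : K → ℂ) :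
    res h (res h' f) = res (h.trans h') f := rfl

/-- The elements normalising `K` and fixing `θ`. -/
def stab (K : Subgroup G) (θ : K → ℂ) : Subgroup G where
  carrier := {x | x ∈ Subgroup.normalizer (K : Set G) ∧ IsConjCharOf K x θ θ}
  one_mem' := ⟨one_mem _, fun k k' h => by rw [show k' = k from Subtype.ext (by simpa using h)]⟩
  mul_mem' := fun {a b} ha hb => ⟨mul_mem ha.1 hb.1, fun k k' h => by
    let k1 : K := ⟨b * k * b⁻¹, (Subgroup.mem_normalizer_iff.1 hb.1 k).1 k.2⟩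
    rw [ha.2 k1 k' (by rw [h]; simp only [k1]; group), hb.2 k k1 rfl]⟩
  inv_mem' := fun {a} ha => ⟨inv_mem ha.1, fun k k' h => (ha.2 k' k (by rw [h]; group)).symm⟩

theorem le_stab {K : Subgroup G} {θ : K → ℂ} (h : IsClassFunction K θ) : K ≤ stab K θ := by
  intro x hx
  refine ⟨Subgroup.le_normalizer hx, fun k k' he => ?_⟩
  rw [show k' = ⟨x, hx⟩ * k * (⟨x, hx⟩ : K)⁻¹ from Subtype.ext (by simp [he])]
  exact h k ⟨x, hx⟩

/-- The conjugate character `k ↦ θ (x * k * x⁻¹)`. -/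
noncomputable def cjc {K : Subgroup G} {x : G} (hx : x ∈ Subgroup.normalizer (K : Set G))
    (θ : IrrCharacter K) : IrrCharacter K :=
  let e : K ≃* K :=
    { toFun := fun k => ⟨x * k * x⁻¹, (Subgroup.mem_normalizer_iff.1 hx k).1 k.2⟩
      invFun := fun k => ⟨x⁻¹ * k * x, by
        have := (Subgroup.mem_normalizer_iff.1 (inv_mem hx) k).1 k.2
        simpa using this⟩
      left_inv := fun k => Subtype.ext (by simp [mul_assoc])
      right_inv := fun k => Subtype.ext (by simp [mul_assoc])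
      map_mul' := fun a b => Subtype.ext (by simp [mul_assoc]) }
  ⟨fun k => (θ : K → ℂ) (e k), (isIrrCharacter_comp_equiv e).2 θ.2⟩

theorem cjc_apply {K : Subgroup G} {x : G} (hx : x ∈ Subgroup.normalizer (K : Set G))
    (θ : IrrCharacter K) (k : K) : (cjc hx θ : K → ℂ) k =
      (θ : K → ℂ) ⟨x * k * x⁻¹, (Subgroup.mem_normalizer_iff.1 hx k).1 k.2⟩ := rfl

theorem cjc_eq_iff {K : Subgroup G} {x : G} (hx : x ∈ Subgroup.normalizer (K : Set G))
    (θ θ' : IrrCharacter K) :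
    cjc hx θ = θ' ↔ IsConjCharOf K x (θ' : K → ℂ) (θ : K → ℂ) := by
  constructor
  · rintro rfl k k' h
    rw [cjc_apply]
    exact congrArg _ (Subtype.ext h)
  · exact fun h => Subtype.ext (funext fun k => h k _ rfl)

theorem isConjCharOf_cjc {K : Subgroup G} {x : G} (hx : x ∈ Subgroup.normalizer (K : Set G))
    (θ : IrrCharacter K) : IsConjCharOf K x (cjc hx θ : K → ℂ) (θ : K → ℂ) :=
  (cjc_eq_iff hx θ _).1 rfl

theorem mem_stab_iff {K : Subgroup G} {x : G} (hx : x ∈ Subgroup.normalizer (K : Set G))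
    (θ : IrrCharacter K) : x ∈ stab K (θ : K → ℂ) ↔ cjc hx θ = θ :=
  ⟨fun h => (cjc_eq_iff hx θ θ).2 h.2, fun h => ⟨hx, (cjc_eq_iff hx θ θ).1 h⟩⟩

section Cor

variable [Finite G] {p : ℕ}

/-- `φ` occurs in the restriction of `θ` with multiplicity prime to `p`. -/
def Cor (p : ℕ) {C K : Subgroup G} (h : C ≤ K) (θ : IrrCharacter K) (φ : IrrCharacter C) : Prop :=
  ∃ m : ℕ, classInner (res h (θ : K → ℂ)) (φ : C → ℂ) = (m : ℂ) ∧ ¬ p ∣ m

theorem not_cor {C K : Subgroup G} {h : C ≤ K} {θ : IrrCharacter K} {φ : IrrCharacter C}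
    (hn : ¬ Cor p h θ φ) {m : ℕ} (hm : classInner (res h (θ : K → ℂ)) (φ : C → ℂ) = (m : ℂ)) :
    p ∣ m :=
  by_contra fun hd => hn ⟨m, hm, hd⟩

theorem Cor.ne_zero [Fact p.Prime] {C K : Subgroup G} {h : C ≤ K} {θ : IrrCharacter K}
    {φ : IrrCharacter C} (hc : Cor p h θ φ) :
    classInner (res h (θ : K → ℂ)) (φ : C → ℂ) ≠ 0 := by
  obtain ⟨m, hm, hd⟩ := hc
  rw [hm, Nat.cast_ne_zero]
  rintro rfl
  exact hd (dvd_zero p)

theorem exists_nat_inner {C K : Subgroup G} (h : C ≤ K) (θ : IrrCharacter K)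
    (φ : IrrCharacter C) : ∃ m : ℕ, classInner (res h (θ : K → ℂ)) (φ : C → ℂ) = (m : ℂ) :=
  classInner_isCharacter_eq_natCast (isCharacter_res' h (IsIrr.isCharacter θ.2))
    (IsIrr.isCharacter φ.2)

/-- Restricting in two steps, when the middle correspondent is unique. -/
theorem cor_trans_iff [Fact p.Prime] {C D K : Subgroup G} (h : C ≤ D) (h' : D ≤ K)
    (θ : IrrCharacter K) (β : IrrCharacter D) (φ : IrrCharacter C)
    (hu : ∀ γ, γ ≠ β → ¬ Cor p h' θ γ) :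
    Cor p (h.trans h') θ φ ↔ Cor p h' θ β ∧ Cor p h β φ := by
  have := Classical.decEq (IrrCharacter D)
  choose a ha using fun γ => exists_nat_inner h' θ γ
  choose b hb using fun γ => exists_nat_inner h γ φ
  have hexp : res h' (θ : K → ℂ) = ∑ γ : IrrCharacter D, (a γ : ℂ) • (γ : D → ℂ) := by
    rw [classFun_expansion (isClassFunction_of_isCharacter
      (isCharacter_res' h' (IsIrr.isCharacter θ.2)))]
    exact Finset.sum_congr rfl fun γ _ => by rw [ha γ]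
  have hexp' : res (h.trans h') (θ : K → ℂ) = ∑ γ : IrrCharacter D, (a γ : ℂ) • res h (γ : D → ℂ) := by
    funext c
    rw [← res_res h h', res_apply, hexp]
    simp [res_apply]
  have hm : classInner (res (h.trans h') (θ : K → ℂ)) (φ : C → ℂ) =
      ((∑ γ, a γ * b γ : ℕ) : ℂ) := by
    rw [hexp', classInner_sum_left, Nat.cast_sum]
    exact Finset.sum_congr rfl fun γ _ => by rw [classInner_smul_left, hb γ, Nat.cast_mul]
  have hdvd : p ∣ ∑ γ, a γ * b γ ↔ p ∣ a β * b β := by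
    rw [← Finset.add_sum_erase Finset.univ _ (Finset.mem_univ β)]
    refine (Nat.dvd_add_iff_left (Finset.dvd_sum fun γ hγ => ?_)).symm
    exact Dvd.dvd.mul_right (not_cor (hu γ (Finset.ne_of_mem_erase hγ)) (ha γ)) _
  have hp : p.Prime := Fact.out
  constructor
  · rintro ⟨m, hm', hd⟩
    obtain rfl : m = ∑ γ, a γ * b γ := by exact_mod_cast hm'.symm.trans hm
    rw [hdvd, hp.dvd_mul, not_or] at hd
    exact ⟨⟨_, ha β, hd.1⟩, ⟨_, hb β, hd.2⟩⟩
  · rintro ⟨⟨m1, hm1, hd1⟩, ⟨m2, hm2, hd2⟩⟩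
    obtain rfl : m1 = a β := by exact_mod_cast hm1.symm.trans (ha β)
    obtain rfl : m2 = b β := by exact_mod_cast hm2.symm.trans (hb β)
    refine ⟨_, hm, ?_⟩
    rw [hdvd, hp.dvd_mul]
    tauto

/-- Conjugation invariance. -/
theorem cor_cjc {C K : Subgroup G} {h : C ≤ K} {θ : IrrCharacter K} {φ : IrrCharacter C}
    (hc : Cor p h θ φ) {x : G} (hxK : x ∈ Subgroup.normalizer (K : Set G))
    (hxC : x ∈ Subgroup.normalizer (C : Set G)) : Cor p h (cjc hxK θ) (cjc hxC φ) := by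
  obtain ⟨m, hm, hd⟩ := hc
  refine ⟨m, ?_, hd⟩
  rw [← hm, classInner, classInner]
  congr 1
  let e : C ≃ C :=
    { toFun := fun k => ⟨x * k * x⁻¹, (Subgroup.mem_normalizer_iff.1 hxC k).1 k.2⟩
      invFun := fun k => ⟨x⁻¹ * k * x, by
        have := (Subgroup.mem_normalizer_iff.1 (inv_mem hxC) k).1 k.2
        simpa using this⟩
      left_inv := fun k => Subtype.ext (by simp [mul_assoc])
      right_inv := fun k => Subtype.ext (by simp [mul_assoc]) }
  exact Fintype.sum_equiv e _ _ fun k => rfl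

variable [Fact p.Prime] {C K Q : Subgroup G}

theorem glauberman (hn : Q ≤ Subgroup.normalizer (K : Set G)) (hQ : IsPGroup p Q)
    (hK : ¬ p ∣ Nat.card K) (hC : C = K ⊓ Subgroup.centralizer (Q : Set G)) (h : C ≤ K) :
    (∀ θ : IrrCharacter K, Q ≤ stab K (θ : K → ℂ) → ∃! φ, Cor p h θ φ) ∧
    (∀ (θ θ' : IrrCharacter K) (φ : IrrCharacter C), Q ≤ stab K (θ : K → ℂ) →
      Q ≤ stab K (θ' : K → ℂ) → Cor p h θ φ → Cor p h θ' φ → θ = θ') ∧
    ∀ φ : IrrCharacter C, ∃ θ : IrrCharacter K, Q ≤ stab K (θ : K → ℂ) ∧ Cor p h θ φ := by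
  obtain ⟨h1, -, h3, h4⟩ := Cfsg.Agent.Char.Glauberman.correspondence K Q
    (fun s hs g hg => (Subgroup.mem_normalizer_iff.1 (hn hs) g).1 hg) p hQ (Or.inl hK) C hC h
  refine ⟨fun θ hθ => h1 θ fun s hs g g' e => (hθ hs).2 g g' e, ?_, fun φ => ?_⟩
  · rintro θ θ' φ hθ hθ' ⟨m, hm, hd⟩ ⟨m', hm', hd'⟩
    exact h3 θ θ' (fun s hs g g' e => (hθ hs).2 g g' e) (fun s hs g g' e => (hθ' hs).2 g g' e)
      φ m m' hm hd hm' hd'
  · obtain ⟨θ, hθ, hc⟩ := h4 φ
    exact ⟨θ, fun s hs => ⟨hn hs, hθ s hs⟩, hc⟩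

/-- The correspondent is fixed by whatever fixes `θ`, `K` and `C`. -/
theorem cor_fixed (hn : Q ≤ Subgroup.normalizer (K : Set G)) (hQ : IsPGroup p Q)
    (hK : ¬ p ∣ Nat.card K) (hC : C = K ⊓ Subgroup.centralizer (Q : Set G)) {h : C ≤ K}
    {θ : IrrCharacter K} {φ : IrrCharacter C} (hθ : Q ≤ stab K (θ : K → ℂ)) (hc : Cor p h θ φ)
    {x : G} (hx : x ∈ stab K (θ : K → ℂ)) (hxC : x ∈ Subgroup.normalizer (C : Set G)) :
    x ∈ stab C (φ : C → ℂ) := by
  have h1 := cor_cjc hc hx.1 hxC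
  rw [(mem_stab_iff hx.1 θ).1 hx] at h1
  exact (mem_stab_iff hxC φ).2 (((glauberman hn hQ hK hC h).1 θ hθ).unique h1 hc)

end Cor

section Ext

variable [Finite G]

theorem subgroupOf_normal {K Γ : Subgroup G} (hn : Γ ≤ Subgroup.normalizer (K : Set G)) :
    (K.subgroupOf Γ).Normal :=
  ⟨fun n hn' g => Subgroup.mem_subgroupOf.2 ((Subgroup.mem_normalizer_iff.1 (hn g.2) n).1 hn')⟩

/-- Two extensions differ by a linear character trivial on `K`. -/
theorem exists_twist {K Γ : Subgroup G} (hKΓ : K ≤ Γ) (hn : Γ ≤ Subgroup.normalizer (K : Set G))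
    (η η' : IrrCharacter Γ) (hr : res hKΓ (η' : Γ → ℂ) = res hKΓ (η : Γ → ℂ))
    (hirr : IsIrrCharacter K (res hKΓ (η : Γ → ℂ))) :
    ∃ lam : Γ →* ℂˣ, (∀ g : Γ, (g : G) ∈ K → lam g = 1) ∧
      ∀ g, (η' : Γ → ℂ) g = (lam g : ℂ) * (η : Γ → ℂ) g := by
  have := subgroupOf_normal hn
  let θ' : K.subgroupOf Γ → ℂ := fun x => res hKΓ (η : Γ → ℂ) ⟨(x : Γ), Subgroup.mem_subgroupOf.1 x.2⟩
  have hθ' : IsIrrCharacter (K.subgroupOf Γ) θ' :=
    (isIrrCharacter_comp_equiv (Subgroup.subgroupOfEquivOfLe hKΓ)).2 hirr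
  have hinv : ∀ (g : Γ) (n : K.subgroupOf Γ), θ' ⟨g * n * g⁻¹, this.conj_mem _ n.2 g⟩ = θ' n :=
    fun g n => isClassFunction_of_isIrr η.2 (n : Γ) g
  obtain ⟨D⟩ := exists_data hθ' hinv
  obtain ⟨lam, hl1, hl2⟩ := D.eq_twist (IsIrr.isCharacter η.2) (IsIrr.isCharacter η'.2)
    (fun n => rfl) (fun n => congrFun hr ⟨(n : Γ), Subgroup.mem_subgroupOf.1 n.2⟩)
  exact ⟨lam, fun g hg => hl1 ⟨g, Subgroup.mem_subgroupOf.2 hg⟩, hl2⟩

/-- Extension over a cyclic quotient, and irreducibility of every restriction lying over it. -/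
theorem cyclic_ext {K Γ : Subgroup G} (hKΓ : K ≤ Γ) (hn : Γ ≤ Subgroup.normalizer (K : Set G))
    {a : G} (ha : a ∈ Γ) (hgen : ∀ g ∈ Γ, ∃ i : ℤ, g * (a ^ i)⁻¹ ∈ K) (θ : IrrCharacter K)
    (hθ : a ∈ stab K (θ : K → ℂ)) :
    (∃ η : IrrCharacter Γ, res hKΓ (η : Γ → ℂ) = (θ : K → ℂ)) ∧
      ∀ β : IrrCharacter Γ, classInner (res hKΓ (β : Γ → ℂ)) (θ : K → ℂ) ≠ 0 →
        res hKΓ (β : Γ → ℂ) = (θ : K → ℂ) := by
  have hnorm := subgroupOf_normal hn
  let N := K.subgroupOf Γ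
  let e := Subgroup.subgroupOfEquivOfLe hKΓ
  let θ' : IrrCharacter N := ⟨fun x => (θ : K → ℂ) (e x), (isIrrCharacter_comp_equiv e).2 θ.2⟩
  have hst : ∀ g ∈ Γ, g ∈ stab K (θ : K → ℂ) := by
    intro g hg
    obtain ⟨i, hi⟩ := hgen g hg
    have := mul_mem (le_stab (isClassFunction_of_isIrr θ.2) hi) (zpow_mem hθ i)
    simpa using this
  have hinv : ∀ (g : Γ) (n : N), (θ' : N → ℂ) ⟨g * n * g⁻¹, hnorm.conj_mem _ n.2 g⟩ =
      (θ' : N → ℂ) n := fun g n => (hst g g.2).2 (e n) _ rfl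
  have hcyc : IsCyclic (Γ ⧸ N) := by
    refine ⟨⟨((⟨a, ha⟩ : Γ) : Γ ⧸ N), fun x => ?_⟩⟩
    obtain ⟨g, rfl⟩ := QuotientGroup.mk_surjective x
    obtain ⟨i, hi⟩ := hgen g g.2
    refine ⟨i, ?_⟩
    show ((⟨a, ha⟩ : Γ) : Γ ⧸ N) ^ i = _
    rw [← QuotientGroup.mk_zpow, eq_comm, ← mul_inv_eq_one, ← QuotientGroup.mk_inv,
      ← QuotientGroup.mk_mul, QuotientGroup.eq_one_iff]
    exact Subgroup.mem_subgroupOf.2 (by simpa using hi)
  obtain ⟨D⟩ := exists_data θ'.2 hinv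
  obtain ⟨η, hη, hres⟩ := D.exists_extension_of_splits
    (D.cocycle.splits_of_cyclic hcyc fun y m hm => exists_root y m hm)
  have hres' : res hKΓ η = (θ : K → ℂ) := funext fun k => by
    have := hres ⟨⟨k, hKΓ k.2⟩, Subgroup.mem_subgroupOf.2 k.2⟩
    exact this
  refine ⟨⟨⟨η, hη⟩, hres'⟩, fun β hβ => ?_⟩
  have hab : ∀ x y : Γ, x * y * x⁻¹ * y⁻¹ ∈ N := by
    intro x y
    rw [← QuotientGroup.eq_one_iff, QuotientGroup.mk_mul, QuotientGroup.mk_mul,
      QuotientGroup.mk_mul, QuotientGroup.mk_inv, QuotientGroup.mk_inv]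
    obtain ⟨z, hz⟩ := hcyc.exists_generator
    obtain ⟨i, hi⟩ := hz x
    obtain ⟨j, hj⟩ := hz y
    simp only at hi hj
    rw [← hi, ← hj]
    group
  have hmult : ∀ χ : IrrCharacter Γ, (Cfsg.Agent.Char.Glauberman.mult N χ θ' : ℂ) =
      classInner (res hKΓ (χ : Γ → ℂ)) (θ : K → ℂ) := by
    intro χ
    rw [← Cfsg.Agent.Char.Glauberman.mult_spec, classInner, classInner,
      Nat.card_congr e.toEquiv]
    exact congrArg _ (Fintype.sum_equiv e.toEquiv _ _ fun k => rfl)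
  obtain ⟨l, hl⟩ := Cfsg.Agent.Char.Glauberman.exists_linear_twist N hab θ' ⟨η, hη⟩ β
    (fun h0 => by
      have := hmult ⟨η, hη⟩
      rw [h0, Nat.cast_zero, hres', classInner_irr_self θ.2] at this
      exact zero_ne_one this)
    (fun h0 => hβ (by rw [← hmult β, h0, Nat.cast_zero]))
  funext k
  rw [res_apply, hl, (QuotientGroup.eq_one_iff (N := N) (⟨k, hKΓ k.2⟩ : Γ)).2
    (Subgroup.mem_subgroupOf.2 k.2), map_one, Units.val_one, one_mul]
  exact congrFun hres' k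

/-- The commutator scalar from a twisted extension. -/
theorem omg_of_ext {K Γ : Subgroup G} (hKΓ : K ≤ Γ) {θ : K → ℂ} (hθ : IsIrrCharacter K θ)
    (η : IrrCharacter Γ) (hres : res hKΓ (η : Γ → ℂ) = θ) {a y : G} (ha : a ∈ Γ)
    (haK : a ∈ Subgroup.normalizer (K : Set G)) (hyK : y ∈ Subgroup.normalizer (K : Set G))
    (hyΓ : y ∈ Subgroup.normalizer (Γ : Set G)) (lam : Γ →* ℂˣ)
    (hlam : ∀ g : Γ, (g : G) ∈ K → lam g = 1)
    (hy : ∀ g g' : Γ, (g' : G) = y * g * y⁻¹ → (η : Γ → ℂ) g' = (lam g : ℂ) * (η : Γ → ℂ) g)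
    (hw : a⁻¹ * y * a * y⁻¹ ∈ K) : omg K θ a y = (lam ⟨a, ha⟩ : ℂ) := by
  obtain ⟨d, R, hR, hRη⟩ := η.2
  let cy : Γ →* Γ := MonoidHom.mk'
    (fun g => ⟨y * g * y⁻¹, (Subgroup.mem_normalizer_iff.1 hyΓ g).1 g.2⟩)
    fun u v => Subtype.ext (by simp [mul_assoc])
  let σ : Representation ℂ Γ (Fin d → ℂ) :=
    { toFun := fun g => ((lam g)⁻¹ : ℂˣ).1 • R (cy g)
      map_one' := by rw [map_one cy, map_one R, map_one lam, inv_one, Units.val_one, one_smul]
      map_mul' := fun u v => by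
        rw [map_mul cy, map_mul R, map_mul lam, mul_inv, Units.val_mul, smul_mul_smul_comm] }
  obtain ⟨Y, hY⟩ := exists_intertwining_unit R σ hR (by
    funext g
    show LinearMap.trace ℂ _ (((lam g)⁻¹ : ℂˣ).1 • R (cy g)) = R.character g
    rw [map_smul, smul_eq_mul]
    show ((lam g)⁻¹ : ℂˣ).1 * R.character (cy g) = R.character g
    rw [hRη, hy g (cy g) rfl, ← mul_assoc, Units.inv_mul, one_mul])
  have hY' : ∀ g, Y * repU R g = scalarU d (lam g)⁻¹ * (repU R (cy g) * Y) := by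
    intro g
    refine Units.ext ?_
    rw [Units.val_mul, Units.val_mul, Units.val_mul, repU_val, repU_val, scalarU_val,
      Algebra.algebraMap_eq_smul_one, smul_mul_assoc, one_mul, ← smul_mul_assoc]
    exact hY g
  let ρ : Representation ℂ K (Fin d → ℂ) := R.comp (Subgroup.inclusion hKΓ)
  have hρ : ρ.character = θ := by
    funext k
    show R.character _ = _
    rw [hRη]
    exact congrFun hres k
  let a' : Γ := ⟨a, ha⟩
  refine omg_eq hθ haK hyK ρ hρ (repU R a') Y ⟨_, hw⟩ rfl ?_ ?_ ?_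
  · intro m m' h
    show repU R a' * repU R (Subgroup.inclusion hKΓ m) = repU R (Subgroup.inclusion hKΓ m') * repU R a'
    rw [← map_mul, ← map_mul]
    refine congrArg _ (Subtype.ext ?_)
    simp only [Subgroup.coe_mul, Subgroup.coe_inclusion, a']
    rw [h]
    group
  · intro m m' h
    show Y * repU R (Subgroup.inclusion hKΓ m) = repU R (Subgroup.inclusion hKΓ m') * Y
    rw [hY', hlam (Subgroup.inclusion hKΓ m) m.2, inv_one, map_one, one_mul,
      show cy (Subgroup.inclusion hKΓ m) = Subgroup.inclusion hKΓ m' from Subtype.ext h.symm]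
  · show repU R a' * repU R (Subgroup.inclusion hKΓ ⟨_, hw⟩) * Y = _
    have hcy : a' * Subgroup.inclusion hKΓ ⟨_, hw⟩ = cy a' := Subtype.ext (by
      simp only [Subgroup.coe_mul, Subgroup.coe_inclusion, a', cy, MonoidHom.mk'_apply]
      group)
    rw [← map_mul, hcy, hY', map_inv, mul_inv_cancel_left]

end Ext

end Cfsg.Agent.RelMcKay
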