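import Cfsg.Agent.RelMcKay.Scalar
import Cfsg.Agent.Char.RealOdd
import Cfsg.Agent.Char.Clifford
import Cfsg.Agent.Char.Induced
import Cfsg.Agent.Char.Glauberman.Basic

/-!
# Counting the characters over a stable set of characters of a normal subgroup

For `M` normal in `G` and a `G`-stable set `X` of irreducible characters of `M`, the number of
irreducible characters of `G` lying over a member of `X`, multiplied by `|G| |M|`, is
`∑ x y : G, ∑ ψ ∈ X, omg M ψ x y`.
-/

set_option autoImplicit false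

namespace Cfsg.Agent.RelMcKay

open Cfsg.Agent.ProjExt Cfsg.Agent.Char
open scoped ComplexConjugate

universe u

variable {G : Type u} [Group G] [Fintype G]

theorem sum_conj_eq_scalar {H : Type u} [Group H] [Fintype H] {d : ℕ}
    (ρ : Representation ℂ H (Fin d → ℂ)) (hρ : ρ.IsIrreducible)
    (B : Module.End ℂ (Fin d → ℂ)) :
    ∃ c : ℂ, (∑ m, ρ m * B * ρ m⁻¹) = c • (1 : Module.End ℂ (Fin d → ℂ)) ∧
      c * (d : ℂ) = (Nat.card H : ℂ) * LinearMap.trace ℂ _ B := by
  obtain ⟨c, hc, hcd⟩ := commute_eq_scalar ρ hρ (∑ m, ρ m * B * ρ m⁻¹) fun h => by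
    rw [Finset.sum_mul, Finset.mul_sum]
    refine Fintype.sum_equiv (Equiv.mulLeft h⁻¹) _ _ fun g => ?_
    show ρ g * B * ρ g⁻¹ * ρ h = ρ h * (ρ (h⁻¹ * g) * B * ρ (h⁻¹ * g)⁻¹)
    rw [_root_.mul_inv_rev, inv_inv, map_mul ρ h⁻¹ g, map_mul ρ g⁻¹ h]
    simp only [← mul_assoc]
    rw [← map_mul ρ h h⁻¹, mul_inv_cancel, map_one ρ, one_mul]
  refine ⟨c, hc, ?_⟩
  rw [Module.finrank_fin_fun] at hcd
  rw [hcd, map_sum, Finset.sum_congr rfl fun g _ => by
      rw [LinearMap.trace_mul_cycle, ← map_mul, inv_mul_cancel, map_one, one_mul],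
    Finset.sum_const, Finset.card_univ, ← Nat.card_eq_fintype_card, nsmul_eq_mul]

/-- Coordinate-free Schur orthogonality. -/
theorem sum_trace_mul_trace {H : Type u} [Group H] [Fintype H] {d : ℕ}
    (ρ : Representation ℂ H (Fin d → ℂ)) (hρ : ρ.IsIrreducible)
    (P Q : Module.End ℂ (Fin d → ℂ)) :
    (d : ℂ) * ∑ m, LinearMap.trace ℂ _ (P * ρ m) * LinearMap.trace ℂ _ (ρ m⁻¹ * Q) =
      (Nat.card H : ℂ) * LinearMap.trace ℂ _ (P * Q) := by
  classical
  have htr : ∀ A B : Module.End ℂ (Fin d → ℂ), LinearMap.trace ℂ _ (A * B) =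
      ∑ i, ∑ j, LinearMap.toMatrix' A i j * LinearMap.toMatrix' B j i := by
    intro A B
    rw [LinearMap.trace_eq_matrix_trace ℂ (Pi.basisFun ℂ (Fin d))]
    show (LinearMap.toMatrix' (A * B)).trace = _
    rw [show LinearMap.toMatrix' (A * B) = LinearMap.toMatrix' A * LinearMap.toMatrix' B from
      LinearMap.toMatrix'_comp A B]
    rfl
  simp only [htr]
  set p := LinearMap.toMatrix' P
  set q := LinearMap.toMatrix' Q
  calc (d : ℂ) * ∑ m, (∑ i, ∑ j, p i j * LinearMap.toMatrix' (ρ m) j i) *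
        (∑ k, ∑ l, LinearMap.toMatrix' (ρ m⁻¹) k l * q l k)
      = ∑ i, ∑ j, ∑ k, ∑ l, p i j * q l k *
          ((d : ℂ) * ∑ m, LinearMap.toMatrix' (ρ m) j i * LinearMap.toMatrix' (ρ m⁻¹) k l) := by
        rw [Finset.mul_sum]
        calc _ = ∑ m : H, ∑ i, ∑ j, ∑ k, ∑ l, p i j * q l k *
              ((d : ℂ) * (LinearMap.toMatrix' (ρ m) j i * LinearMap.toMatrix' (ρ m⁻¹) k l)) := by
              refine Finset.sum_congr rfl fun m _ => ?_
              rw [Finset.sum_mul, Finset.mul_sum]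
              refine Finset.sum_congr rfl fun i _ => ?_
              rw [Finset.sum_mul, Finset.mul_sum]
              refine Finset.sum_congr rfl fun j _ => ?_
              rw [Finset.mul_sum, Finset.mul_sum]
              refine Finset.sum_congr rfl fun k _ => ?_
              rw [Finset.mul_sum, Finset.mul_sum]
              exact Finset.sum_congr rfl fun l _ => by ring
          _ = _ := by
              rw [Finset.sum_comm]
              refine Finset.sum_congr rfl fun i _ => ?_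
              rw [Finset.sum_comm]
              refine Finset.sum_congr rfl fun j _ => ?_
              rw [Finset.sum_comm]
              refine Finset.sum_congr rfl fun k _ => ?_
              rw [Finset.sum_comm]
              refine Finset.sum_congr rfl fun l _ => ?_
              rw [Finset.mul_sum, Finset.mul_sum]
    _ = ∑ i, ∑ j, ∑ k, ∑ l, p i j * q l k * (if i = k ∧ j = l then (Nat.card H : ℂ) else 0) := by
        simp only [schur_matrix ρ hρ]
    _ = (Nat.card H : ℂ) * ∑ i, ∑ j, p i j * q j i := by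
        simp only [mul_ite, mul_zero, ite_and, Finset.sum_ite_eq, Finset.sum_ite_irrel,
          Finset.sum_const_zero, Finset.mem_univ, if_true, Finset.mul_sum]
        exact Finset.sum_congr rfl fun i _ => Finset.sum_congr rfl fun j _ => by ring

theorem sum_mul_eq_zero {H : Type u} [Group H] [Fintype H] {d : ℕ}
    (σ σ' : Representation ℂ H (Fin d → ℂ)) (hσ : σ.IsIrreducible) (hσ' : σ'.IsIrreducible)
    (hne : σ.character ≠ σ'.character) : ∑ m, σ m * σ' m⁻¹ = 0 := by
  have h0 : classInner σ.character σ'.character = 0 :=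
    classInner_irr_ne ⟨d, σ, hσ, rfl⟩ ⟨d, σ', hσ', rfl⟩ hne
  rw [classInner_character_eq_finrank, Nat.cast_eq_zero] at h0
  let T : Representation.IntertwiningMap σ' σ := ⟨∑ m, σ m * σ' m⁻¹, fun h => by
    show (∑ m, σ m * σ' m⁻¹) * σ' h = σ h * ∑ m, σ m * σ' m⁻¹
    rw [Finset.sum_mul, Finset.mul_sum]
    refine Fintype.sum_equiv (Equiv.mulLeft h⁻¹) _ _ fun g => ?_
    show σ g * σ' g⁻¹ * σ' h = σ h * (σ (h⁻¹ * g) * σ' (h⁻¹ * g)⁻¹)
    rw [← mul_assoc (σ h), ← map_mul σ, mul_inv_cancel_left, mul_assoc, ← map_mul σ',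
      _root_.mul_inv_rev, inv_inv]⟩
  have : Subsingleton (Representation.IntertwiningMap σ' σ) :=
    Module.finrank_zero_iff.1 h0
  exact congrArg Representation.IntertwiningMap.toLinearMap (Subsingleton.elim T 0)

variable (M : Subgroup G) [hMn : M.Normal] [Fintype M]

omit [Fintype G] in
/-- The commutator `x * y * x⁻¹ * y⁻¹`. -/
def cm (x y : G) : G := x * y * x⁻¹ * y⁻¹

omit [Fintype M] in
theorem cm_mem_iff (x y : G) (m1 m2 : M) : cm (x * m1) (y * m2) ∈ M ↔ cm x y ∈ M := by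
  let q := QuotientGroup.mk' M
  have hq : ∀ g, g ∈ M ↔ q g = 1 := fun g => (QuotientGroup.eq_one_iff g).symm
  rw [hq, hq]
  simp only [cm, map_mul, map_inv, (hq _).1 m1.2, (hq _).1 m2.2, mul_one]

omit [Fintype M] in
theorem ext0_cm_inv {ψ : M → ℂ} (hψ : IsCharacter M ψ) (x y : G) :
    extendByZero M ψ (cm y x) = conj (extendByZero M ψ (cm x y)) := by
  have h : cm y x = (cm x y)⁻¹ := by simp only [cm]; group
  rw [h]
  by_cases hm : cm x y ∈ M
  · rw [extendByZero_of_mem M _ hm, extendByZero_of_mem M _ (inv_mem hm), ← IsChar.inv_eq_conj hψ]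
    rfl
  · rw [extendByZero_of_not_mem M _ hm, extendByZero_of_not_mem M _ (fun h => hm (inv_mem_iff.1 h)),
      map_zero]

theorem sum_cm_eq_zero {ψ : M → ℂ} (hψ : IsIrrCharacter M ψ) {x z : G} (hm : cm x z ∈ M)
    (hz : ¬ IsConjCharOf M z ψ ψ) :
    ∑ m : M, extendByZero M ψ (cm (x * m) z) = 0 := by
  obtain ⟨d, ρ, hρi, rfl⟩ := hψ
  let cx : M →* M := (MulAut.conjNormal (H := M) x).toMonoidHom
  let cz : M →* M := (MulAut.conjNormal (H := M) z).toMonoidHom
  let σ : Representation ℂ M (Fin d → ℂ) := ρ.comp cx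
  let σ' : Representation ℂ M (Fin d → ℂ) := σ.comp cz
  have hirr : ∀ (τ : Representation ℂ M (Fin d → ℂ)) (e : MulAut M), τ.IsIrreducible →
      Representation.IsIrreducible (τ.comp e.toMonoidHom : Representation ℂ M (Fin d → ℂ)) := by
    intro τ e hτ
    obtain ⟨hn, hi⟩ := isIrreducible_iff.1 hτ
    refine isIrreducible_iff.2 ⟨hn, fun U hU => hi U fun g v hv => ?_⟩
    have := hU (e.symm g) v hv
    simpa using this
  have hne : σ.character ≠ σ'.character := by
    intro h
    apply hz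
    have hx : ∀ n : M, ρ.character (MulAut.conjNormal (x * z * x⁻¹) n) = ρ.character n := by
      intro n
      have := congrFun h ((MulAut.conjNormal x).symm n)
      change ρ.character (MulAut.conjNormal x ((MulAut.conjNormal x).symm n)) =
        ρ.character (MulAut.conjNormal x (MulAut.conjNormal z ((MulAut.conjNormal x).symm n))) at this
      rw [MulEquiv.apply_symm_apply] at this
      rw [this]
      simp [map_mul, map_inv]
    intro k k' hk
    have h2 := hx k
    have h3 : MulAut.conjNormal (x * z * x⁻¹) k =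
        ⟨cm x z, hm⟩ * k' * (⟨cm x z, hm⟩ : M)⁻¹ := by
      apply Subtype.ext
      simp only [MulAut.conjNormal_apply, Subgroup.coe_mul, Subgroup.coe_inv, hk, cm]
      group
    rw [h3, ρ.char_conj] at h2
    exact h2
  have hmem : ∀ m : M, cm (x * m) z ∈ M := fun m => by
    simpa using (cm_mem_iff M x z m 1).2 hm
  have hterm : ∀ m : M, extendByZero M ρ.character (cm (x * m) z) =
      LinearMap.trace ℂ _ (σ m * σ' m⁻¹ * ρ ⟨cm x z, hm⟩) := fun m => by
    rw [extendByZero_of_mem M _ (hmem m)]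
    show LinearMap.trace ℂ _ (ρ _) = LinearMap.trace ℂ _ (ρ (cx m) * ρ (cx (cz m⁻¹)) * ρ _)
    rw [← map_mul, ← map_mul]
    congr 2
    apply Subtype.ext
    simp only [cx, cz, MulEquiv.coe_toMonoidHom, Subgroup.coe_mul, MulAut.conjNormal_apply,
      Subgroup.coe_inv, cm]
    group
  simp only [hterm, ← map_sum, ← Finset.sum_mul]
  rw [sum_mul_eq_zero σ σ' (hirr ρ _ hρi) (hirr σ _ (hirr ρ _ hρi)) hne, zero_mul, map_zero]

omit [Fintype G] [Fintype M] hMn in
theorem isConjCharOf_inv {ψ : M → ℂ} {x : G} (h : IsConjCharOf M x ψ ψ) :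
    IsConjCharOf M x⁻¹ ψ ψ :=
  fun k k' hk => (h k' k (by rw [hk]; group)).symm

theorem sum_sum_cm {ψ : M → ℂ} (hψ : IsIrrCharacter M ψ) (x y : G) :
    ψ 1 * ∑ m1 : M, ∑ m2 : M, extendByZero M ψ (cm (x * m1) (y * m2)) =
      (Nat.card M : ℂ) ^ 2 * omg M ψ x⁻¹ y := by
  by_cases hm : cm x y ∈ M
  swap
  · have h0 : x⁻¹⁻¹ * y * x⁻¹ * y⁻¹ ∉ M := by simpa [cm] using hm
    simp [extendByZero_of_not_mem M _ (fun h => hm ((cm_mem_iff M x y _ _).1 h)),
      omg_eq_zero_of_not_mem h0]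
  have hnorm : ∀ g : G, g ∈ Subgroup.normalizer (M : Set G) := fun g => by
    rw [Subgroup.normalizer_eq_top]; trivial
  have hinvY : ∀ (a b : G) (m : M), cm a b ∈ M → IsConjCharOf M (b * m) ψ ψ →
      IsConjCharOf M b ψ ψ := by
    intro a b m _ h k k' hk
    have hk2 : ((m⁻¹ * k * m : M) : G) = (m : G)⁻¹ * k * m := rfl
    rw [h (m⁻¹ * k * m) k' (by rw [hk, hk2]; group)]
    exact classFun_isConj (isClassFunction_of_isIrr hψ) (isConj_iff.2 ⟨m, by group⟩)
  by_cases hy : IsConjCharOf M y ψ ψ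
  swap
  · rw [Finset.sum_comm, Finset.sum_eq_zero fun (m2 : M) _ => sum_cm_eq_zero M hψ (z := y * m2)
      (by simpa using (cm_mem_iff M x y 1 m2).2 hm) fun h => hy (hinvY x y m2 hm h), mul_zero,
      omg_eq_zero_of_not_inv fun h => hy h.2, mul_zero]
  by_cases hx : IsConjCharOf M x ψ ψ
  swap
  · have hyx : cm y x ∈ M := by
      have : cm y x = (cm x y)⁻¹ := by simp only [cm]; group
      rw [this]; exact inv_mem hm
    rw [omg_eq_zero_of_not_inv fun h => hx (by simpa using isConjCharOf_inv M h.1), mul_zero,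
      Finset.sum_eq_zero fun m1 _ => ?_, mul_zero]
    calc ∑ m2 : M, extendByZero M ψ (cm (x * m1) (y * m2))
        = conj (∑ m2 : M, extendByZero M ψ (cm (y * m2) (x * m1))) := by
          rw [map_sum]
          exact Finset.sum_congr rfl fun m2 _ => ext0_cm_inv M (IsIrr.isCharacter hψ) _ _
      _ = 0 := by
          rw [sum_cm_eq_zero M hψ (by simpa using (cm_mem_iff M y x 1 m1).2 hyx)
            (fun h => hx (hinvY y x m1 hyx h)), map_zero]
  obtain ⟨d, ρ, hρi, hρ⟩ := id hψ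
  obtain ⟨c, X', Y, hX', hY, he, hc⟩ := omg_spec hψ (hnorm x⁻¹) (hnorm y)
    (isConjCharOf_inv M hx) hy ρ hρ ⟨cm x y, hm⟩ (by simp [cm])
  rw [hc]
  set X := X'⁻¹ with hXdef
  have hX : Tw ρ x X := fun m m' h => by
    have := hX' m' m (by rw [h]; group)
    rw [hXdef, inv_mul_eq_iff_eq_mul, ← mul_assoc, this, mul_inv_cancel_right]
  have hw : repU ρ ⟨cm x y, hm⟩ = scalarU d c * (X * Y * X⁻¹ * Y⁻¹) := by
    rw [hXdef, inv_inv]
    calc repU ρ ⟨cm x y, hm⟩ = X'⁻¹ * (X' * repU ρ ⟨cm x y, hm⟩ * Y) * Y⁻¹ := by group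
      _ = (X'⁻¹ * scalarU d c) * Y * X' * Y⁻¹ := by rw [he]; group
      _ = _ := by rw [← (scalarU_comm d c X'⁻¹).eq]; group
  have hterm : ∀ m1 m2 : M, extendByZero M ψ (cm (x * m1) (y * m2)) =
      (c : ℂ) * LinearMap.trace ℂ _ ((ρ m1 * ((Y : Module.End ℂ (Fin d → ℂ)) * ρ m2) * ρ m1⁻¹) *
        ((X⁻¹ : EndU d).1 * (ρ m2⁻¹ * (Y⁻¹ : EndU d).1) * (X : Module.End ℂ (Fin d → ℂ)))) := by
    intro m1 m2
    rw [extendByZero_of_mem M _ ((cm_mem_iff M x y m1 m2).2 hm), ← hρ]
    let cn : G → M → M := fun g m => ⟨g * m * g⁻¹, hMn.conj_mem _ m.2 g⟩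
    have e : (⟨cm (x * m1) (y * m2), (cm_mem_iff M x y m1 m2).2 hm⟩ : M) =
        cn x m1 * cn (x * y) (m2 * m1⁻¹) * ⟨cm x y, hm⟩ * cn y m2⁻¹ := by
      apply Subtype.ext
      simp only [cn, Subgroup.coe_mul, Subgroup.coe_inv, cm]
      group
    have eA : repU ρ (cn x m1) = X * repU ρ m1 * X⁻¹ := by
      rw [hX m1 (cn x m1) rfl, mul_inv_cancel_right]
    have eB : repU ρ (cn (x * y) (m2 * m1⁻¹)) =
        X * Y * repU ρ (m2 * m1⁻¹) * (X * Y)⁻¹ := by
      rw [hX.mul hY (hnorm y) (m2 * m1⁻¹) (cn (x * y) _) rfl, mul_inv_cancel_right]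
    have eC : repU ρ (cn y m2⁻¹) = Y * repU ρ m2⁻¹ * Y⁻¹ := by
      rw [hY m2⁻¹ (cn y m2⁻¹) rfl, mul_inv_cancel_right]
    have eU : repU ρ (⟨cm (x * m1) (y * m2), (cm_mem_iff M x y m1 m2).2 hm⟩ : M) =
        scalarU d c * (X * (repU ρ m1 * (Y * repU ρ m2) * repU ρ m1⁻¹ *
          (X⁻¹ * (repU ρ m2⁻¹ * Y⁻¹)))) := by
      rw [e, map_mul, map_mul, map_mul, eA, eB, eC, hw, map_mul (repU ρ) m2]
      calc X * repU ρ m1 * X⁻¹ * (X * Y * (repU ρ m2 * repU ρ m1⁻¹) * (X * Y)⁻¹) *
            (scalarU d c * (X * Y * X⁻¹ * Y⁻¹)) * (Y * repU ρ m2⁻¹ * Y⁻¹)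
          = (X * repU ρ m1 * X⁻¹ * (X * Y * (repU ρ m2 * repU ρ m1⁻¹) * (X * Y)⁻¹) *
            scalarU d c) * (X * Y * X⁻¹ * Y⁻¹) * (Y * repU ρ m2⁻¹ * Y⁻¹) := by group
        _ = _ := by rw [← (scalarU_comm d c _).eq]; group
    show LinearMap.trace ℂ _ (ρ _) = _
    rw [← repU_val ρ, eU, Units.val_mul, scalarU_val, Algebra.algebraMap_eq_smul_one,
      smul_mul_assoc, one_mul, map_smul, smul_eq_mul, Units.val_mul]
    simp only [Units.val_mul, repU_val]
    rw [LinearMap.trace_mul_comm]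
    simp only [mul_assoc]
  have hd : (d : ℂ) = ψ 1 := by rw [← hρ, ρ.char_one, Module.finrank_fin_fun]
  rw [← hd, Finset.sum_comm]
  have hinner : ∀ m2 : M, (d : ℂ) * ∑ m1 : M, extendByZero M ψ (cm (x * m1) (y * m2)) =
      (c : ℂ) * (Nat.card M : ℂ) * (LinearMap.trace ℂ _ ((Y : Module.End ℂ (Fin d → ℂ)) * ρ m2) *
        LinearMap.trace ℂ _ (ρ m2⁻¹ * (Y⁻¹ : EndU d).1)) := by
    intro m2
    obtain ⟨a, ha, had⟩ := sum_conj_eq_scalar ρ hρi ((Y : Module.End ℂ (Fin d → ℂ)) * ρ m2)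
    simp only [hterm, ← Finset.mul_sum, ← map_sum, ← Finset.sum_mul, ha, smul_mul_assoc, one_mul,
      map_smul, smul_eq_mul]
    rw [LinearMap.trace_mul_cycle, Units.mul_inv, one_mul]
    linear_combination (c : ℂ) * LinearMap.trace ℂ _ (ρ m2⁻¹ * (Y⁻¹ : EndU d).1) * had
  have hd0 : (d : ℂ) ≠ 0 := hd ▸ IsIrr.one_ne_zero hψ
  rw [Finset.mul_sum]
  simp only [hinner, ← Finset.mul_sum]
  have h2 := sum_trace_mul_trace ρ hρi (Y : Module.End ℂ (Fin d → ℂ)) (Y⁻¹ : EndU d).1
  rw [Units.mul_inv, LinearMap.trace_one, Module.finrank_fin_fun, mul_comm (Nat.card M : ℂ)] at h2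
  rw [mul_left_cancel₀ hd0 h2]
  ring

/-- The characters lying over a member of `X`. -/
def Over (X : Finset (IrrCharacter M)) (χ : IrrCharacter G) : Prop :=
  ∃ ψ ∈ X, classInner (fun m : M => (χ : G → ℂ) m) (ψ : M → ℂ) ≠ 0

theorem card_conj_fibre (g h : G) [Decidable (IsConj g h)] :
    (Nat.card {y : G // y * g * y⁻¹ = h}) =
      if IsConj g h then Nat.card (Subgroup.centralizer ({g} : Set G)) else 0 := by
  split_ifs with hc
  · obtain ⟨y0, hy0⟩ := isConj_iff.1 hc
    refine Nat.card_congr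
      { toFun := fun y => ⟨y0⁻¹ * y, Subgroup.mem_centralizer_singleton_iff.2 ?_⟩
        invFun := fun k => ⟨y0 * k, ?_⟩
        left_inv := fun y => Subtype.ext (mul_inv_cancel_left _ _)
        right_inv := fun k => Subtype.ext (inv_mul_cancel_left _ _) }
    · have h1 : (y : G) * g * (y : G)⁻¹ = y0 * g * y0⁻¹ := y.2.trans hy0.symm
      calc y0⁻¹ * y * g = y0⁻¹ * ((y : G) * g * (y : G)⁻¹) * y := by group
        _ = g * (y0⁻¹ * y) := by rw [h1]; group
    · have hk := Subgroup.mem_centralizer_singleton_iff.1 k.2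
      calc y0 * k * g * (y0 * k)⁻¹ = y0 * (k * g) * (k : G)⁻¹ * y0⁻¹ := by group
        _ = y0 * g * y0⁻¹ := by rw [hk]; group
        _ = h := hy0
  · have : IsEmpty {y : G // y * g * y⁻¹ = h} := ⟨fun y => hc (isConj_iff.2 ⟨y, y.2⟩)⟩
    exact Nat.card_of_isEmpty

/-- The count of characters over a stable set. -/
theorem card_over (X : Finset (IrrCharacter M))
    (hX : ∀ (g : G) (ψ ψ' : IrrCharacter M), ψ ∈ X →
      IsConjCharOf M g (ψ : M → ℂ) (ψ' : M → ℂ) → ψ' ∈ X) :
    (Nat.card G : ℂ) * Nat.card M * Nat.card {χ : IrrCharacter G // Over M X χ} =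
      ∑ x : G, ∑ y : G, ∑ ψ ∈ X, omg M (ψ : M → ℂ) x y := by
  classical
  let f : M → ℂ := fun m => ∑ ψ ∈ X, (ψ : M → ℂ) 1 * (ψ : M → ℂ) m
  have hdeg : ∀ ψ : IrrCharacter M, conj ((ψ : M → ℂ) 1) = (ψ : M → ℂ) 1 := fun ψ => by
    obtain ⟨k, hk⟩ := IsChar.degree (IsIrr.isCharacter ψ.2)
    rw [hk, Complex.conj_natCast]
  -- invariance of `f`
  have hf : ∀ (g : G) (m m' : M), (m' : G) = g * m * g⁻¹ → f m' = f m := by
    intro g m m' h
    let cg : IrrCharacter M → IrrCharacter M := fun ψ => ⟨conjFun g (ψ : M → ℂ), isIrr_conjFun g ψ.2⟩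
    have hinj : Function.Injective cg := fun a b hab =>
      Subtype.ext (conjFun_injective g (congrArg Subtype.val hab))
    have himg : X.image cg = X := by
      refine Finset.eq_of_subset_of_card_le ?_ (by rw [Finset.card_image_of_injective _ hinj])
      intro a ha
      obtain ⟨ψ, hψ, rfl⟩ := Finset.mem_image.1 ha
      exact hX g⁻¹ ψ _ hψ fun k k' hk => by
        show (ψ : M → ℂ) _ = _
        exact congrArg _ (Subtype.ext (by
          show g * (k' : G) * g⁻¹ = k
          rw [hk]; group))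
    show ∑ ψ ∈ X, (ψ : M → ℂ) 1 * (ψ : M → ℂ) m' = ∑ ψ ∈ X, (ψ : M → ℂ) 1 * (ψ : M → ℂ) m
    conv_rhs => rw [← himg, Finset.sum_image (fun a _ b _ hab => hinj hab)]
    refine Finset.sum_congr rfl fun ψ _ => ?_
    show _ = conjFun g (ψ : M → ℂ) 1 * conjFun g (ψ : M → ℂ) m
    rw [conjFun_apply_one, conjFun_apply]
    exact congrArg _ (congrArg _ (Subtype.ext h))
  -- the projection
  have hproj : ∀ (χ : IrrCharacter G) (g : G), ∑ m : M, conj (f m) * (χ : G → ℂ) (g * m) =
      if Over M X χ then (Nat.card M : ℂ) * (χ : G → ℂ) g else 0 := by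
    rintro ⟨χ, hχ⟩ g
    obtain ⟨d, ρ, hρi, rfl⟩ := id hχ
    set T : Module.End ℂ (Fin d → ℂ) := ∑ m : M, conj (f m) • ρ (m : G)
    obtain ⟨a, ha, had⟩ := commute_eq_scalar ρ hρi T fun h => by
      rw [Finset.sum_mul, Finset.mul_sum]
      let e : M ≃ M := (MulAut.conjNormal (H := M) h⁻¹).toEquiv
      refine Fintype.sum_equiv e _ _ fun m => ?_
      have he : ((e m : M) : G) = h⁻¹ * m * h := by simp [e, MulAut.conjNormal_apply]
      rw [smul_mul_assoc, mul_smul_comm, ← map_mul, ← map_mul, he,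
        hf h⁻¹ m (e m) (by rw [he]; group)]
      congr 2
      group
    rw [Module.finrank_fin_fun] at had
    have hleft : ∑ m : M, conj (f m) * ρ.character (g * m) = a * ρ.character g := by
      calc ∑ m : M, conj (f m) * ρ.character (g * m) = LinearMap.trace ℂ _ (ρ g * T) := by
            simp only [T, Finset.mul_sum, map_sum, mul_smul_comm, ← map_mul, map_smul, smul_eq_mul]
            rfl
        _ = _ := by
            rw [ha, mul_smul_comm, ← Module.End.one_eq_id, mul_one, map_smul, smul_eq_mul]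
            rfl
    have htr : LinearMap.trace ℂ _ T = (Nat.card M : ℂ) *
        ∑ ψ ∈ X, (ψ : M → ℂ) 1 * classInner (fun m : M => ρ.character m) (ψ : M → ℂ) := by
      simp only [T, map_sum, map_smul, smul_eq_mul, f, hdeg, map_mul, Finset.sum_mul]
      rw [Finset.sum_comm, Finset.mul_sum]
      refine Finset.sum_congr rfl fun ψ _ => ?_
      rw [classInner, ← mul_assoc (Nat.card M : ℂ), mul_comm (Nat.card M : ℂ) ((ψ : M → ℂ) 1),
        mul_assoc, ← mul_assoc (Nat.card M : ℂ), mul_inv_cancel₀ (by simp), one_mul, Finset.mul_sum]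
      exact Finset.sum_congr rfl fun m _ => by
        show _ * LinearMap.trace ℂ _ (ρ (m : G)) = _
        simp only [Representation.character]; ring
    have hd0 : (d : ℂ) ≠ 0 := by
      have := IsIrr.one_ne_zero hχ
      rwa [ρ.char_one, Module.finrank_fin_fun] at this
    show ∑ m : M, conj (f m) * ρ.character (g * m) = _
    rw [hleft]
    split_ifs with ho
    · obtain ⟨ψ0, hψ0, h0⟩ := ho
      have hall : ∑ ψ ∈ X, (ψ : M → ℂ) 1 * classInner (fun m : M => ρ.character m) (ψ : M → ℂ) =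
          (d : ℂ) := by
        have hexp := congrFun (classFun_expansion (isClassFunction_of_isCharacter
          (isCharacter_res M (IsIrr.isCharacter hχ)))) 1
        simp only [Finset.sum_apply, Pi.smul_apply, smul_eq_mul, OneMemClass.coe_one, ρ.char_one,
          Module.finrank_fin_fun] at hexp
        rw [hexp, Finset.sum_subset (Finset.subset_univ X) fun ψ _ hψ => ?_]
        · exact Finset.sum_congr rfl fun ψ _ => mul_comm _ _
        · by_contra hne
          obtain ⟨t, ht⟩ := mem_orbit.1 (constituent_mem_orbit hχ ψ0.2 ψ.2 h0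
            (fun h => hne (by rw [h, mul_zero])))
          refine hψ (hX t⁻¹ ψ0 ψ hψ0 fun k k' hk => ?_)
          rw [← ht, conjFun_apply]
          exact congrArg _ (Subtype.ext (by show t * (k' : G) * t⁻¹ = k; rw [hk]; group))
      rw [htr, hall] at had
      rw [mul_right_cancel₀ hd0 had]
    · have hnone : ∑ ψ ∈ X, (ψ : M → ℂ) 1 * classInner (fun m : M => ρ.character m) (ψ : M → ℂ)
          = 0 := Finset.sum_eq_zero fun ψ hψ => by
        rw [show classInner (fun m : M => ρ.character m) (ψ : M → ℂ) = 0 from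
          by_contra fun h => ho ⟨ψ, hψ, h⟩, mul_zero]
      rw [htr, hnone, mul_zero, mul_eq_zero] at had
      rw [had.resolve_right hd0, zero_mul]
  -- count
  let F : G → ℂ := extendByZero M fun m => conj (f m)
  have h1 : (Nat.card G : ℂ) * Nat.card M * Nat.card {χ : IrrCharacter G // Over M X χ} =
      ∑ g : G, ∑ y : G, F (g⁻¹ * (y * g * y⁻¹)) := by
    have hA : ∀ g : G, ∑ y : G, F (g⁻¹ * (y * g * y⁻¹)) =
        ∑ χ : IrrCharacter G, conj ((χ : G → ℂ) g) *
          ∑ m : M, conj (f m) * (χ : G → ℂ) (g * m) := by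
      intro g
      simp only [Finset.mul_sum]
      rw [Finset.sum_comm]
      have hs : ∀ m : M, ∑ χ : IrrCharacter G, conj ((χ : G → ℂ) g) *
          (conj (f m) * (χ : G → ℂ) (g * m)) =
          conj (f m) * (Nat.card {y : G // y * g * y⁻¹ = g * m} : ℂ) := by
        intro m
        have h2 := congrArg conj (second_orthogonality g (g * (m : G)))
        simp only [map_sum, map_mul, Complex.conj_conj] at h2
        rw [Finset.sum_congr rfl fun χ _ => mul_left_comm _ _ _, ← Finset.mul_sum, h2,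
          card_conj_fibre]
        split_ifs <;> simp
      simp only [hs]
      have hcard : ∀ m : M, (Nat.card {y : G // y * g * y⁻¹ = g * m} : ℂ) =
          ∑ y : G, if y * g * y⁻¹ = g * m then (1 : ℂ) else 0 := fun m => by
        rw [Finset.sum_boole, Nat.card_eq_fintype_card, Fintype.card_subtype]
      simp only [hcard, Finset.mul_sum, mul_ite, mul_one, mul_zero]
      rw [Finset.sum_comm]
      refine Finset.sum_congr rfl fun y _ => ?_
      by_cases hmem : g⁻¹ * (y * g * y⁻¹) ∈ M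
      · rw [Finset.sum_eq_single ⟨_, hmem⟩]
        · rw [if_pos (by simp), show F _ = _ from extendByZero_of_mem M _ hmem]
        · intro m _ hne
          rw [if_neg]
          intro h
          exact hne (Subtype.ext (by simp [h]))
        · simp
      · rw [show F _ = 0 from extendByZero_of_not_mem M _ hmem, Finset.sum_eq_zero]
        intro m _
        rw [if_neg]
        intro h
        exact hmem (by rw [h, inv_mul_cancel_left]; exact m.2)
    simp only [hA, hproj]
    rw [Finset.sum_comm]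
    have hin : ∀ χ : IrrCharacter G, ∑ g : G, conj ((χ : G → ℂ) g) *
        (if Over M X χ then (Nat.card M : ℂ) * (χ : G → ℂ) g else 0) =
        if Over M X χ then (Nat.card G : ℂ) * Nat.card M else 0 := by
      intro χ
      split_ifs
      · have h3 := classInner_irr_self χ.2
        rw [classInner, inv_mul_eq_iff_eq_mul₀ (by simp), mul_one] at h3
        rw [← h3, Finset.sum_mul]
        exact Finset.sum_congr rfl fun g _ => by ring
      · simp
    simp only [hin]
    rw [Finset.sum_ite, Finset.sum_const_zero, add_zero, Finset.sum_const, nsmul_eq_mul,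
      Nat.card_eq_fintype_card (α := {χ : IrrCharacter G // Over M X χ}), Fintype.card_subtype,
      mul_comm]
  have h2 : ∑ g : G, ∑ y : G, F (g⁻¹ * (y * g * y⁻¹)) =
      ∑ x : G, ∑ y : G, ∑ ψ ∈ X, (ψ : M → ℂ) 1 * extendByZero M (ψ : M → ℂ) (cm x y) := by
    conv_rhs => rw [Finset.sum_comm]
    refine Fintype.sum_equiv (Equiv.inv G) _ _ fun g => Finset.sum_congr rfl fun y _ => ?_
    rw [show g⁻¹ * (y * g * y⁻¹) = cm ((Equiv.inv G) g) y by simp [cm]; group]
    by_cases hmem : cm ((Equiv.inv G) g) y ∈ M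
    · rw [show F _ = _ from extendByZero_of_mem M _ hmem]
      simp only [f, map_sum, map_mul, hdeg]
      refine Finset.sum_congr rfl fun ψ _ => ?_
      rw [ext0_cm_inv M (IsIrr.isCharacter ψ.2), extendByZero_of_mem M _ hmem]
    · rw [show F _ = 0 from extendByZero_of_not_mem M _ hmem]
      symm
      refine Finset.sum_eq_zero fun ψ _ => ?_
      rw [ext0_cm_inv M (IsIrr.isCharacter ψ.2), extendByZero_of_not_mem M _ hmem, map_zero, mul_zero]
  rw [h1, h2]
  have hM0 : (Nat.card M : ℂ) ^ 2 ≠ 0 := pow_ne_zero _ (by simp)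
  refine mul_left_cancel₀ hM0 ?_
  have hshift : ∀ h : G → G → ℂ, (Nat.card M : ℂ) ^ 2 * ∑ x : G, ∑ y : G, h x y =
      ∑ x : G, ∑ y : G, ∑ m1 : M, ∑ m2 : M, h (x * m1) (y * m2) := by
    intro h
    calc (Nat.card M : ℂ) ^ 2 * ∑ x : G, ∑ y : G, h x y
        = ∑ _m1 : M, ∑ _m2 : M, ∑ x : G, ∑ y : G, h x y := by
          simp [Nat.card_eq_fintype_card, sq, mul_assoc]
      _ = ∑ m1 : M, ∑ m2 : M, ∑ x : G, ∑ y : G, h (x * m1) (y * m2) := by
          refine Finset.sum_congr rfl fun m1 _ => Finset.sum_congr rfl fun m2 _ => ?_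
          refine (Fintype.sum_equiv (Equiv.mulRight (m1 : G)) _ _ fun x => ?_).symm
          exact Fintype.sum_equiv (Equiv.mulRight (m2 : G)) _ _ fun y => rfl
      _ = _ := by
          rw [Finset.sum_comm_cycle]
          refine Finset.sum_congr rfl fun x _ => ?_
          rw [Finset.sum_comm_cycle]
  rw [hshift]
  have hinner : ∀ x y : G, ∑ m1 : M, ∑ m2 : M,
      ∑ ψ ∈ X, (ψ : M → ℂ) 1 * extendByZero M (ψ : M → ℂ) (cm (x * m1) (y * m2)) =
      (Nat.card M : ℂ) ^ 2 * ∑ ψ ∈ X, omg M (ψ : M → ℂ) x⁻¹ y := by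
    intro x y
    rw [Finset.sum_comm_cycle, Finset.mul_sum]
    refine Finset.sum_congr rfl fun ψ _ => ?_
    rw [← sum_sum_cm M ψ.2, Finset.mul_sum]
    simp only [Finset.mul_sum]
  simp only [hinner, ← Finset.mul_sum]
  congr 1
  exact Fintype.sum_equiv (Equiv.inv G) _ _ fun x => rfl

end Cfsg.Agent.RelMcKay
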