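import Cfsg.Agent.RelMcKay.Bij
import Cfsg.Agent.RelMcKay.Count
import Mathlib.GroupTheory.SchurZassenhaus

/-!
# The count for a group with a normal `p'`-subgroup `K` such that `K S` is normal
-/

set_option autoImplicit false

namespace Cfsg.Agent.RelMcKay

open Cfsg.Agent.ProjExt Cfsg.Agent.Char
open scoped ComplexConjugate

universe u

noncomputable local instance hardFin {α : Type u} [Finite α] : Fintype α := Fintype.ofFinite α

variable {G : Type u} [Group G]

/-- The scalar transported to a subgroup containing everything in sight. -/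
theorem omg_subgroupOf {Nw D : Subgroup G} (h : D ≤ Nw) (ψ : D → ℂ) (x y : Nw) :
    omg (D.subgroupOf Nw) (fun a => ψ (Subgroup.subgroupOfEquivOfLe h a)) x y =
      omg D ψ (x : G) (y : G) := by
  let e := Subgroup.subgroupOfEquivOfLe h
  refine omg_congr fun c => ⟨?_, ?_⟩
  · rintro ⟨d, ρ, X, Y, w, hρ, hw, hX, hY, he⟩
    refine ⟨d, ρ.comp e.symm.toMonoidHom, X, Y, e w, ?_, ?_, ?_, ?_, ?_⟩
    · funext a
      show ρ.character (e.symm a) = ψ a
      rw [hρ]
      exact congrArg ψ (e.apply_symm_apply a)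
    · exact congrArg Subtype.val hw
    · exact fun m m' hm => hX (e.symm m) (e.symm m') (Subtype.ext hm)
    · exact fun m m' hm => hY (e.symm m) (e.symm m') (Subtype.ext hm)
    · rw [← he]
      congr 2
  · rintro ⟨d, ρ, X, Y, w, hρ, hw, hX, hY, he⟩
    refine ⟨d, ρ.comp e.toMonoidHom, X, Y, e.symm w, ?_, ?_, ?_, ?_, ?_⟩
    · funext a
      show ρ.character (e a) = ψ (e a)
      rw [hρ]
    · exact Subtype.ext hw
    · exact fun m m' hm => hX (e m) (e m') (congrArg Subtype.val hm)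
    · exact fun m m' hm => hY (e m) (e m') (congrArg Subtype.val hm)
    · rw [← he]
      congr 2

theorem isConjCharOf_subgroupOf {Nw D : Subgroup G} (h : D ≤ Nw) {ψ : D → ℂ} (x : Nw) :
    IsConjCharOf (D.subgroupOf Nw) x (fun a => ψ (Subgroup.subgroupOfEquivOfLe h a))
      (fun a => ψ (Subgroup.subgroupOfEquivOfLe h a)) ↔ IsConjCharOf D (x : G) ψ ψ := by
  let e := Subgroup.subgroupOfEquivOfLe h
  constructor
  · intro H k k' hk
    have := H (e.symm k) (e.symm k') (Subtype.ext hk)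
    simpa [e] using this
  · exact fun H k k' hk => H (e k) (e k') (congrArg Subtype.val hk)

section Fin

variable [Finite G]

/-- The scalar only depends on the cosets. -/
theorem omg_coset {M : Subgroup G} [M.Normal] {ψ : M → ℂ} (hψ : IsIrrCharacter M ψ) (x y : G)
    {m m' : G} (hm : m ∈ M) (hm' : m' ∈ M) :
    omg M ψ (x * m) (y * m') = omg M ψ x y := by
  let n : M := ⟨x * m⁻¹ * x⁻¹, (inferInstance : M.Normal).conj_mem _ (inv_mem hm) x⟩
  have h1 := sum_sum_cm M hψ (x⁻¹ * n) (y * m')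
  have h2 := sum_sum_cm M hψ x⁻¹ y
  have e : (x⁻¹ * (n : G))⁻¹ = x * m := by simp only [n]; group
  rw [e] at h1
  rw [inv_inv] at h2
  have hM : (Nat.card M : ℂ) ^ 2 ≠ 0 := pow_ne_zero _ (by simp)
  refine mul_left_cancel₀ hM ?_
  rw [← h1, ← h2]
  refine congrArg _ (Fintype.sum_equiv (Equiv.mulLeft n) _ _ fun m1 => ?_)
  refine Fintype.sum_equiv (Equiv.mulLeft ⟨m', hm'⟩) _ _ fun m2 => ?_
  simp only [Equiv.coe_mulLeft, Subgroup.coe_mul, mul_assoc]

/-- Summing a function constant on the cosets of a supplemented normal subgroup. -/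
theorem sum_supplement {M Nw D : Subgroup G} [M.Normal] (hD : D = M ⊓ Nw)
    (hsup : Nw ⊔ M = ⊤) (f : G → ℂ) (hf : ∀ (g m : G), m ∈ M → f (g * m) = f g) :
    (Nat.card D : ℂ) * ∑ g, f g = (Nat.card M : ℂ) * ∑ n : Nw, f n := by
  have := Classical.decEq G
  have hgen : ∀ g : G, ∃ n : Nw, ∃ m : M, g = (n : G) * m := fun g => by
    obtain ⟨n, hn, m, hm, h⟩ := Subgroup.mem_sup_of_normal_right.1
      (hsup.symm ▸ Subgroup.mem_top g : g ∈ Nw ⊔ M)
    exact ⟨⟨n, hn⟩, ⟨m, hm⟩, h.symm⟩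
  choose n0 m0 h0 using hgen
  have hcard : ∀ g : G,
      (Finset.univ.filter fun q : Nw × M => (q.1 : G) * q.2 = g).card = Nat.card D := by
    intro g
    rw [Nat.card_eq_fintype_card, ← Finset.card_univ]
    symm
    refine Finset.card_bij (fun d _ => (n0 g * ⟨d, (Subgroup.mem_inf.1 (hD.le d.2)).2⟩,
      (⟨d, (Subgroup.mem_inf.1 (hD.le d.2)).1⟩ : M)⁻¹ * m0 g)) ?_ ?_ ?_
    · intro d _
      rw [Finset.mem_filter]
      refine ⟨Finset.mem_univ _, ?_⟩
      simp only [Subgroup.coe_mul, Subgroup.coe_inv]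
      rw [mul_assoc, mul_inv_cancel_left, ← h0]
    · intro a _ b _ hab
      have h1 := congrArg (fun q => ((Prod.fst q : Nw) : G)) hab
      simp only [Subgroup.coe_mul, mul_right_inj] at h1
      exact Subtype.ext h1
    · rintro ⟨n, m⟩ hq
      rw [Finset.mem_filter] at hq
      have hg : (n : G) * m = (n0 g : G) * m0 g := hq.2.trans (h0 g)
      have e : (n0 g : G)⁻¹ * n = (m0 g : G) * (m : G)⁻¹ := by
        rw [inv_mul_eq_iff_eq_mul, ← mul_assoc, ← hg, mul_inv_cancel_right]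
      have hdD : (n0 g : G)⁻¹ * n ∈ D := hD ▸ Subgroup.mem_inf.2
        ⟨e ▸ mul_mem (m0 g).2 (inv_mem m.2), mul_mem (inv_mem (n0 g).2) n.2⟩
      refine ⟨⟨_, hdD⟩, Finset.mem_univ _, Prod.ext (Subtype.ext ?_) (Subtype.ext ?_)⟩
      · simp
      · simp only [Subgroup.coe_mul, Subgroup.coe_inv]
        rw [e]
        group
  calc (Nat.card D : ℂ) * ∑ g, f g
      = ∑ g, ∑ _q ∈ Finset.univ.filter (fun q : Nw × M => (q.1 : G) * q.2 = g), f g := by
        rw [Finset.mul_sum]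
        exact Finset.sum_congr rfl fun g _ => by rw [Finset.sum_const, hcard, nsmul_eq_mul]
    _ = ∑ g, ∑ q ∈ Finset.univ.filter (fun q : Nw × M => (q.1 : G) * q.2 = g),
          f ((q.1 : G) * q.2) :=
        Finset.sum_congr rfl fun g _ => Finset.sum_congr rfl fun q hq => by
          rw [(Finset.mem_filter.1 hq).2]
    _ = ∑ q : Nw × M, f ((q.1 : G) * q.2) := Finset.sum_fiberwise _ _ _
    _ = (Nat.card M : ℂ) * ∑ n : Nw, f n := by
        rw [Fintype.sum_prod_type, Finset.mul_sum]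
        refine Finset.sum_congr rfl fun n _ => ?_
        rw [Finset.sum_congr rfl fun (m : M) _ => hf (n : G) (m : G) m.2, Finset.sum_const, Finset.card_univ,
          ← Nat.card_eq_fintype_card, nsmul_eq_mul]

theorem sum_sum_supplement {M Nw D : Subgroup G} [M.Normal] (hD : D = M ⊓ Nw)
    (hsup : Nw ⊔ M = ⊤) (f : G → G → ℂ)
    (hf : ∀ (g h m m' : G), m ∈ M → m' ∈ M → f (g * m) (h * m') = f g h) :
    (Nat.card D : ℂ) ^ 2 * ∑ g, ∑ h, f g h =
      (Nat.card M : ℂ) ^ 2 * ∑ n : Nw, ∑ k : Nw, f n k := by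
  have h1 := sum_supplement hD hsup (fun g => ∑ h, f g h) fun g m hm =>
    Finset.sum_congr rfl fun h _ => by simpa using hf g h m 1 hm (one_mem M)
  have h2 : ∀ n : Nw, (Nat.card D : ℂ) * ∑ h, f n h = (Nat.card M : ℂ) * ∑ k : Nw, f n k :=
    fun n => sum_supplement hD hsup (f n) fun h m hm => by simpa using hf n h 1 m (one_mem M) hm
  rw [sq, mul_assoc, h1, ← mul_assoc, mul_comm (Nat.card D : ℂ), mul_assoc, Finset.mul_sum,
    Finset.sum_congr rfl fun n _ => h2 n, ← Finset.mul_sum, ← mul_assoc, ← sq]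

variable {p : ℕ} [Fact p.Prime]

/-- `p'`-degree characters over `lam` are those lying over such characters of `M`. -/
theorem over_iff {M Z : Subgroup G} [M.Normal] (hidx : ¬ p ∣ M.index)
    (hZ : Z ≤ Subgroup.center G) (hZM : Z ≤ M) (lam : Z →* ℂˣ) (X : Finset (IrrCharacter M))
    (hX : ∀ ψ, ψ ∈ X ↔ Pl p M Z lam ψ) (χ : IrrCharacter G) :
    (¬ p ∣ charDegree (χ : G → ℂ) ∧
      ∀ z : Z, (χ : G → ℂ) z = (lam z : ℂ) * (χ : G → ℂ) 1) ↔ Over M X χ := by
  have key : ∀ ψ : IrrCharacter M, classInner (fun m : M => (χ : G → ℂ) m) (ψ : M → ℂ) ≠ 0 →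
      ∀ z : Z, ∃ c : ℂ, (χ : G → ℂ) z = c * (χ : G → ℂ) 1 ∧
        (ψ : M → ℂ) ⟨z, hZM z.2⟩ = c * (ψ : M → ℂ) 1 := by
    intro ψ hψ z
    obtain ⟨c, hc, -⟩ := central_scalar χ.2 (hZ z.2)
    obtain ⟨c', hc', hc'o, -⟩ := central_scalar ψ.2 (mem_center_of_mem (hZ z.2) (hZM z.2))
    have e : (c : ℂ) = c' := scalar_eq_of_inner (k := (⟨z, hZM z.2⟩ : M))
      (fun x => hc (x : G)) hc' (conj_unit_eq_inv (orderOf_pos _).ne' hc'o) hψ
    refine ⟨c, ?_, ?_⟩
    · have := hc 1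
      rwa [mul_one] at this
    · have := hc' 1
      rw [mul_one] at this
      rw [this, e]
  constructor
  · rintro ⟨hdeg, hsc⟩
    obtain ⟨ψ, hψ⟩ : ∃ ψ : IrrCharacter M,
        classInner (fun m : M => (χ : G → ℂ) m) (ψ : M → ℂ) ≠ 0 := by
      by_contra h
      push Not at h
      have hexp := classFun_expansion (isClassFunction_of_isCharacter
        (isCharacter_res M (IsIrr.isCharacter χ.2)))
      have h1 := congrFun hexp 1
      simp only [h, zero_smul, Finset.sum_const_zero, Pi.zero_apply] at h1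
      exact IsIrr.one_ne_zero χ.2 h1
    refine ⟨ψ, (hX ψ).2 ⟨fun hp => hdeg ?_, fun z hz => ?_⟩, hψ⟩
    · obtain ⟨k, hk, -⟩ := exists_ratio_dvd_index χ.2 ψ.2 hψ
      obtain ⟨d, -, hd⟩ := IsIrr.degree ψ.2
      rw [hd, ← Nat.cast_mul] at hk
      rw [charDegree_eq_natCast hd] at hp
      rw [charDegree_eq_natCast hk]
      exact hp.mul_left k
    · obtain ⟨c, c1, c2⟩ := key ψ hψ z
      have h := hsc z
      rw [c1] at h
      rw [c2, mul_right_cancel₀ (IsIrr.one_ne_zero χ.2) h]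
  · rintro ⟨ψ, hψX, hψ⟩
    obtain ⟨hdeg, hsc⟩ := (hX ψ).1 hψX
    refine ⟨fun hp => ?_, fun z => ?_⟩
    · obtain ⟨k, hk, hki⟩ := exists_ratio_dvd_index χ.2 ψ.2 hψ
      obtain ⟨d, -, hd⟩ := IsIrr.degree ψ.2
      rw [hd, ← Nat.cast_mul] at hk
      rw [charDegree_eq_natCast hd] at hdeg
      rw [charDegree_eq_natCast hk] at hp
      rcases (Fact.out : p.Prime).dvd_mul.1 hp with h | h
      · exact hidx (h.trans hki)
      · exact hdeg h
    · obtain ⟨c, c1, c2⟩ := key ψ hψ z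
      have h := hsc z (hZM z.2)
      rw [c2] at h
      rw [c1, mul_right_cancel₀ (IsIrr.one_ne_zero ψ.2) h]

theorem pl_conj {M Z : Subgroup G} (hZ : Z ≤ Subgroup.center G) (lam : Z →* ℂˣ) (g : G)
    (ψ ψ' : IrrCharacter M) (h : Pl p M Z lam ψ) (hgM : g ∈ Subgroup.normalizer (M : Set G))
    (hc : IsConjCharOf M g (ψ : M → ℂ) (ψ' : M → ℂ)) : Pl p M Z lam ψ' := by
  have h1 : (ψ' : M → ℂ) 1 = (ψ : M → ℂ) 1 := hc 1 1 (by simp)
  refine ⟨by rw [charDegree, h1]; exact h.1, fun z hz => ?_⟩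
  rw [h1, hc ⟨z, hz⟩ ⟨z, hz⟩ (by
    rw [show g * (z : G) = (z : G) * g from Subgroup.mem_center_iff.1 (hZ z.2) g, mul_inv_cancel_right])]
  exact h.2 z hz

/-- A subgroup generated by two elements commuting modulo a normal subgroup. -/
theorem commutator_mem_of_gen {H : Type u} [Group H] {C : Subgroup H} [C.Normal] {u v : H}
    (h : u⁻¹ * v * u * v⁻¹ ∈ C) {a b : H} (ha : a ∈ Subgroup.closure {u, v} ⊔ C)
    (hb : b ∈ Subgroup.closure {u, v} ⊔ C) : a * b * a⁻¹ * b⁻¹ ∈ C := by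
  let q := QuotientGroup.mk' C
  have hle : (Subgroup.closure {u, v} ⊔ C).map q ≤ Subgroup.closure ({q u, q v} : Set (H ⧸ C)) := by
    rw [Subgroup.map_sup, MonoidHom.map_closure, Set.image_pair, QuotientGroup.map_mk'_self,
      sup_bot_eq]
  have huv : q u * q v = q v * q u := by
    have h1 : q (u⁻¹ * v * u * v⁻¹) = 1 := (QuotientGroup.eq_one_iff _).2 h
    simp only [map_mul, map_inv] at h1
    rw [mul_inv_eq_one, mul_assoc, inv_mul_eq_iff_eq_mul] at h1
    exact h1.symm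
  have hS : ({q u, q v} : Set (H ⧸ C)) ⊆ Subgroup.centralizer ({q u, q v} : Set (H ⧸ C)) := by
    intro x hx
    rw [SetLike.mem_coe, Subgroup.mem_centralizer_iff]
    intro y hy
    rcases hx with rfl | rfl <;> rcases hy with rfl | rfl
    · rfl
    · exact huv.symm
    · exact huv
    · rfl
  have h1 : Subgroup.closure ({q u, q v} : Set (H ⧸ C)) ≤
      Subgroup.centralizer (Subgroup.closure ({q u, q v} : Set (H ⧸ C)) : Set (H ⧸ C)) := by
    rw [Subgroup.centralizer_closure]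
    exact (Subgroup.closure_le _).2 hS
  have h2 := Subgroup.mem_centralizer_iff.1 (h1 (hle ⟨a, ha, rfl⟩)) (q b) (hle ⟨b, hb, rfl⟩)
  rw [← QuotientGroup.eq_one_iff]
  show q (a * b * a⁻¹ * b⁻¹) = 1
  simp only [map_mul, map_inv]
  rw [← h2]
  group

/-- The count for a normal `p'`-subgroup `K` with `K S` normal. -/
theorem hard (K : Subgroup G) [K.Normal] (hK : ¬ p ∣ Nat.card K) (P : Sylow p G)
    (hMn : (K ⊔ (P : Subgroup G)).Normal) (Z : Subgroup G) (hZ : Z ≤ Subgroup.center G)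
    (hZM : Z ≤ K ⊔ (P : Subgroup G)) (lam : Z →* ℂˣ) (Nw : Subgroup G)
    (hNw : Nw = Subgroup.normalizer ((P : Subgroup G) : Set G)) (hZN : Z ≤ Nw) :
    Nat.card {χ : IrrCharacter G // ¬ p ∣ charDegree (χ : G → ℂ) ∧
        ∀ z : Z, (χ : G → ℂ) z = (lam z : ℂ) * (χ : G → ℂ) 1} =
      Nat.card {χ : IrrCharacter Nw // ¬ p ∣ charDegree (χ : Nw → ℂ) ∧
        ∀ z : Z, (χ : Nw → ℂ) ⟨z, hZN z.2⟩ = (lam z : ℂ) * (χ : Nw → ℂ) 1} := by
  have hp : p.Prime := Fact.out
  set S : Subgroup G := (P : Subgroup G) with hSdef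
  set M := K ⊔ S with hM
  set C := K ⊓ Subgroup.centralizer (S : Set G) with hC
  set D := C ⊔ S with hD
  have hS : IsPGroup p S := P.isPGroup'
  have hSK : S ≤ Subgroup.normalizer (K : Set G) := by
    rw [Subgroup.normalizer_eq_top]; exact le_top
  have hKn : ∀ g : G, g ∈ Subgroup.normalizer (K : Set G) := fun g => by
    rw [Subgroup.normalizer_eq_top]; exact Subgroup.mem_top g
  have hMn' : ∀ g : G, g ∈ Subgroup.normalizer (M : Set G) := fun g => by
    rw [Subgroup.normalizer_eq_top]; exact Subgroup.mem_top g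
  have hSN : S ≤ Nw := hNw ▸ Subgroup.le_normalizer
  have hCK : C ≤ K := inf_le_left
  have hKM : K ≤ M := le_sup_left
  have hCD : C ≤ D := le_sup_left
  have hSM : S ≤ M := le_sup_right
  have hSD : S ≤ D := le_sup_right
  have hDM : D ≤ M := sup_le_sup_right hCK S
  obtain ⟨m, hm⟩ := IsPGroup.iff_card.1 hS
  have hdisj : K ⊓ S = ⊥ := by
    refine (Subgroup.eq_bot_iff_forall _).2 fun g hg => ?_
    obtain ⟨hgK, hgS⟩ := Subgroup.mem_inf.1 hg
    refine eq_one_of_pow_coprime (m := p ^ m) (n := Nat.card K) ?_ ?_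
      (((hp.coprime_iff_not_dvd).2 hK).pow_left m)
    · have := pow_card_eq_one' (x := (⟨g, hgS⟩ : S))
      rw [hm] at this
      exact congrArg Subtype.val this
    · exact congrArg Subtype.val (pow_card_eq_one' (x := (⟨g, hgK⟩ : K)))
  have hCN : C ≤ Nw := by
    intro c hc
    rw [hNw]
    have h1 := Subgroup.mem_centralizer_iff.1 (Subgroup.mem_inf.1 hc).2
    exact mem_normalizer_of_conj (fun g hg => by rw [← h1 g hg, mul_inv_cancel_right]; exact hg)
      fun g hg => by rw [mul_assoc, h1 g hg, inv_mul_cancel_left]; exact hg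
  have hKNC : ∀ k ∈ K, k ∈ Nw → k ∈ C := by
    intro k hk hkN
    refine Subgroup.mem_inf.2 ⟨hk, Subgroup.mem_centralizer_iff.2 fun s hs => ?_⟩
    have h1 : k * s * k⁻¹ * s⁻¹ ∈ K ⊓ S := Subgroup.mem_inf.2
      ⟨by rw [mul_assoc, mul_assoc]; refine mul_mem hk ?_
          rw [← mul_assoc]; exact (inferInstance : K.Normal).conj_mem _ (inv_mem hk) s,
        mul_mem (conj_mem (hNw ▸ hkN) hs) (inv_mem hs)⟩
    rw [hdisj, Subgroup.mem_bot, mul_inv_eq_one, mul_inv_eq_iff_eq_mul] at h1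
    exact h1.symm
  have hDN : D ≤ Nw := sup_le hCN hSN
  have hDeq : D = M ⊓ Nw := by
    refine le_antisymm (le_inf hDM hDN) fun g hg => ?_
    obtain ⟨hgM, hgN⟩ := Subgroup.mem_inf.1 hg
    obtain ⟨k, hk, s, hs, rfl⟩ := Subgroup.mem_sup_of_normal_left.1 hgM
    have hkN : k ∈ Nw := by
      have := mul_mem hgN (inv_mem (hSN hs))
      rwa [mul_inv_cancel_right] at this
    exact mul_mem (hCD (hKNC k hk hkN)) (hSD hs)
  have hZD : Z ≤ D := hDeq ▸ le_inf hZM hZN
  have hsup : Nw ⊔ M = ⊤ := by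
    have := Sylow.normalizer_sup_eq_top (N := M) (P.subtype hSM)
    rw [Sylow.coe_subtype, Subgroup.map_subgroupOf_eq_of_le hSM] at this
    rwa [hNw]
  have hDn : (D.subgroupOf Nw).Normal := by
    rw [hDeq, Subgroup.inf_subgroupOf_right]
    exact Subgroup.Normal.subgroupOf (H := M) inferInstance Nw
  have hDnw : ∀ g ∈ Nw, g ∈ Subgroup.normalizer (D : Set G) := fun g hg =>
    hDeq ▸ mem_normalizer_inf (hMn' g) (Subgroup.le_normalizer hg)
  have hSn : (S.subgroupOf Nw).Normal := subgroupOf_normal (hNw ▸ le_rfl)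
  -- indices
  have hMidx : ¬ p ∣ M.index := fun h => P.not_dvd_index (h.trans (Subgroup.index_dvd_of_le hSM))
  have hSidx : ¬ p ∣ (S.subgroupOf Nw).index := by
    intro h
    refine P.not_dvd_index (h.trans ?_)
    exact Dvd.intro _ (Subgroup.relIndex_mul_index hSN)
  have hDidx : ¬ p ∣ (D.subgroupOf Nw).index := fun h =>
    hSidx (h.trans (Subgroup.index_dvd_of_le (Subgroup.comap_mono hSD)))
  -- a complement
  obtain ⟨U', hU'⟩ := Subgroup.exists_right_complement'_of_coprime (N := S.subgroupOf Nw) (by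
    rw [Nat.card_congr (Subgroup.subgroupOfEquivOfLe hSN).toEquiv, hm]
    exact ((hp.coprime_iff_not_dvd).2 hSidx).pow_left m)
  set U := U'.map Nw.subtype with hUdef
  have hUN : U ≤ Nw := Subgroup.map_subtype_le _
  have hUcard : Nat.card U = (S.subgroupOf Nw).index := by
    rw [hU'.symm.index_eq_card]
    exact Nat.card_congr (Subgroup.equivMapOfInjective U' _ Nw.subtype_injective).toEquiv.symm
  have hUp : ¬ p ∣ Nat.card U := hUcard ▸ hSidx
  have hdec : ∀ g ∈ Nw, ∃ u ∈ U, ∃ s ∈ S, g = u * s := by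
    intro g hg
    obtain ⟨⟨a, b⟩, hab, -⟩ := hU'.symm.existsUnique (⟨g, hg⟩ : Nw)
    exact ⟨((a : Nw) : G), ⟨_, a.2, rfl⟩, ((b : Nw) : G), Subgroup.mem_subgroupOf.1 b.2,
      congrArg Subtype.val hab.symm⟩
  have hCn : Nw ≤ Subgroup.normalizer (C : Set G) := fun g hg =>
    normalizer_inf_centralizer (hKn g) (hNw ▸ hg)
  have hCU : C ≤ U := by
    have hle : Nat.card (C ⊔ U : Subgroup G) ∣ Nat.card U := by
      have h1 : Nat.card (C ⊔ U : Subgroup G) ∣ Nat.card S * Nat.card U := by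
        rw [hUcard, ← Nat.card_congr (Subgroup.subgroupOfEquivOfLe hSN).toEquiv,
          Subgroup.card_mul_index]
        exact Subgroup.card_dvd_of_le (sup_le hCN hUN)
      refine (Nat.Coprime.dvd_of_dvd_mul_left ?_ h1)
      have h2 : ¬ p ∣ Nat.card (C ⊔ U : Subgroup G) := fun h => by
        rcases hp.dvd_mul.1 (h.trans (card_sup_dvd (hUN.trans hCn))) with h | h
        · exact hK (h.trans (Subgroup.card_dvd_of_le hCK))
        · exact hUp h
      rw [hm]
      exact (((hp.coprime_iff_not_dvd).2 h2).pow_left m).symm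
    rw [Subgroup.eq_of_le_of_card_ge (le_sup_right : U ≤ C ⊔ U) (Nat.le_of_dvd Nat.card_pos hle)]
    exact le_sup_left
  have hUM : ∀ w ∈ U, w ∈ M → w ∈ C := by
    intro w hwU hwM
    have hwD : w ∈ ((C ⊔ S : Subgroup G) : Set G) := by
      show w ∈ D
      exact hDeq ▸ Subgroup.mem_inf.2 ⟨hwM, hUN hwU⟩
    rw [Subgroup.coe_mul_of_right_le_normalizer_left C S (hSN.trans hCn)] at hwD
    obtain ⟨c, hc, s, hs, rfl⟩ := Set.mem_mul.1 hwD
    have hsU : s ∈ U := by
      have := mul_mem (inv_mem (hCU hc)) hwU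
      rwa [inv_mul_cancel_left] at this
    have hs1 : s = 1 := by
      refine eq_one_of_pow_coprime (m := p ^ m) (n := Nat.card U) ?_ ?_
        (((hp.coprime_iff_not_dvd).2 hUp).pow_left m)
      · have := pow_card_eq_one' (x := (⟨s, hs⟩ : S))
        rw [hm] at this
        exact congrArg Subtype.val this
      · exact congrArg Subtype.val (pow_card_eq_one' (x := (⟨s, hsU⟩ : U)))
    rw [hs1, mul_one]
    exact hc
  -- the character sets
  let X : Finset (IrrCharacter M) := (Set.toFinite {ψ | Pl p M Z lam ψ}).toFinset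
  let D' := D.subgroupOf Nw
  let Z' := Z.subgroupOf Nw
  let lam' : Z' →* ℂˣ := lam.comp (Subgroup.subgroupOfEquivOfLe hZN).toMonoidHom
  let e := Subgroup.subgroupOfEquivOfLe hDN
  let X' : Finset (IrrCharacter D') := (Set.toFinite {ψ | Pl p D' Z' lam' ψ}).toFinset
  have hX : ∀ ψ, ψ ∈ X ↔ Pl p M Z lam ψ := fun ψ => by simp [X]
  have hX' : ∀ ψ, ψ ∈ X' ↔ Pl p D' Z' lam' ψ := fun ψ => by simp [X']
  have hZ' : Z' ≤ Subgroup.center Nw := fun z hz =>
    Subgroup.mem_center_iff.2 fun g => Subtype.ext (Subgroup.mem_center_iff.1 (hZ hz) g)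
  let tr : IrrCharacter D → IrrCharacter D' :=
    fun ψ => ⟨fun a => (ψ : D → ℂ) (e a), (isIrrCharacter_comp_equiv e).2 ψ.2⟩
  have htr : ∀ ψ : IrrCharacter D, Pl p D Z lam ψ ↔ Pl p D' Z' lam' (tr ψ) := by
    intro ψ
    have h1 : (tr ψ : D' → ℂ) 1 = (ψ : D → ℂ) 1 := congrArg (ψ : D → ℂ) (map_one e)
    have hdeg : charDegree (tr ψ : D' → ℂ) = charDegree (ψ : D → ℂ) := by
      simp only [charDegree, h1]
    constructor
    · rintro ⟨hd, h⟩
      refine ⟨hdeg.symm ▸ hd, fun z hz => ?_⟩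
      rw [h1]
      exact h (Subgroup.subgroupOfEquivOfLe hZN z) hz
    · rintro ⟨hd, h⟩
      refine ⟨hdeg ▸ hd, fun z hz => ?_⟩
      have := h ((Subgroup.subgroupOfEquivOfLe hZN).symm z) hz
      rw [h1] at this
      rwa [show lam' ((Subgroup.subgroupOfEquivOfLe hZN).symm z) = lam z from
        congrArg lam ((Subgroup.subgroupOfEquivOfLe hZN).apply_symm_apply z)] at this
  -- the bijection
  have hex : ∀ ψ ∈ X, ∃ ψ' : IrrCharacter D, Match p S hCK hKM hCD hDM ψ ψ' := fun ψ hψ =>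
    exists_match hM hD hC hSK hS hK ψ ((hX ψ).1 hψ).1
  choose F hF using hex
  have hbij : ∑ x : Nw, ∑ y : Nw, ∑ ψ ∈ X, omg M (ψ : M → ℂ) (x : G) (y : G) =
      ∑ x : Nw, ∑ y : Nw, ∑ ψ' ∈ X', omg D' (ψ' : D' → ℂ) x y := by
    refine Finset.sum_congr rfl fun x _ => Finset.sum_congr rfl fun y _ => ?_
    refine Finset.sum_bij (fun ψ hψ => tr (F ψ hψ))
      (fun ψ hψ => (hX' _).2 ((htr _).1 ((Match.pl_iff hM hD hC hSK hS hK hZ hZD lam (hF ψ hψ)).1
        ((hX ψ).1 hψ)))) ?_ ?_ ?_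
    · intro a ha b hb hab
      have hFF : F a ha = F b hb := Subtype.ext (funext fun g => by
        simpa [tr] using congrFun (congrArg Subtype.val hab) (e.symm g))
      exact Match.inj hM hD hC hSK hS hK (hF a ha) (hFF.symm ▸ hF b hb)
    · intro ψ'' hψ''
      let ψ' : IrrCharacter D :=
        ⟨fun g => (ψ'' : D' → ℂ) (e.symm g), (isIrrCharacter_comp_equiv e.symm).2 ψ''.2⟩
      have htr' : tr ψ' = ψ'' :=
        Subtype.ext (funext fun a => congrArg (ψ'' : D' → ℂ) (e.symm_apply_apply a))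
      have hPl : Pl p D Z lam ψ' := (htr ψ').2 (htr'.symm ▸ (hX' ψ'').1 hψ'')
      obtain ⟨ψ, hψ⟩ := exists_match' (hCK := hCK) (hKM := hKM) (hCD := hCD) (hDM := hDM)
        hM hD hC hSK hS hK hdisj ψ' hPl.1
      have hψX : ψ ∈ X := (hX ψ).2 ((Match.pl_iff hM hD hC hSK hS hK hZ hZD lam hψ).2 hPl)
      refine ⟨ψ, hψX, ?_⟩
      rw [Match.unique hM hD hC hSK hS hK (hF ψ hψX) hψ, htr']
    · intro ψ hψ
      have hmatch := hF ψ hψ
      obtain ⟨u, hu, s, hs, hxe⟩ := hdec x x.2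
      obtain ⟨v, hv, t, ht, hye⟩ := hdec y y.2
      have hψ' := (F ψ hψ).2
      have hD'red : omg D' (tr (F ψ hψ) : D' → ℂ) x y =
          omg D (F ψ hψ : D → ℂ) u v := by
        rw [show x = ⟨u, hUN hu⟩ * ⟨s, hSN hs⟩ from Subtype.ext hxe,
          show y = ⟨v, hUN hv⟩ * ⟨t, hSN ht⟩ from Subtype.ext hye,
          omg_coset (tr (F ψ hψ)).2 _ _ (Subgroup.mem_subgroupOf.2 (hSD hs))
            (Subgroup.mem_subgroupOf.2 (hSD ht))]
        exact omg_subgroupOf hDN _ _ _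
      rw [hD'red, hxe, hye, omg_coset ψ.2 u v (hSM hs) (hSM ht)]
      by_cases hwM : u⁻¹ * v * u * v⁻¹ ∈ M
      swap
      · rw [omg_eq_zero_of_not_mem hwM, omg_eq_zero_of_not_mem fun h => hwM (hDM h)]
      have hwC : u⁻¹ * v * u * v⁻¹ ∈ C :=
        hUM _ (mul_mem (mul_mem (mul_mem (inv_mem hu) hv) hu) (inv_mem hv)) hwM
      have hfix : ∀ g ∈ U, IsConjCharOf M g (ψ : M → ℂ) (ψ : M → ℂ) ↔
          IsConjCharOf D g (F ψ hψ : D → ℂ) (F ψ hψ : D → ℂ) := fun g hg =>
        Match.fixed_iff hM hD hC hSK hS hK (hKn g) (hNw ▸ hUN hg) (hMn' g) (hDnw g (hUN hg)) hmatch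
      by_cases hfu : IsConjCharOf M u (ψ : M → ℂ) (ψ : M → ℂ) ∧
          IsConjCharOf M v (ψ : M → ℂ) (ψ : M → ℂ)
      swap
      · rw [omg_eq_zero_of_not_inv hfu,
          omg_eq_zero_of_not_inv fun h => hfu ⟨(hfix u hu).2 h.1, (hfix v hv).2 h.2⟩]
      obtain ⟨θ, φ, hθ, hφ, hθS, hc⟩ := hmatch.res_left
      have hCn' := hUN.trans hCn
      rw [omg_res ψ.2 hKM (show IsIrrCharacter K (res hKM (ψ : M → ℂ)) from hθ.symm ▸ θ.2) (hMn' u) (hMn' v) (hKn u) (hKn v) hfu.1 hfu.2 (hCK hwC),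
        omg_res hψ' hCD (show IsIrrCharacter C (res hCD (F ψ hψ : D → ℂ)) from hφ.symm ▸ φ.2) (hDnw u (hUN hu)) (hDnw v (hUN hv)) (hCn' hu) (hCn' hv)
          ((hfix u hu).1 hfu.1) ((hfix v hv).1 hfu.2) hwC]
      show omg K (res hKM (ψ : M → ℂ)) u v = omg C (res hCD (F ψ hψ : D → ℂ)) u v
      rw [hθ, hφ]
      -- the acting group
      let A : Subgroup G := Subgroup.closure {u, v} ⊔ C
      have huA : u ∈ A := (le_sup_left : _ ≤ A) (Subgroup.subset_closure (Set.mem_insert u {v}))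
      have hvA : v ∈ A := (le_sup_left : _ ≤ A)
        (Subgroup.subset_closure (Set.mem_insert_of_mem u (Set.mem_singleton v)))
      have hAU : A ≤ U := sup_le ((Subgroup.closure_le U).2 (by
        rintro g (rfl | rfl) <;> assumption)) hCU
      have hstab : A ≤ stab K (θ : K → ℂ) := by
        refine sup_le ((Subgroup.closure_le _).2 ?_)
          (hCK.trans (le_stab (isClassFunction_of_isIrr θ.2)))
        have key : ∀ g, IsConjCharOf M g (ψ : M → ℂ) (ψ : M → ℂ) → g ∈ stab K (θ : K → ℂ) :=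
          fun g hg => ⟨hKn g, fun k k' h => by
            rw [← hθ]
            exact hg ⟨k, hKM k.2⟩ ⟨k', hKM k'.2⟩ h⟩
        rintro g (rfl | rfl)
        · exact key _ hfu.1
        · exact key _ hfu.2
      have hAA : ∀ a ∈ A, ∀ b ∈ A, a * b * a⁻¹ * b⁻¹ ∈ C := by
        intro a ha b hb
        have hCn'' : (C.subgroupOf U).Normal := subgroupOf_normal hCn'
        have hAe : A.subgroupOf U = Subgroup.closure {(⟨u, hu⟩ : U), ⟨v, hv⟩} ⊔ C.subgroupOf U := by
          refine Subgroup.map_injective U.subtype_injective ?_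
          rw [Subgroup.map_subgroupOf_eq_of_le hAU, Subgroup.map_sup, MonoidHom.map_closure,
            Set.image_pair, Subgroup.map_subgroupOf_eq_of_le hCU]
          rfl
        exact commutator_mem_of_gen (H := U) (C := C.subgroupOf U) (u := ⟨u, hu⟩) (v := ⟨v, hv⟩)
          hwC (a := ⟨a, hAU ha⟩) (b := ⟨b, hAU hb⟩) (hAe ▸ (ha : (⟨a, hAU ha⟩ : U) ∈ A.subgroupOf U))
          (hAe ▸ (hb : (⟨b, hAU hb⟩ : U) ∈ A.subgroupOf U))
      exact key hS hK (fun h => hUp (h.trans (Subgroup.card_dvd_of_le hAU)))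
        (fun g _ => hKn g) hSK (fun g hg => hNw ▸ hUN (hAU hg)) hC hAA hCK θ φ hθS hstab hc huA hvA
  -- count
  have hG := card_over M X fun g ψ ψ' h hc => (hX ψ').2 (pl_conj hZ lam g ψ ψ' ((hX ψ).1 h) (hMn' g) hc)
  have hN := card_over D' X' fun g ψ ψ' h hc => (hX' ψ').2 (pl_conj hZ' lam' g ψ ψ' ((hX' ψ).1 h)
    (by rw [Subgroup.normalizer_eq_top]; exact Subgroup.mem_top g) hc)
  have hsum := sum_sum_supplement hDeq hsup (fun x y => ∑ ψ ∈ X, omg M (ψ : M → ℂ) x y)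
    fun g h a b ha hb => Finset.sum_congr rfl fun ψ _ => omg_coset ψ.2 g h ha hb
  rw [← hG, hbij, ← hN] at hsum
  have hone := sum_supplement hDeq hsup (fun _ => (1 : ℂ)) fun _ _ _ => rfl
  simp only [Finset.sum_const, Finset.card_univ, nsmul_eq_mul, mul_one,
    ← Nat.card_eq_fintype_card] at hone
  have hD'card : Nat.card D' = Nat.card D :=
    Nat.card_congr (Subgroup.subgroupOfEquivOfLe hDN).toEquiv
  rw [hD'card] at hsum
  have e1 : Nat.card {χ : IrrCharacter G // ¬ p ∣ charDegree (χ : G → ℂ) ∧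
      ∀ z : Z, (χ : G → ℂ) z = (lam z : ℂ) * (χ : G → ℂ) 1} =
      Nat.card {χ : IrrCharacter G // Over M X χ} :=
    Nat.card_congr (Equiv.subtypeEquivRight fun χ => over_iff hMidx hZ hZM lam X hX χ)
  have e2 : Nat.card {χ : IrrCharacter Nw // ¬ p ∣ charDegree (χ : Nw → ℂ) ∧
      ∀ z : Z, (χ : Nw → ℂ) ⟨z, hZN z.2⟩ = (lam z : ℂ) * (χ : Nw → ℂ) 1} =
      Nat.card {χ : IrrCharacter Nw // Over D' X' χ} := by
    refine Nat.card_congr (Equiv.subtypeEquivRight fun χ => ?_)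
    rw [← over_iff hDidx hZ' (fun z hz => Subgroup.mem_subgroupOf.2 (hZD hz)) lam' X' hX' χ]
    refine and_congr_right fun _ => ⟨fun h z => h (Subgroup.subgroupOfEquivOfLe hZN z), fun h z => ?_⟩
    have := h ((Subgroup.subgroupOfEquivOfLe hZN).symm z)
    rwa [show lam' ((Subgroup.subgroupOfEquivOfLe hZN).symm z) = lam z from
      congrArg lam ((Subgroup.subgroupOfEquivOfLe hZN).apply_symm_apply z)] at this
  rw [e1, e2]
  have hne : (Nat.card M : ℂ) * (Nat.card M : ℂ) * Nat.card Nw * Nat.card D ≠ 0 :=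
    mul_ne_zero (mul_ne_zero (mul_ne_zero card_ne_zero card_ne_zero) card_ne_zero) card_ne_zero
  have h3 : (Nat.card M : ℂ) * Nat.card M * Nat.card Nw * Nat.card D *
      (Nat.card {χ : IrrCharacter G // Over M X χ} : ℂ) =
      (Nat.card M : ℂ) * Nat.card M * Nat.card Nw * Nat.card D *
        (Nat.card {χ : IrrCharacter Nw // Over D' X' χ} : ℂ) := by
    linear_combination hsum -
      (Nat.card M : ℂ) * Nat.card D * (Nat.card {χ : IrrCharacter G // Over M X χ} : ℂ) * hone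
  exact_mod_cast mul_left_cancel₀ hne h3

end Fin

end Cfsg.Agent.RelMcKay
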