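import Cfsg.Agent.RelMcKay.Corr
import Cfsg.Agent.Coprime.Basic
import Cfsg.Agent.CentLarge.Basic
import Cfsg.Agent.ProjExt.GoingDown

/-!
# The congruence correspondence preserves the commutator scalar

`K` is a `p'`-subgroup normalised by a `p`-group `Q` and a `p'`-group `A`, where `A` normalises
`Q` and `⁅A, A⁆ ≤ C = K ⊓ C(Q)`.  If `θ` is fixed by `Q` and `A` and corresponds to `φ`, then
`omg K θ` and `omg C φ` agree on `A`.
-/

set_option autoImplicit false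

namespace Cfsg.Agent.RelMcKay

open Cfsg.Agent.ProjExt Cfsg.Agent.Char
open scoped ComplexConjugate commutatorElement

universe u

noncomputable local instance keyFin {α : Type u} [Finite α] : Fintype α := Fintype.ofFinite α

variable {G : Type u} [Group G]

theorem mem_normalizer_of_conj {H : Subgroup G} {x : G} (h : ∀ g ∈ H, x * g * x⁻¹ ∈ H)
    (h' : ∀ g ∈ H, x⁻¹ * g * x ∈ H) : x ∈ Subgroup.normalizer (H : Set G) := by
  rw [Subgroup.mem_normalizer_iff]
  exact fun g => ⟨h g, fun hg => by simpa [mul_assoc] using h' _ hg⟩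

theorem conj_mem {H : Subgroup G} {x g : G} (hx : x ∈ Subgroup.normalizer (H : Set G))
    (hg : g ∈ H) : x * g * x⁻¹ ∈ H := (Subgroup.mem_normalizer_iff.1 hx g).1 hg

theorem conj_mem' {H : Subgroup G} {x g : G} (hx : x ∈ Subgroup.normalizer (H : Set G))
    (hg : g ∈ H) : x⁻¹ * g * x ∈ H := by
  simpa using conj_mem (inv_mem hx) hg

theorem le_normalizer_commutator (Q : Subgroup G) :
    Subgroup.normalizer (Q : Set G) ≤ Subgroup.normalizer ((⁅Q, Q⁆ : Subgroup G) : Set G) := by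
  intro x hx
  have h : ∀ z ∈ Subgroup.normalizer (Q : Set G), ∀ g ∈ (⁅Q, Q⁆ : Subgroup G),
      z * g * z⁻¹ ∈ (⁅Q, Q⁆ : Subgroup G) := by
    intro z hz
    refine (Subgroup.commutator_le (H₃ := (⁅Q, Q⁆ : Subgroup G).comap
      (MulAut.conj z).toMonoidHom)).2 fun a ha b hb => ?_
    show z * ⁅a, b⁆ * z⁻¹ ∈ (⁅Q, Q⁆ : Subgroup G)
    rw [show z * ⁅a, b⁆ * z⁻¹ = ⁅z * a * z⁻¹, z * b * z⁻¹⁆ by
      simp only [commutatorElement_def]; group]
    exact Subgroup.commutator_mem_commutator (conj_mem hz ha) (conj_mem hz hb)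
  exact mem_normalizer_of_conj (h x hx) fun g hg => by simpa using h x⁻¹ (inv_mem hx) g hg

theorem normalizer_inf_le_centralizer_normalizer {H : Subgroup G} :
    Subgroup.normalizer (H : Set G) ≤
      Subgroup.normalizer ((Subgroup.centralizer (H : Set G) : Subgroup G) : Set G) := by
  intro x hx
  have key : ∀ z ∈ Subgroup.normalizer (H : Set G), ∀ g ∈ Subgroup.centralizer (H : Set G),
      z * g * z⁻¹ ∈ Subgroup.centralizer (H : Set G) := by
    intro z hz g hg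
    rw [Subgroup.mem_centralizer_iff] at hg ⊢
    intro h hh
    have h1 := hg (z⁻¹ * h * z) (conj_mem' hz hh)
    calc h * (z * g * z⁻¹) = z * ((z⁻¹ * h * z) * g) * z⁻¹ := by group
      _ = z * (g * (z⁻¹ * h * z)) * z⁻¹ := by rw [h1]
      _ = z * g * z⁻¹ * h := by group
  exact mem_normalizer_of_conj (key x hx) fun g hg => by simpa using key x⁻¹ (inv_mem hx) g hg

theorem mem_normalizer_inf {H L : Subgroup G} {x : G}
    (h : x ∈ Subgroup.normalizer (H : Set G)) (h' : x ∈ Subgroup.normalizer (L : Set G)) :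
    x ∈ Subgroup.normalizer ((H ⊓ L : Subgroup G) : Set G) :=
  mem_normalizer_of_conj
    (fun _ hg => Subgroup.mem_inf.2 ⟨conj_mem h (Subgroup.mem_inf.1 hg).1,
      conj_mem h' (Subgroup.mem_inf.1 hg).2⟩)
    fun _ hg => Subgroup.mem_inf.2 ⟨conj_mem' h (Subgroup.mem_inf.1 hg).1,
      conj_mem' h' (Subgroup.mem_inf.1 hg).2⟩

theorem normalizer_inf_centralizer {K Q : Subgroup G} {x : G}
    (h : x ∈ Subgroup.normalizer (K : Set G)) (h' : x ∈ Subgroup.normalizer (Q : Set G)) :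
    x ∈ Subgroup.normalizer ((K ⊓ Subgroup.centralizer (Q : Set G) : Subgroup G) : Set G) :=
  mem_normalizer_inf h (normalizer_inf_le_centralizer_normalizer h')

/-- The elements normalising `Q`, `Q1` and centralising `Q / Q1`. -/
def cen (Q Q1 : Subgroup G) : Subgroup G where
  carrier := {x | x ∈ Subgroup.normalizer (Q : Set G) ∧ x ∈ Subgroup.normalizer (Q1 : Set G) ∧
    ∀ q ∈ Q, q⁻¹ * (x * q * x⁻¹) ∈ Q1}
  one_mem' := ⟨one_mem _, one_mem _, fun q _ => by simp⟩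
  mul_mem' := fun {a b} ha hb => ⟨mul_mem ha.1 hb.1, mul_mem ha.2.1 hb.2.1, fun q hq => by
    rw [show q⁻¹ * (a * b * q * (a * b)⁻¹) = (q⁻¹ * (b * q * b⁻¹)) *
      ((b * q * b⁻¹)⁻¹ * (a * (b * q * b⁻¹) * a⁻¹)) by group]
    exact mul_mem (hb.2.2 q hq) (ha.2.2 _ (conj_mem hb.1 hq))⟩
  inv_mem' := fun {a} ha => ⟨inv_mem ha.1, inv_mem ha.2.1, fun q hq => by
    have h := inv_mem (ha.2.2 _ (conj_mem (inv_mem ha.1) hq))
    convert h using 1
    group⟩

/-- A finite group mapping into a domain is cyclic modulo the kernel. -/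
theorem exists_gen_dom {A : Type*} [Group A] [Finite A] {R : Type*} [CommRing R] [IsDomain R]
    (g : A →* R) : ∃ a : A, ∀ x : A, ∃ i : ℤ, g (x * (a ^ i)⁻¹) = 1 := by
  have : Finite g.toHomUnits.range := Set.finite_range g.toHomUnits
  have hcyc : IsCyclic g.toHomUnits.range := isCyclic_subgroup_units _
  obtain ⟨⟨_, a, rfl⟩, ha⟩ := IsCyclic.exists_generator (α := g.toHomUnits.range)
  refine ⟨a, fun x => ?_⟩
  obtain ⟨i, hi⟩ := Subgroup.mem_zpowers_iff.1 (ha ⟨g.toHomUnits x, x, rfl⟩)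
  refine ⟨i, ?_⟩
  have h : g.toHomUnits (x * (a ^ i)⁻¹) = 1 := by
    rw [map_mul, map_inv, map_zpow, mul_inv_eq_one]
    exact (congrArg Subtype.val hi).symm
  exact congrArg Units.val h
/-- Commuting endomorphisms forming an irreducible group have a cyclic image. -/
theorem exists_generator_of_irreducible {A : Type*} [Group A] [Finite A] {M : Type*}
    [AddCommGroup M] [Nontrivial M] (f : A →* AddMonoid.End M)
    (hcm : ∀ x y : A, f x * f y = f y * f x)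
    (hirr : ∀ W : AddSubgroup M, (∀ x : A, ∀ v ∈ W, f x v ∈ W) → W = ⊥ ∨ W = ⊤) :
    ∃ a : A, ∀ x : A, ∃ i : ℤ, f (x * (a ^ i)⁻¹) = 1 := by
  let R := Subring.closure (Set.range f)
  let iR : CommRing R :=
    { (inferInstance : Ring R) with
      mul_comm := fun a b => (Subring.isMulCommutative_closure (R := AddMonoid.End M) (s := Set.range f) (by
        rintro _ ⟨x, rfl⟩ _ ⟨y, rfl⟩
        exact hcm x y)).is_comm.comm a b }
  have hne : Nontrivial R := by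
    obtain ⟨v, hv⟩ := exists_ne (0 : M)
    exact ⟨⟨1, 0, fun h => hv (DFunLike.congr_fun (congrArg Subtype.val h) v)⟩⟩
  have hinj : ∀ r : R, r ≠ 0 → ∀ v, (r : AddMonoid.End M) v = 0 → v = 0 := by
    intro r hr v hv
    let r' : M →+ M := r.1
    rcases hirr r'.ker (fun x w hw => by
      have hcom : (r : AddMonoid.End M) * f x = f x * (r : AddMonoid.End M) :=
        congrArg Subtype.val (mul_comm r ⟨f x, Subring.subset_closure ⟨x, rfl⟩⟩)
      have h2 := DFunLike.congr_fun hcom w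
      rw [AddMonoidHom.mem_ker] at hw ⊢
      exact h2.trans ((congrArg (f x) hw).trans (map_zero (f x)))) with h | h
    · exact (AddSubgroup.mem_bot).1 (h ▸ (AddMonoidHom.mem_ker (f := r')).2 hv)
    · refine absurd (Subtype.ext (AddMonoidHom.ext fun w => ?_)) hr
      exact (AddMonoidHom.mem_ker (f := r')).1 (h ▸ AddSubgroup.mem_top w)
  have hdom : NoZeroDivisors R := ⟨fun {r s} hrs => by
    by_contra hcon
    rw [not_or] at hcon
    refine hcon.2 (Subtype.ext (AddMonoidHom.ext fun v => ?_))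
    exact hinj r hcon.1 _ (DFunLike.congr_fun (congrArg Subtype.val hrs) v)⟩
  have : IsDomain R := NoZeroDivisors.to_isDomain R
  let g : A →* R :=
    { toFun := fun x => ⟨f x, Subring.subset_closure ⟨x, rfl⟩⟩
      map_one' := Subtype.ext (map_one f)
      map_mul' := fun x y => Subtype.ext (map_mul f x y) }
  obtain ⟨a, ha⟩ := exists_gen_dom g
  exact ⟨a, fun x => (ha x).imp fun i hi => congrArg Subtype.val hi⟩

set_option maxHeartbeats 1000000 in
theorem exists_generator_mod_cen [Finite G] {Q Q1 A : Subgroup G} (h1 : Q1 < Q)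
    (hcomm : (⁅Q, Q⁆ : Subgroup G) ≤ Q1)
    (hAQ : A ≤ Subgroup.normalizer (Q : Set G)) (hAQ1 : A ≤ Subgroup.normalizer (Q1 : Set G))
    (habel : ∀ a ∈ A, ∀ b ∈ A, a * b * a⁻¹ * b⁻¹ ∈ cen Q Q1)
    (hmax : ∀ R : Subgroup G, Q1 ≤ R → R ≤ Q → A ≤ Subgroup.normalizer (R : Set G) →
      R = Q1 ∨ R = Q) :
    ∃ a ∈ A, ∀ x ∈ A, ∃ i : ℤ, x * (a ^ i)⁻¹ ∈ cen Q Q1 := by
  classical
  let N1 : Subgroup Q := Q1.subgroupOf Q
  have hN1 : N1.Normal := ⟨fun n hn g => by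
    rw [Subgroup.mem_subgroupOf] at hn ⊢
    have h : ⁅(g : G), (n : G)⁆ ∈ Q1 := hcomm (Subgroup.commutator_mem_commutator g.2 n.2)
    have h2 := mul_mem h hn
    rw [commutatorElement_def, inv_mul_cancel_right] at h2
    simpa using h2⟩
  let icg : CommGroup (Q ⧸ N1) :=
    { (inferInstance : Group (Q ⧸ N1)) with
      mul_comm := fun a b => by
        obtain ⟨a, rfl⟩ := QuotientGroup.mk_surjective a
        obtain ⟨b, rfl⟩ := QuotientGroup.mk_surjective b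
        rw [← QuotientGroup.mk_mul, ← QuotientGroup.mk_mul, QuotientGroup.eq,
          Subgroup.mem_subgroupOf]
        have h : ⁅(b : G)⁻¹, (a : G)⁻¹⁆ ∈ Q1 :=
          hcomm (Subgroup.commutator_mem_commutator (inv_mem b.2) (inv_mem a.2))
        simpa [commutatorElement_def, mul_assoc] using h }
  let c : A → Q →* Q := fun x => MonoidHom.mk'
    (fun q => ⟨x * q * (x : G)⁻¹, conj_mem (hAQ x.2) q.2⟩)
    fun u v => Subtype.ext (by simp [mul_assoc])
  have hc : ∀ x, N1 ≤ N1.comap (c x) := fun x q hq => conj_mem (hAQ1 x.2) hq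
  let f0 : A → AddMonoid.End (Additive (Q ⧸ N1)) := fun x =>
    MonoidHom.toAdditive (QuotientGroup.map N1 N1 (c x) (hc x))
  have hf0 : ∀ (x : A) (q : Q),
      f0 x (Additive.ofMul (q : Q ⧸ N1)) = Additive.ofMul ((c x q : Q) : Q ⧸ N1) := fun _ _ => rfl
  have hext : ∀ g g' : AddMonoid.End (Additive (Q ⧸ N1)),
      (∀ q : Q, g (Additive.ofMul (q : Q ⧸ N1)) = g' (Additive.ofMul (q : Q ⧸ N1))) → g = g' := by
    intro g g' h
    refine AddMonoidHom.ext fun v => ?_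
    obtain ⟨q, hq⟩ := QuotientGroup.mk_surjective (Additive.toMul v)
    rw [← ofMul_toMul v, ← hq]
    exact h q
  let f : A →* AddMonoid.End (Additive (Q ⧸ N1)) :=
    { toFun := f0
      map_one' := hext _ _ fun q => by
        rw [hf0, show c 1 q = q from Subtype.ext (by simp [c])]
        rfl
      map_mul' := fun x y => hext _ _ fun q => by
        rw [hf0]
        show _ = f0 x (f0 y _)
        rw [hf0, hf0, show c (x * y) q = c x (c y q) from Subtype.ext (by simp [c, mul_assoc])] }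
  have hker : ∀ x : A, f x = 1 ↔ (x : G) ∈ cen Q Q1 := by
    intro x
    constructor
    · intro h
      refine ⟨hAQ x.2, hAQ1 x.2, fun q hq => ?_⟩
      have h' : Additive.ofMul ((c x ⟨q, hq⟩ : Q) : Q ⧸ N1) =
          Additive.ofMul ((⟨q, hq⟩ : Q) : Q ⧸ N1) :=
        DFunLike.congr_fun h (Additive.ofMul ((⟨q, hq⟩ : Q) : Q ⧸ N1))
      rw [EquivLike.apply_eq_iff_eq, eq_comm, QuotientGroup.eq, Subgroup.mem_subgroupOf] at h'
      exact h'
    · intro h
      refine hext _ _ fun q => ?_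
      show f0 x _ = Additive.ofMul _
      rw [hf0, EquivLike.apply_eq_iff_eq, eq_comm, QuotientGroup.eq, Subgroup.mem_subgroupOf]
      exact h.2.2 q q.2
  obtain ⟨q0, hq0Q, hq0⟩ := SetLike.exists_of_lt h1
  have : Nontrivial (Additive (Q ⧸ N1)) :=
    ⟨⟨Additive.ofMul ((⟨q0, hq0Q⟩ : Q) : Q ⧸ N1), 0, fun h => hq0 ?_⟩⟩
  swap
  · exact Subgroup.mem_subgroupOf.1 ((QuotientGroup.eq_one_iff (⟨q0, hq0Q⟩ : Q)).1 h)
  obtain ⟨a, ha⟩ := exists_generator_of_irreducible f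
    (fun x y => by
      rw [← map_mul, ← map_mul, show x * y = x * y * x⁻¹ * y⁻¹ * (y * x) by group,
        map_mul f _ (y * x), (hker _).2 (by simpa using habel x x.2 y y.2), one_mul])
    (fun W hW => by
      let P : Subgroup G := ((AddSubgroup.toSubgroup' W).comap (QuotientGroup.mk' N1)).map Q.subtype
      have hP : ∀ g (hg : g ∈ Q),
          g ∈ P ↔ Additive.ofMul ((⟨g, hg⟩ : Q) : Q ⧸ N1) ∈ W := by
        intro g hg
        constructor
        · rintro ⟨q, hq, rfl⟩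
          exact hq
        · exact fun h => ⟨⟨g, hg⟩, h, rfl⟩
      have hPQ : P ≤ Q := Subgroup.map_subtype_le _
      have hQ1P : Q1 ≤ P := fun g hg => (hP g (h1.le hg)).2 (by
        rw [(QuotientGroup.eq_one_iff (⟨g, h1.le hg⟩ : Q)).2 (Subgroup.mem_subgroupOf.2 hg)]
        exact zero_mem W)
      have hstab : ∀ x ∈ A, ∀ g ∈ P, x * g * x⁻¹ ∈ P := fun x hx g hg => by
        rw [hP _ (conj_mem (hAQ hx) (hPQ hg))]
        exact hW ⟨x, hx⟩ _ ((hP g (hPQ hg)).1 hg)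
      have hA : A ≤ Subgroup.normalizer (P : Set G) := fun x hx =>
        mem_normalizer_of_conj (hstab x hx) fun g hg => by
          simpa using hstab x⁻¹ (inv_mem hx) g hg
      rcases hmax P hQ1P hPQ hA with h | h
      · left
        rw [AddSubgroup.eq_bot_iff_forall]
        intro v hv
        obtain ⟨q, hq⟩ := QuotientGroup.mk_surjective (Additive.toMul v)
        rw [← ofMul_toMul v, ← hq] at hv ⊢
        have h3 := (hP q q.2).2 hv
        rw [h] at h3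
        rw [(QuotientGroup.eq_one_iff q).2 (Subgroup.mem_subgroupOf.2 h3)]
        rfl
      · right
        rw [AddSubgroup.eq_top_iff']
        intro v
        obtain ⟨q, hq⟩ := QuotientGroup.mk_surjective (Additive.toMul v)
        rw [← ofMul_toMul v, ← hq]
        exact (hP q q.2).1 (h.symm.le q.2))
  refine ⟨a, a.2, fun x hx => ?_⟩
  obtain ⟨i, hi⟩ := ha ⟨x, hx⟩
  exact ⟨i, by simpa using (hker _).1 hi⟩

section Fin

variable [Finite G]

theorem card_sup_dvd {X C : Subgroup G} (h : C ≤ Subgroup.normalizer (X : Set G)) :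
    Nat.card (X ⊔ C : Subgroup G) ∣ Nat.card X * Nat.card C := by
  rw [← CentLarge.card_mul_card_inf X C, ← Subgroup.coe_mul_of_right_le_normalizer_left X C h]
  exact dvd_mul_right _ _

theorem twist_eq_one {K Γ : Subgroup G} (hKΓ : K ≤ Γ) (hn : Γ ≤ Subgroup.normalizer (K : Set G))
    (η : IrrCharacter Γ) (hirr : IsIrrCharacter K (res hKΓ (η : Γ → ℂ))) (lam : Γ →* ℂˣ)
    (hlam : ∀ g : Γ, (g : G) ∈ K → lam g = 1)
    (he : ∀ g, (η : Γ → ℂ) g = (lam g : ℂ) * (η : Γ → ℂ) g) : lam = 1 := by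
  refine MonoidHom.ext fun g => Units.ext ?_
  have hg : IsConjCharOf K (g : G) (res hKΓ (η : Γ → ℂ)) (res hKΓ (η : Γ → ℂ)) := by
    intro k k' h
    rw [res_apply, res_apply]
    have := isClassFunction_of_isIrr η.2 (⟨k, hKΓ k.2⟩ : Γ) g
    convert this using 2
    exact Subtype.ext h
  have h1 := omg_of_ext hKΓ hirr η rfl g.2 (hn g.2) (one_mem _) (one_mem _) lam hlam
    (fun u v h => by rw [show v = u from Subtype.ext (by simpa using h)]; exact he u)
    (by simp)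
  rw [MonoidHom.one_apply, Units.val_one, ← h1,
    omg_symm hirr (one_mem _) (hn g.2)
      (fun k k' h => by rw [show k' = k from Subtype.ext (by simpa using h)]) hg (by simp),
    omg_mem_left hirr (one_mem K) (hn g.2) hg, inv_one]

theorem stab_cjc {K : Subgroup G} {x z : G} (hx : x ∈ Subgroup.normalizer (K : Set G))
    {θ : IrrCharacter K} (hz : z ∈ stab K (θ : K → ℂ)) :
    x⁻¹ * z * x ∈ stab K (cjc hx θ : K → ℂ) := by
  refine ⟨mul_mem (mul_mem (inv_mem hx) hz.1) hx, fun k k' h => ?_⟩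
  rw [cjc_apply, cjc_apply]
  refine hz.2 ⟨x * k * x⁻¹, conj_mem hx k.2⟩ ⟨x * k' * x⁻¹, conj_mem hx k'.2⟩ ?_
  show x * (k' : G) * x⁻¹ = _
  rw [h]
  group

theorem lam_mul_conj {Γ : Type u} [Group Γ] [Finite Γ] (lam : Γ →* ℂˣ) (g : Γ) :
    (lam g : ℂ) * conj (lam g : ℂ) = 1 := by
  rw [Complex.mul_conj, Complex.normSq_eq_norm_sq,
    Complex.norm_eq_one_of_pow_eq_one (n := orderOf g) ?_ (orderOf_pos g).ne']
  · simp
  · rw [← Units.val_pow_eq_pow_val, ← map_pow, pow_orderOf_eq_one, map_one, Units.val_one]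

variable {p : ℕ} [Fact p.Prime]

theorem not_dvd_zpowers {A : Subgroup G} (hA : ¬ p ∣ Nat.card A) {a : G} (ha : a ∈ A) :
    ¬ p ∣ Nat.card (Subgroup.zpowers a) :=
  fun h => hA (h.trans (Subgroup.card_dvd_of_le (Subgroup.zpowers_le.2 ha)))

theorem IsPGroup.coprime_card {Q A : Subgroup G} (hQ : IsPGroup p Q) (hA : ¬ p ∣ Nat.card A) :
    (Nat.card A).Coprime (Nat.card Q) := by
  obtain ⟨k, hk⟩ := IsPGroup.iff_card.1 hQ
  rw [hk]
  exact (((Fact.out : p.Prime).coprime_iff_not_dvd).2 hA).symm.pow_right k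

/-- Agreement on a pair whose first entry centralises the section. -/
theorem omg_eq_of_cen {K Q Q1 A C : Subgroup G} (hQ : IsPGroup p Q) (hK : ¬ p ∣ Nat.card K)
    (hA : ¬ p ∣ Nat.card A) (h1 : Q1 ≤ Q) (hKQ1 : K ≤ Subgroup.centralizer (Q1 : Set G))
    (hAK : A ≤ Subgroup.normalizer (K : Set G)) (hQK : Q ≤ Subgroup.normalizer (K : Set G))
    (hAQ : A ≤ Subgroup.normalizer (Q : Set G))
    (hC : C = K ⊓ Subgroup.centralizer (Q : Set G))
    (hAA : ∀ a ∈ A, ∀ b ∈ A, a * b * a⁻¹ * b⁻¹ ∈ C)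
    (h : C ≤ K) (θ : IrrCharacter K) (φ : IrrCharacter C) (hθQ : Q ≤ stab K (θ : K → ℂ))
    (hθA : A ≤ stab K (θ : K → ℂ)) (hc : Cor p h θ φ) {a0 y : G} (ha0A : a0 ∈ A)
    (ha0 : a0 ∈ cen Q Q1) (hy : y ∈ A) :
    omg K (θ : K → ℂ) a0 y = omg C (φ : C → ℂ) a0 y := by
  have hp : p.Prime := Fact.out
  -- fixed points of `a0` on `Q`
  let Z := Subgroup.zpowers a0
  let Q0 := Q ⊓ Subgroup.centralizer (Z : Set G)
  have hZA : Z ≤ A := Subgroup.zpowers_le.2 ha0A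
  have hZc : Z ≤ cen Q Q1 := Subgroup.zpowers_le.2 ha0
  have hQ1 : IsPGroup p Q1 := hQ.to_le h1
  have hsup : Q ≤ Q0 ⊔ Q1 := by
    intro q hq
    have : Group.IsNilpotent Q1 := hQ1.isNilpotent
    obtain ⟨n, hn, hqn⟩ := Cfsg.Agent.Coprime.exists_fixed_mem_leftCoset
      (A := Z) (N := Q1) (fun z hz => (hZc hz).2.1)
      (IsPGroup.coprime_card hQ1 (not_dvd_zpowers hA ha0A))
      (Or.inr inferInstance) (k := q) (fun z hz => (hZc hz).2.2 q hq)
    have h' := mul_mem ((le_sup_left : Q0 ≤ Q0 ⊔ Q1) (Subgroup.mem_inf.2 ⟨mul_mem hq (h1 hn), hqn⟩))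
      ((le_sup_right : Q1 ≤ Q0 ⊔ Q1) (inv_mem hn))
    simpa using h'
  have hQ0Q : Q0 ≤ Q := inf_le_left
  have hQ0p : IsPGroup p Q0 := hQ.to_le hQ0Q
  have hQ0a : ∀ q ∈ Q0, q * a0 = a0 * q := fun q hq =>
    ((Subgroup.mem_centralizer_iff.1 (Subgroup.mem_inf.1 hq).2) a0
      (Subgroup.mem_zpowers a0)).symm
  -- `C` is also the centraliser of `Q0`
  have hC0 : C = K ⊓ Subgroup.centralizer (Q0 : Set G) := by
    refine le_antisymm ?_ ?_
    · rw [hC]
      exact inf_le_inf_left _ (Subgroup.centralizer_le hQ0Q)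
    · intro k hk
      obtain ⟨hkK, hk0⟩ := Subgroup.mem_inf.1 hk
      rw [hC]
      refine Subgroup.mem_inf.2 ⟨hkK, Subgroup.mem_centralizer_iff.2 fun q hq => ?_⟩
      have hle : Q0 ⊔ Q1 ≤ Subgroup.centralizer {k} := by
        refine sup_le ?_ ?_ <;> intro z hz <;> rw [Subgroup.mem_centralizer_iff] <;>
          rintro _ rfl
        · exact (Subgroup.mem_centralizer_iff.1 hk0 z hz).symm
        · exact (Subgroup.mem_centralizer_iff.1 (hKQ1 hkK) z hz).symm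
      exact ((Subgroup.mem_centralizer_iff.1 (hle (hsup hq))) k rfl).symm
  -- `Γ = K⟨a0⟩`
  let Γ := K ⊔ Z
  have hKΓ : K ≤ Γ := le_sup_left
  have ha0Γ : a0 ∈ Γ := (le_sup_right : Z ≤ Γ) (Subgroup.mem_zpowers a0)
  have hΓK : Γ ≤ Subgroup.normalizer (K : Set G) :=
    sup_le Subgroup.le_normalizer (hZA.trans hAK)
  have hΓcoe := Subgroup.coe_mul_of_right_le_normalizer_left K Z (hZA.trans hAK)
  have hgenΓ : ∀ g ∈ Γ, ∃ i : ℤ, g * (a0 ^ i)⁻¹ ∈ K := by
    intro g hg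
    have hg' : g ∈ ((K ⊔ Z : Subgroup G) : Set G) := hg
    rw [hΓcoe] at hg'
    obtain ⟨k, hk, _, ⟨i, rfl⟩, rfl⟩ := Set.mem_mul.1 hg'
    exact ⟨i, by simpa using hk⟩
  have hΓp : ¬ p ∣ Nat.card Γ := by
    intro hd
    have hZn : ¬ p ∣ Nat.card Z := not_dvd_zpowers hA ha0A
    have hdvd : Nat.card Γ ∣ Nat.card K * Nat.card Z :=
      card_sup_dvd (hZA.trans hAK)
    rcases hp.dvd_mul.1 (hd.trans hdvd) with h | h
    · exact hK h
    · exact hZn h
  obtain ⟨⟨η, hη⟩, -⟩ := cyclic_ext hKΓ hΓK ha0Γ hgenΓ θ (hθA ha0A)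
  have hirrK : IsIrrCharacter K (res hKΓ (η : Γ → ℂ)) := hη ▸ θ.2
  have hQ0Γ : Q0 ≤ Subgroup.normalizer (Γ : Set G) := by
    have hk : ∀ q ∈ Q0, Γ ≤ Γ.comap (MulAut.conj q).toMonoidHom := by
      intro q hq
      refine sup_le ?_ ?_
      · exact fun k hk => hKΓ (conj_mem (hQK (hQ0Q hq)) hk)
      · refine Subgroup.zpowers_le.2 ?_
        show q * a0 * q⁻¹ ∈ Γ
        rwa [hQ0a q hq, mul_inv_cancel_right]
    intro q hq
    exact mem_normalizer_of_conj (fun g hg => hk q hq hg)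
      fun g hg => by simpa using hk q⁻¹ (inv_mem hq) hg
  -- `η` is `Q0`-invariant
  have hQ0η : Q0 ≤ stab Γ (η : Γ → ℂ) := by
    intro q hq
    refine (mem_stab_iff (hQ0Γ hq) η).2 ?_
    have hres : res hKΓ (cjc (hQ0Γ hq) η : Γ → ℂ) = res hKΓ (η : Γ → ℂ) := by
      funext k
      rw [res_apply, cjc_apply]
      have hk := (hθQ (hQ0Q hq)).2 k ⟨q * k * q⁻¹, conj_mem (hQK (hQ0Q hq)) k.2⟩ rfl
      rw [← hη] at hk
      exact hk
    obtain ⟨lam, hl1, hl2⟩ := exists_twist hKΓ hΓK η _ hres hirrK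
    have hlq : ∀ g g' : Γ, (g' : G) = q * g * q⁻¹ → lam g' = lam g := by
      intro g g' hgg
      obtain ⟨i, hi⟩ := hgenΓ g g.2
      have e1 : ∀ (u : Γ) , (u : G) * (a0 ^ i)⁻¹ ∈ K → lam u = lam ⟨a0, ha0Γ⟩ ^ i := by
        intro u hu
        have h2 : lam (u * ((⟨a0, ha0Γ⟩ : Γ) ^ i)⁻¹) = 1 := hl1 _ (by simpa using hu)
        rwa [map_mul, map_inv, map_zpow, mul_inv_eq_one] at h2
      rw [e1 g hi, e1 g']
      have hqi : q * a0 ^ i = a0 ^ i * q := (Commute.zpow_right (hQ0a q hq) i).eq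
      rw [hgg, show q * (g : G) * q⁻¹ * (a0 ^ i)⁻¹ = q * ((g : G) * (a0 ^ i)⁻¹) * q⁻¹ by
        calc q * (g : G) * q⁻¹ * (a0 ^ i)⁻¹ = q * (g : G) * (a0 ^ i * q)⁻¹ := by group
          _ = q * (g : G) * (q * a0 ^ i)⁻¹ := by rw [hqi]
          _ = _ := by group]
      exact conj_mem (hQK (hQ0Q hq)) hi
    have hj : ∀ (j : ℕ) (g g' : Γ), (g' : G) = q ^ j * g * (q ^ j)⁻¹ →
        (η : Γ → ℂ) g' = ((lam g ^ j : ℂˣ) : ℂ) * (η : Γ → ℂ) g := by
      intro j
      induction j with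
      | zero => intro g g' h; rw [show g' = g from Subtype.ext (by simpa using h)]; simp
      | succ j ih =>
        intro g g' hgg
        let g1 : Γ := ⟨q * g * q⁻¹, conj_mem (hQ0Γ hq) g.2⟩
        rw [ih g1 g' (by rw [hgg]; simp only [g1]; rw [pow_succ]; group), hlq g g1 rfl]
        have h3 : (η : Γ → ℂ) g1 = (lam g : ℂ) * (η : Γ → ℂ) g := hl2 g
        rw [h3, pow_succ, Units.val_mul, mul_assoc]
    obtain ⟨m, hm⟩ := hQ0p ⟨q, hq⟩
    have hqm : q ^ p ^ m = 1 := by simpa using congrArg Subtype.val hm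
    let lm : Γ →* ℂˣ := (powMonoidHom (p ^ m)).comp lam
    have hlm1 : lm = 1 := twist_eq_one hKΓ hΓK η hirrK lm
      (fun g hg => by
        show lam g ^ p ^ m = 1
        rw [hl1 g hg, one_pow])
      (fun g => hj (p ^ m) g g (by rw [hqm]; simp))
    have hlam : lam = 1 := by
      refine MonoidHom.ext fun g => ?_
      rw [MonoidHom.one_apply]
      have h1 : lam g ^ p ^ m = 1 := DFunLike.congr_fun hlm1 g
      have h2 : lam g ^ Nat.card Γ = 1 := by rw [← map_pow, pow_card_eq_one', map_one]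
      have h3 := Nat.dvd_gcd (orderOf_dvd_of_pow_eq_one h1) (orderOf_dvd_of_pow_eq_one h2)
      rw [(((hp.coprime_iff_not_dvd).2 hΓp).pow_left m).gcd_eq_one, Nat.dvd_one,
        orderOf_eq_one_iff] at h3
      exact h3
    exact Subtype.ext (funext fun g => by rw [hl2, hlam]; simp)
  -- the correspondent of `η`
  let C' := Γ ⊓ Subgroup.centralizer (Q0 : Set G)
  have hC'Γ : C' ≤ Γ := inf_le_left
  obtain ⟨hgl1, -, -⟩ := glauberman hQ0Γ hQ0p hΓp rfl hC'Γ
  obtain ⟨β, hβ, hβu⟩ := hgl1 η hQ0η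
  have hCC' : C ≤ C' := hC0 ▸ inf_le_inf_right _ hKΓ
  have hcη : Cor p (hCC'.trans hC'Γ) η φ := by
    obtain ⟨m, hm, hd⟩ := hc
    refine ⟨m, ?_, hd⟩
    rw [← hm, ← hη]
    rfl
  have hβφ : Cor p hCC' β φ :=
    ((cor_trans_iff hCC' hC'Γ η β φ fun γ hγ hcor => hγ (hβu γ hcor)).1 hcη).2
  have hnC : ∀ x ∈ A, x ∈ Subgroup.normalizer (C : Set G) := fun x hx => by
    rw [hC]; exact normalizer_inf_centralizer (hAK hx) (hAQ hx)
  have ha0C' : a0 ∈ C' := Subgroup.mem_inf.2 ⟨ha0Γ,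
    Subgroup.mem_centralizer_iff.2 fun q hq => hQ0a q hq⟩
  have hgenC' : ∀ g ∈ C', ∃ i : ℤ, g * (a0 ^ i)⁻¹ ∈ C := by
    intro g hg
    obtain ⟨hgΓ, hgc⟩ := Subgroup.mem_inf.1 hg
    obtain ⟨i, hi⟩ := hgenΓ g hgΓ
    refine ⟨i, ?_⟩
    rw [hC0]
    exact Subgroup.mem_inf.2 ⟨hi, mul_mem hgc (inv_mem (zpow_mem (Subgroup.mem_inf.1 ha0C').2 i))⟩
  have hC'C : C' ≤ Subgroup.normalizer (C : Set G) := by
    intro g hg
    obtain ⟨i, hi⟩ := hgenC' g hg
    have := mul_mem (Subgroup.le_normalizer hi) (zpow_mem (hnC a0 ha0A) i)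
    simpa using this
  have hstabC : ∀ x ∈ A, x ∈ stab C (φ : C → ℂ) := fun x hx =>
    cor_fixed hQK hQ hK hC hθQ hc (hθA hx) (hnC x hx)
  have hβres : res hCC' (β : C' → ℂ) = (φ : C → ℂ) :=
    (cyclic_ext hCC' hC'C ha0C' hgenC' φ (hstabC a0 ha0A)).2 β hβφ.ne_zero
  -- conjugation by `y`
  let c := y * a0 * y⁻¹ * a0⁻¹
  have hcC : c ∈ C := hAA y hy a0 ha0A
  have hconj : ∀ z ∈ A, ∀ w ∈ A, z * w * z⁻¹ ∈ Γ → ∀ g ∈ K, z * g * z⁻¹ ∈ Γ :=
    fun z hz _ _ _ g hg => hKΓ (conj_mem (hAK hz) hg)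
  have hyΓ : y ∈ Subgroup.normalizer (Γ : Set G) := by
    have key : ∀ z ∈ A, Γ ≤ Γ.comap (MulAut.conj z).toMonoidHom := by
      intro z hz
      refine sup_le (fun k hk => hKΓ (conj_mem (hAK hz) hk)) (Subgroup.zpowers_le.2 ?_)
      show z * a0 * z⁻¹ ∈ Γ
      have := mul_mem (hKΓ (h (hAA z hz a0 ha0A))) ha0Γ
      simpa using this
    exact mem_normalizer_of_conj (fun g hg => key y hy hg)
      fun g hg => by simpa using key y⁻¹ (inv_mem hy) hg
  have hyQ0 : ∀ z ∈ A, ∀ q ∈ Q0, z * q * z⁻¹ ∈ Q0 := by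
    intro z hz q hq
    have hqQ := conj_mem (hAQ hz) (hQ0Q hq)
    refine Subgroup.mem_inf.2 ⟨hqQ, ?_⟩
    have hle : Z ≤ Subgroup.centralizer {z * q * z⁻¹} := by
      refine Subgroup.zpowers_le.2 (Subgroup.mem_centralizer_iff.2 ?_)
      rintro _ rfl
      have h1 : (z * a0 * z⁻¹) * (z * q * z⁻¹) = (z * q * z⁻¹) * (z * a0 * z⁻¹) := by
        calc (z * a0 * z⁻¹) * (z * q * z⁻¹) = z * (a0 * q) * z⁻¹ := by group
          _ = z * (q * a0) * z⁻¹ := by rw [hQ0a q hq]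
          _ = _ := by group
      have hw : (z * a0 * z⁻¹ * a0⁻¹)⁻¹ * (z * q * z⁻¹) =
          (z * q * z⁻¹) * (z * a0 * z⁻¹ * a0⁻¹)⁻¹ := by
        have h2 : z * a0 * z⁻¹ * a0⁻¹ ∈ Subgroup.centralizer (Q : Set G) :=
          (Subgroup.mem_inf.1 (hC ▸ hAA z hz a0 ha0A)).2
        exact ((Subgroup.mem_centralizer_iff.1 (inv_mem h2)) _ hqQ).symm
      have hea : a0 = (z * a0 * z⁻¹ * a0⁻¹)⁻¹ * (z * a0 * z⁻¹) := by group
      generalize z * a0 * z⁻¹ * a0⁻¹ = w at hw hea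
      generalize z * a0 * z⁻¹ = b at h1 hea
      generalize z * q * z⁻¹ = t at hw h1 ⊢
      rw [hea, ← mul_assoc, ← hw, mul_assoc, ← h1, mul_assoc]
    exact Subgroup.mem_centralizer_iff.2 fun w hw =>
      ((Subgroup.mem_centralizer_iff.1 (hle hw)) _ rfl).symm
  have hyQ0n : y ∈ Subgroup.normalizer (Q0 : Set G) :=
    mem_normalizer_of_conj (hyQ0 y hy) fun g hg => by simpa using hyQ0 y⁻¹ (inv_mem hy) g hg
  have hyC' : y ∈ Subgroup.normalizer (C' : Set G) := normalizer_inf_centralizer hyΓ hyQ0n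
  have hres : res hKΓ (cjc hyΓ η : Γ → ℂ) = res hKΓ (η : Γ → ℂ) := by
    funext k
    rw [res_apply, cjc_apply]
    have hk := (hθA hy).2 k ⟨y * k * y⁻¹, conj_mem (hAK hy) k.2⟩ rfl
    rw [← hη] at hk
    exact hk
  obtain ⟨lam, hl1, hl2⟩ := exists_twist hKΓ hΓK η _ hres hirrK
  let lam' : C' →* ℂˣ := lam.comp (Subgroup.inclusion hC'Γ)
  let β' : IrrCharacter C' :=
    ⟨fun g => (lam' g : ℂ) * (β : C' → ℂ) g, isIrr_hom_mul lam' β.2⟩
  have hQ0y : Q0 ≤ stab Γ (cjc hyΓ η : Γ → ℂ) := by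
    intro q hq
    have := stab_cjc hyΓ (hQ0η (conj_mem hyQ0n hq))
    simpa [mul_assoc] using this
  have hcor1 : Cor p hC'Γ (cjc hyΓ η) (cjc hyC' β) := cor_cjc hβ hyΓ hyC'
  have hcor2 : Cor p hC'Γ (cjc hyΓ η) β' := by
    obtain ⟨m, hm, hd⟩ := hβ
    refine ⟨m, ?_, hd⟩
    rw [← hm, classInner, classInner]
    congr 1
    refine Finset.sum_congr rfl fun g _ => ?_
    have hg1 : res hC'Γ (cjc hyΓ η : Γ → ℂ) g = (lam' g : ℂ) * res hC'Γ (η : Γ → ℂ) g := hl2 _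
    show res hC'Γ (cjc hyΓ η : Γ → ℂ) g * conj ((lam' g : ℂ) * (β : C' → ℂ) g) = _
    rw [hg1, map_mul]
    calc _ = ((lam' g : ℂ) * conj (lam' g : ℂ)) *
          (res hC'Γ (η : Γ → ℂ) g * conj ((β : C' → ℂ) g)) := by ring
      _ = _ := by rw [lam_mul_conj, one_mul]
  have hββ' : cjc hyC' β = β' := ((hgl1 _ hQ0y)).unique hcor1 hcor2
  have hwC : a0⁻¹ * y * a0 * y⁻¹ ∈ C := by
    simpa using hAA a0⁻¹ (inv_mem ha0A) y hy
  rw [omg_of_ext hKΓ θ.2 η hη ha0Γ (hAK ha0A) (hAK hy) hyΓ lam hl1 ?_ (h hwC),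
    omg_of_ext hCC' φ.2 β hβres ha0C' (hnC a0 ha0A) (hnC y hy) hyC' lam'
      (fun g hg => hl1 _ (h hg)) ?_ hwC]
  · rfl
  · intro g g' hgg
    rw [show g' = ⟨y * g * y⁻¹, conj_mem hyC' g.2⟩ from Subtype.ext hgg, ← cjc_apply hyC' β g,
      hββ']
  · intro g g' hgg
    rw [show g' = ⟨y * g * y⁻¹, conj_mem hyΓ g.2⟩ from Subtype.ext hgg, ← cjc_apply hyΓ η g,
      hl2]

/-- Values agree on all pairs when they agree on the pairs meeting a subgroup with cyclic
quotient. -/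
theorem omg_eq_of_generator {K C A : Subgroup G} (hCK : C ≤ K) (θ : IrrCharacter K)
    (φ : IrrCharacter C) (hθA : A ≤ stab K (θ : K → ℂ)) (hφA : A ≤ stab C (φ : C → ℂ))
    (hAA : ∀ a ∈ A, ∀ b ∈ A, a * b * a⁻¹ * b⁻¹ ∈ C) {T : Subgroup G} {a : G} (ha : a ∈ A)
    (hgen : ∀ x ∈ A, ∃ i : ℤ, x * (a ^ i)⁻¹ ∈ T)
    (hT : ∀ x ∈ A, x ∈ T → ∀ y ∈ A,
      omg K (θ : K → ℂ) x y = omg C (φ : C → ℂ) x y) :
    ∀ x ∈ A, ∀ y ∈ A, omg K (θ : K → ℂ) x y = omg C (φ : C → ℂ) x y := by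
  have hw : ∀ {x y : G}, x ∈ A → y ∈ A → x⁻¹ * y * x * y⁻¹ ∈ C := fun hx hy => by
    simpa using hAA _ (inv_mem hx) _ hy
  have hmul : ∀ x ∈ A, ∀ y ∈ A, ∀ z ∈ A,
      omg K (θ : K → ℂ) x y = omg C (φ : C → ℂ) x y →
      omg K (θ : K → ℂ) x z = omg C (φ : C → ℂ) x z →
      omg K (θ : K → ℂ) x (y * z) = omg C (φ : C → ℂ) x (y * z) := by
    intro x hx y hy z hz e1 e2
    rw [omg_mul_right θ.2 (hθA hx).1 (hθA hy).1 (hθA hz).1 (hθA hx).2 (hθA hy).2 (hθA hz).2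
        (hCK (hw hx hy)) (hCK (hw hx hz)),
      omg_mul_right φ.2 (hφA hx).1 (hφA hy).1 (hφA hz).1 (hφA hx).2 (hφA hy).2 (hφA hz).2
        (hw hx hy) (hw hx hz), e1, e2]
  have hsymm : ∀ x ∈ A, ∀ y ∈ A, omg K (θ : K → ℂ) x y = omg C (φ : C → ℂ) x y →
      omg K (θ : K → ℂ) y x = omg C (φ : C → ℂ) y x := by
    intro x hx y hy e
    rw [omg_symm θ.2 (hθA hx).1 (hθA hy).1 (hθA hx).2 (hθA hy).2 (hCK (hw hx hy)),
      omg_symm φ.2 (hφA hx).1 (hφA hy).1 (hφA hx).2 (hφA hy).2 (hw hx hy), e]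
  -- against powers of `a`
  have hpow : ∀ x ∈ A, omg K (θ : K → ℂ) x a = omg C (φ : C → ℂ) x a → ∀ i : ℤ,
      omg K (θ : K → ℂ) x (a ^ i) = omg C (φ : C → ℂ) x (a ^ i) := by
    intro x hx e i
    obtain ⟨n, hn⟩ : a ^ i ∈ Submonoid.powers a :=
      (isOfFinOrder_of_finite a).mem_powers_iff_mem_zpowers.2 ⟨i, rfl⟩
    show omg K (θ : K → ℂ) x (a ^ i) = _
    rw [← hn]
    induction n generalizing i with
    | zero =>
      simp only [pow_zero]
      exact hsymm 1 (one_mem _) x hx (by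
        rw [omg_mem_left θ.2 (one_mem K) (hθA hx).1 (hθA hx).2,
          omg_mem_left φ.2 (one_mem C) (hφA hx).1 (hφA hx).2])
    | succ n ih =>
      simp only [pow_succ]
      exact hmul x hx _ (pow_mem ha n) a ha (ih (n : ℤ) (zpow_natCast a n).symm) e
  have hall : ∀ x ∈ A, omg K (θ : K → ℂ) x a = omg C (φ : C → ℂ) x a → ∀ y ∈ A,
      omg K (θ : K → ℂ) x y = omg C (φ : C → ℂ) x y := by
    intro x hx e y hy
    obtain ⟨i, hi⟩ := hgen y hy
    have hyA : y * (a ^ i)⁻¹ ∈ A := mul_mem hy (inv_mem (zpow_mem ha i))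
    have e1 := hsymm _ hyA x hx (hT _ hyA hi x hx)
    have := hmul x hx _ hyA (a ^ i) (zpow_mem ha i) e1 (hpow x hx e i)
    rwa [inv_mul_cancel_right] at this
  have haa : omg K (θ : K → ℂ) a a = omg C (φ : C → ℂ) a a := by
    rw [omg_self θ.2 (hθA ha).1 (hθA ha).2, omg_self φ.2 (hφA ha).1 (hφA ha).2]
  exact fun x hx => hall x hx (hsymm a ha x hx (hall a ha haa x hx))

theorem key_aux : ∀ (n : ℕ) (K Q A C : Subgroup G), Nat.card Q ≤ n → IsPGroup p Q →
    ¬ p ∣ Nat.card K → ¬ p ∣ Nat.card A → A ≤ Subgroup.normalizer (K : Set G) →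
    Q ≤ Subgroup.normalizer (K : Set G) → A ≤ Subgroup.normalizer (Q : Set G) →
    C = K ⊓ Subgroup.centralizer (Q : Set G) →
    (∀ a ∈ A, ∀ b ∈ A, a * b * a⁻¹ * b⁻¹ ∈ C) →
    ∀ (h : C ≤ K) (θ : IrrCharacter K) (φ : IrrCharacter C), Q ≤ stab K (θ : K → ℂ) →
      A ≤ stab K (θ : K → ℂ) → Cor p h θ φ →
      ∀ x ∈ A, ∀ y ∈ A, omg K (θ : K → ℂ) x y = omg C (φ : C → ℂ) x y := by
  intro n
  induction n with
  | zero =>
    intro K Q A C hn
    have : 0 < Nat.card Q := Nat.card_pos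
    omega
  | succ n ih =>
    intro K Q A C hn hQ hK hA hAK hQK hAQ hC hAA h θ φ hθQ hθA hc
    by_cases hQb : Q = ⊥
    · have hCK : C = K := by
        rw [hC, hQb]
        refine inf_eq_left.2 fun k _ => Subgroup.mem_centralizer_iff.2 fun q hq => ?_
        rw [Subgroup.mem_bot.1 hq]
        simp
      subst hCK
      have hne := hc.ne_zero
      rw [show res h (θ : C → ℂ) = (θ : C → ℂ) from rfl, classInner_irr θ.2 φ.2] at hne
      have : (θ : C → ℂ) = (φ : C → ℂ) := by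
        by_contra hne'
        exact hne (if_neg hne')
      intro x _ y _
      rw [this]
    · -- a maximal `A`-invariant proper subgroup
      classical
      have : Nontrivial Q := (Subgroup.nontrivial_iff_ne_bot Q).2 hQb
      have : Group.IsNilpotent Q := hQ.isNilpotent
      have hlt : (⁅Q, Q⁆ : Subgroup G) < Q := by
        have h1 : commutator Q < ⊤ := Group.IsSolvable.commutator_lt_top_of_nontrivial (G := Q)
        refine lt_of_le_of_ne (Subgroup.commutator_le_self Q) fun he => h1.ne ?_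
        refine Subgroup.map_injective Q.subtype_injective ?_
        rw [Subgroup.map_subtype_commutator, he, ← MonoidHom.range_eq_map, Subgroup.range_subtype]
      let s : Finset (Subgroup G) := Finset.univ.filter fun R =>
        R < Q ∧ (⁅Q, Q⁆ : Subgroup G) ≤ R ∧ A ≤ Subgroup.normalizer (R : Set G)
      obtain ⟨Q1, hQ1s, hQ1m⟩ := s.exists_max_image (fun R => Nat.card R)
        ⟨(⁅Q, Q⁆ : Subgroup G), Finset.mem_filter.2
          ⟨Finset.mem_univ _, hlt, le_rfl, hAQ.trans (le_normalizer_commutator Q)⟩⟩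
      obtain ⟨-, hQ1Q, hQQ1, hAQ1⟩ := Finset.mem_filter.1 hQ1s
      have hmax : ∀ R : Subgroup G, Q1 ≤ R → R ≤ Q → A ≤ Subgroup.normalizer (R : Set G) →
          R = Q1 ∨ R = Q := by
        intro R h1 h2 h3
        rcases eq_or_lt_of_le h2 with rfl | hlt'
        · exact Or.inr rfl
        · exact Or.inl (Subgroup.eq_of_le_of_card_ge h1 (hQ1m R (Finset.mem_filter.2
            ⟨Finset.mem_univ _, hlt', hQQ1.trans h1, h3⟩))).symm
      have hQQ1n : Q ≤ Subgroup.normalizer (Q1 : Set G) := by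
        have key : ∀ q ∈ Q, ∀ g ∈ Q1, q * g * q⁻¹ ∈ Q1 := fun q hq g hg => by
          have := mul_mem (hQQ1 (Subgroup.commutator_mem_commutator hq (hQ1Q.le hg))) hg
          rwa [commutatorElement_def, inv_mul_cancel_right] at this
        exact fun q hq => mem_normalizer_of_conj (key q hq) fun g hg => by
          simpa using key q⁻¹ (inv_mem hq) g hg
      -- the intermediate correspondent
      let K1 := K ⊓ Subgroup.centralizer (Q1 : Set G)
      have hK1K : K1 ≤ K := inf_le_left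
      have hCK1 : C ≤ K1 := hC ▸ inf_le_inf_left _ (Subgroup.centralizer_le hQ1Q.le)
      have hQ1p : IsPGroup p Q1 := hQ.to_le hQ1Q.le
      have hQ1K : Q1 ≤ Subgroup.normalizer (K : Set G) := hQ1Q.le.trans hQK
      have hθQ1 : Q1 ≤ stab K (θ : K → ℂ) := hQ1Q.le.trans hθQ
      obtain ⟨θ1, hθ1, hθ1u⟩ := (glauberman hQ1K hQ1p hK rfl hK1K).1 θ hθQ1
      have hAK1 : A ≤ Subgroup.normalizer (K1 : Set G) := fun x hx =>
        normalizer_inf_centralizer (hAK hx) (hAQ1 hx)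
      have hQK1 : Q ≤ Subgroup.normalizer (K1 : Set G) := fun x hx =>
        normalizer_inf_centralizer (hQK hx) (hQQ1n hx)
      have hK1p : ¬ p ∣ Nat.card K1 := fun hd => hK (hd.trans (Subgroup.card_dvd_of_le hK1K))
      have hθ1Q : Q ≤ stab K1 (θ1 : K1 → ℂ) := fun x hx =>
        cor_fixed hQ1K hQ1p hK rfl hθQ1 hθ1 (hθQ hx) (hQK1 hx)
      have hθ1A : A ≤ stab K1 (θ1 : K1 → ℂ) := fun x hx =>
        cor_fixed hQ1K hQ1p hK rfl hθQ1 hθ1 (hθA hx) (hAK1 hx)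
      have hC1 : C = K1 ⊓ Subgroup.centralizer (Q : Set G) := by
        rw [hC]
        refine le_antisymm (le_inf (le_inf inf_le_left ?_) inf_le_right)
          (inf_le_inf_right _ inf_le_left)
        exact inf_le_right.trans (Subgroup.centralizer_le hQ1Q.le)
      have hc1 : Cor p hCK1 θ1 φ := by
        obtain ⟨φ', hφ', -⟩ := (glauberman hQK1 hQ hK1p hC1 hCK1).1 θ1 hθ1Q
        have h2 : Cor p h θ φ' := (cor_trans_iff hCK1 hK1K θ θ1 φ' fun γ hγ hcor =>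
          hγ (hθ1u γ hcor)).2 ⟨hθ1, hφ'⟩
        rwa [((glauberman hQK hQ hK hC h).1 θ hθQ).unique hc h2]
      have hφA : A ≤ stab C (φ : C → ℂ) := fun x hx =>
        cor_fixed hQK hQ hK hC hθQ hc (hθA hx)
          (hC ▸ normalizer_inf_centralizer (hAK hx) (hAQ hx))
      have hcard : Nat.card Q1 ≤ n := by
        have : Nat.card Q1 < Nat.card Q := by
          refine lt_of_le_of_ne (Subgroup.card_le_of_le hQ1Q.le) fun he => hQ1Q.ne ?_
          exact Subgroup.eq_of_le_of_card_ge hQ1Q.le he.ge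
        omega
      have e1 := ih K Q1 A K1 hcard hQ1p hK hA hAK hQ1K hAQ1 rfl
        (fun a ha b hb => hCK1 (hAA a ha b hb)) hK1K θ θ1 hθQ1 hθA hθ1
      obtain ⟨a, ha, hgen⟩ := exists_generator_mod_cen hQ1Q hQQ1 hAQ hAQ1
        (fun a ha b hb => by
          have hm := Subgroup.mem_inf.1 (hC ▸ hAA a ha b hb)
          have hcomm := Subgroup.mem_centralizer_iff.1 hm.2
          refine ⟨hAQ (mul_mem (mul_mem (mul_mem ha hb) (inv_mem ha)) (inv_mem hb)),
            hAQ1 (mul_mem (mul_mem (mul_mem ha hb) (inv_mem ha)) (inv_mem hb)), fun q hq => ?_⟩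
          rw [← hcomm q hq, mul_inv_cancel_right, inv_mul_cancel]
          exact one_mem _) hmax
      intro x hx y hy
      rw [e1 x hx y hy]
      exact omg_eq_of_generator hCK1 θ1 φ hθ1A hφA hAA ha hgen
        (fun x hx hxT y hy => omg_eq_of_cen hQ hK1p hA hQ1Q.le inf_le_right hAK1 hQK1 hAQ hC1
          hAA hCK1 θ1 φ hθ1Q hθ1A hc1 hx hxT hy) x hx y hy

/-- The congruence correspondence preserves the commutator scalar. -/
theorem key {K Q A C : Subgroup G} (hQ : IsPGroup p Q) (hK : ¬ p ∣ Nat.card K)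
    (hA : ¬ p ∣ Nat.card A) (hAK : A ≤ Subgroup.normalizer (K : Set G))
    (hQK : Q ≤ Subgroup.normalizer (K : Set G)) (hAQ : A ≤ Subgroup.normalizer (Q : Set G))
    (hC : C = K ⊓ Subgroup.centralizer (Q : Set G))
    (hAA : ∀ a ∈ A, ∀ b ∈ A, a * b * a⁻¹ * b⁻¹ ∈ C) (h : C ≤ K) (θ : IrrCharacter K)
    (φ : IrrCharacter C) (hθQ : Q ≤ stab K (θ : K → ℂ)) (hθA : A ≤ stab K (θ : K → ℂ))
    (hc : Cor p h θ φ) {x y : G} (hx : x ∈ A) (hy : y ∈ A) :
    omg K (θ : K → ℂ) x y = omg C (φ : C → ℂ) x y :=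
  key_aux _ K Q A C le_rfl hQ hK hA hAK hQK hAQ hC hAA h θ φ hθQ hθA hc x hx y hy

end Fin

end Cfsg.Agent.RelMcKay
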