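import Cfsg.Agent.RelMcKay.Steps
import Cfsg.Prelude.Def_Local

/-!
# Reduction along a `p`-solvable series
-/

set_option autoImplicit false

namespace Cfsg.Agent.RelMcKay

open Cfsg.Agent.ProjExt Cfsg.Agent.Char
open scoped ComplexConjugate

universe u

noncomputable local instance reduceFin {α : Type u} [Finite α] : Fintype α := Fintype.ofFinite α

variable {Γ : Type u} [Group Γ] [Finite Γ] {p : ℕ} [Fact p.Prime]

omit [Finite Γ] [Fact p.Prime] in
theorem mem_normalizer_sup {A B : Subgroup Γ} {x : Γ} (h : x ∈ Subgroup.normalizer (A : Set Γ))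
    (h' : x ∈ Subgroup.normalizer (B : Set Γ)) :
    x ∈ Subgroup.normalizer ((A ⊔ B : Subgroup Γ) : Set Γ) := by
  have key : ∀ y, y ∈ Subgroup.normalizer (A : Set Γ) → y ∈ Subgroup.normalizer (B : Set Γ) →
      ∀ g ∈ A ⊔ B, y * g * y⁻¹ ∈ A ⊔ B := by
    intro y hy hy'
    show A ⊔ B ≤ (A ⊔ B).comap (MulAut.conj y).toMonoidHom
    exact sup_le (fun a ha => (le_sup_left : A ≤ A ⊔ B) (conj_mem hy ha))
      fun b hb => (le_sup_right : B ≤ A ⊔ B) (conj_mem hy' hb)
  exact mem_normalizer_of_conj (key x h h') fun g hg => by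
    simpa using key x⁻¹ (inv_mem h) (inv_mem h') g hg

omit [Fact p.Prime] in
theorem relIndex_inf_dvd {A B H : Subgroup Γ} [A.Normal] (hAB : A ≤ B) :
    A.relIndex (B ⊓ H) ∣ A.relIndex B := by
  have := subgroupOf_normal (K := A) (Γ := B) (by rw [Subgroup.normalizer_eq_top]; exact le_top)
  rw [← Subgroup.relIndex_subgroupOf (inf_le_left : B ⊓ H ≤ B)]
  exact Subgroup.relIndex_dvd_index_of_normal _ _

/-- A next term above `L` inside `H`, from a `p`-solvable series. -/
theorem exists_step (hG : IsPSolvable p Γ) {H L : Subgroup Γ} (hLH : L ≤ H)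
    (hLn : H ≤ Subgroup.normalizer (L : Set Γ)) (hne : L ≠ H) :
    ∃ K : Subgroup Γ, L ≤ K ∧ L ≠ K ∧ K ≤ H ∧ H ≤ Subgroup.normalizer (K : Set Γ) ∧
      ((∃ m : ℕ, L.relIndex K ∣ p ^ m) ∨ ¬ p ∣ L.relIndex K) := by
  classical
  obtain ⟨n, Hs, h0, hlast, hmono, hnor, hfac⟩ := hG
  let Ks : Fin (n + 1) → Subgroup Γ := fun i => (Hs i ⊓ H) ⊔ L
  have hK0 : Ks 0 = L := by simp [Ks, h0]
  have hKlast : Ks (Fin.last n) = H := by simp [Ks, hlast, hLH]
  obtain ⟨i, hi⟩ : ∃ i : Fin n, Ks i.castSucc = L ∧ Ks i.succ ≠ L := by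
    by_contra hcon
    push Not at hcon
    have : ∀ j : Fin (n + 1), Ks j = L := fun j => by
      induction j using Fin.induction with
      | zero => exact hK0
      | succ j ih => exact hcon j ih
    exact hne ((this (Fin.last n)).symm.trans hKlast)
  obtain ⟨hi0, hi1⟩ := hi
  have hA := hnor i.castSucc
  have hle : Hs i.castSucc ≤ Hs i.succ := hmono Fin.castSucc_lt_succ.le
  have hAL : Hs i.castSucc ⊓ H ≤ L := le_sup_left.trans hi0.le
  refine ⟨Ks i.succ, le_sup_right, Ne.symm hi1, sup_le inf_le_right hLH, fun x hx => ?_, ?_⟩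
  · refine mem_normalizer_sup (mem_normalizer_inf ?_ (Subgroup.le_normalizer hx)) (hLn hx)
    have := hnor i.succ
    rw [Subgroup.normalizer_eq_top]
    exact Subgroup.mem_top x
  · have hdvd : L.relIndex (Ks i.succ) ∣ (Hs i.castSucc).relIndex (Hs i.succ) := by
      set B := Hs i.succ ⊓ H
      have hBH : B ≤ H := inf_le_right
      have hLn' : (L.subgroupOf H).Normal := subgroupOf_normal hLn
      have e : L.relIndex (B ⊔ L) = L.relIndex B := by
        rw [← Subgroup.relIndex_subgroupOf (sup_le hBH hLH), Subgroup.subgroupOf_sup hBH hLH,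
          Subgroup.relIndex_sup_right, Subgroup.relIndex_subgroupOf hBH]
      show L.relIndex (B ⊔ L) ∣ _
      rw [e]
      refine dvd_trans ?_ (relIndex_inf_dvd (H := H) hle)
      have e2 : (Hs i.castSucc ⊓ H).relIndex B = (Hs i.castSucc).relIndex B := by
        rw [← Subgroup.inf_relIndex_right (Hs i.castSucc) B]
        congr 1
        refine le_antisymm (le_inf inf_le_left (le_inf (inf_le_left.trans hle) inf_le_right))
          (inf_le_inf_left _ hBH)
      rw [← e2]
      exact Subgroup.relIndex_dvd_of_le_left _ hAL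
    rcases hfac i with ⟨m, hm⟩ | hcop
    · exact Or.inl ⟨m, hm ▸ hdvd⟩
    · exact Or.inr fun h => (Fact.out : p.Prime).not_dvd_one
        (hcop ▸ Nat.dvd_gcd (h.trans hdvd) dvd_rfl)

theorem cnt_congr {H H' L : Subgroup Γ} (hLH : L ≤ H) (hLH' : L ≤ H') (ν : IrrCharacter L)
    (e : H = H') : cnt p hLH ν = cnt p hLH' ν := by
  subst e
  rfl

omit [Finite Γ] [Fact p.Prime] in
theorem stab_normalizer_le {L : Subgroup Γ} {S : Subgroup Γ} : L ≤ Subgroup.normalizer
    ((L ⊔ S : Subgroup Γ) : Set Γ) :=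
  le_trans le_sup_left Subgroup.le_normalizer

theorem not_dvd_index_of_le {H T S : Subgroup Γ} (hST : S ≤ T) (hTH : T ≤ H)
    (h : ¬ p ∣ (S.subgroupOf H).index) :
    ¬ p ∣ (T.subgroupOf H).index ∧ ¬ p ∣ (S.subgroupOf T).index :=
  ⟨fun hd => h (hd.trans (Dvd.intro_left _ (Subgroup.relIndex_mul_relIndex S T H hST hTH))),
    fun hd => h (hd.trans (Dvd.intro _ (Subgroup.relIndex_mul_relIndex S T H hST hTH)))⟩

theorem reduce (hG : IsPSolvable p Γ) : ∀ (n : ℕ) (H L S : Subgroup Γ) (hLH : L ≤ H)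
    (ν : IrrCharacter L), Nat.card H ≤ Nat.card L + n → H ≤ Subgroup.normalizer (L : Set Γ) →
    S ≤ H → IsPGroup p S → ¬ p ∣ (S.subgroupOf H).index → S ≤ stab L (ν : L → ℂ) →
    cnt p hLH ν = cnt p (le_inf hLH (stab_normalizer_le (L := L) (S := S))) ν := by
  intro n
  induction n with
  | zero =>
    intro H L S hLH ν hn _ hSH _ _ _
    have e : L = H := Subgroup.eq_of_le_of_card_ge hLH (by omega)
    refine cnt_congr _ _ ν ?_
    exact (inf_eq_left.2 (e ▸ stab_normalizer_le)).symm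
  | succ n ih =>
    intro H L S hLH ν hn hLn hSH hS hidx hνS
    have hp : p.Prime := Fact.out
    set N := H ⊓ Subgroup.normalizer ((L ⊔ S : Subgroup Γ) : Set Γ) with hN
    have hLN : L ≤ N := le_inf hLH stab_normalizer_le
    have hSN : S ≤ N := le_inf hSH (le_trans le_sup_right Subgroup.le_normalizer)
    by_cases hdeg : p ∣ charDegree (ν : L → ℂ)
    · rw [cnt_eq_zero hLH hLn ν hdeg, cnt_eq_zero hLN (inf_le_left.trans hLn) ν hdeg]
    by_cases hinv : H ≤ stab L (ν : L → ℂ)
    swap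
    · -- the stabiliser is proper
      set T := H ⊓ stab L (ν : L → ℂ) with hT
      have hLT : L ≤ T := le_inf hLH (le_stab (isClassFunction_of_isIrr ν.2))
      have hST : S ≤ T := le_inf hSH hνS
      have hTH : T ≤ H := inf_le_left
      have hlt : Nat.card T < Nat.card H := by
        refine lt_of_le_of_ne (Subgroup.card_le_of_le hTH) fun he => hinv ?_
        rw [← inf_eq_left]
        exact Subgroup.eq_of_le_of_card_ge hTH he.ge
      obtain ⟨hTi, hSTi⟩ := not_dvd_index_of_le hST hTH hidx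
      set TN := T ⊓ Subgroup.normalizer ((L ⊔ S : Subgroup Γ) : Set Γ) with hTN
      have hTNN : TN ≤ N := inf_le_inf_right _ hTH
      have hSTN : S ≤ TN := le_inf hST (le_trans le_sup_right Subgroup.le_normalizer)
      obtain ⟨-, hSNi⟩ := not_dvd_index_of_le hSN (inf_le_left : N ≤ H) hidx
      have e1 := clifford_count hLH hLT hTH hLn ν hT hTi
      have e2 := ih T L S hLT ν (by omega) (hTH.trans hLn) hST hS hSTi hνS
      have e3 := clifford_count hLN (le_inf hLT stab_normalizer_le : L ≤ TN) hTNN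
        (inf_le_left.trans hLn) ν (by rw [hT, hN, inf_right_comm])
        (not_dvd_index_of_le hSTN hTNN hSNi).1
      rw [e1, e2]
      exact e3.symm
    by_cases hLeq : L = H
    · refine cnt_congr _ _ ν ?_
      exact (inf_eq_left.2 (hLeq ▸ stab_normalizer_le)).symm
    obtain ⟨K, hLK, hLKne, hKH, hKn, hfac⟩ := exists_step hG hLH hLn hLeq
    have hcard : Nat.card L < Nat.card K := by
      refine lt_of_le_of_ne (Subgroup.card_le_of_le hLK) fun he => hLKne ?_
      exact Subgroup.eq_of_le_of_card_ge hLK he.ge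
    set H' := H ⊓ Subgroup.normalizer ((K ⊔ S : Subgroup Γ) : Set Γ) with hH'
    have hH'H : H' ≤ H := inf_le_left
    have hKH' : K ≤ H' := le_inf hKH stab_normalizer_le
    have hSH' : S ≤ H' := le_inf hSH (le_trans le_sup_right Subgroup.le_normalizer)
    have hidx' : ¬ p ∣ (S.subgroupOf H').index := (not_dvd_index_of_le hSH' hH'H hidx).2
    have hNS : H ⊓ Subgroup.normalizer (S : Set Γ) = H' ⊓ Subgroup.normalizer (S : Set Γ) := by
      refine le_antisymm (le_inf (le_inf inf_le_left fun x hx => ?_) inf_le_right)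
        (inf_le_inf_right _ hH'H)
      exact mem_normalizer_sup (hKn (Subgroup.mem_inf.1 hx).1) (Subgroup.mem_inf.1 hx).2
    let Θ : Finset (IrrCharacter K) := (Set.toFinite {θ : IrrCharacter K |
      ¬ p ∣ charDegree (θ : K → ℂ) ∧ S ≤ stab K (θ : K → ℂ) ∧
        classInner (res hLK (θ : K → ℂ)) (ν : L → ℂ) ≠ 0}).toFinset
    have hΘ : ∀ θ, θ ∈ Θ ↔ ¬ p ∣ charDegree (θ : K → ℂ) ∧ S ≤ stab K (θ : K → ℂ) ∧
        classInner (res hLK (θ : K → ℂ)) (ν : L → ℂ) ≠ 0 := fun θ => by simp [Θ]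
    have e1 := orbit_sum hLK hKH hLn hKn hSH hS hidx ν hinv rfl Θ hΘ
    have e2 := orbit_sum hLK hKH' (hH'H.trans hLn) (hH'H.trans hKn) hSH' hS hidx' ν
      (hH'H.trans hinv) hNS Θ hΘ
    have hθ : ∀ θ ∈ Θ, cnt p hKH θ = cnt p hKH' θ := fun θ hθ =>
      ih H K S hKH θ (by omega) hKn hSH hS hidx ((hΘ θ).1 hθ).2.1
    have e12 : cnt p hLH ν = cnt p (hLK.trans hKH') ν := by
      have h3 : (cnt p hLH ν : ℚ) = (cnt p (hLK.trans hKH') ν : ℚ) := by
        rw [e1, e2]
        exact Finset.sum_congr rfl fun θ hθ' => by rw [hθ θ hθ']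
      exact_mod_cast h3
    have hNH' : N ≤ Subgroup.normalizer ((K ⊔ S : Subgroup Γ) : Set Γ) := by
      intro x hx
      have e : K ⊔ S = K ⊔ (L ⊔ S) := by rw [← sup_assoc, sup_of_le_left hLK]
      rw [e]
      exact mem_normalizer_sup (hKn (Subgroup.mem_inf.1 hx).1) (Subgroup.mem_inf.1 hx).2
    by_cases hH'eq : H' = H
    swap
    · have hlt : Nat.card H' < Nat.card H := by
        refine lt_of_le_of_ne (Subgroup.card_le_of_le hH'H) fun he => hH'eq ?_
        exact Subgroup.eq_of_le_of_card_ge hH'H he.ge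
      rw [e12, ih H' L S (hLK.trans hKH') ν (by omega) (hH'H.trans hLn) hSH' hS hidx' hνS]
      refine cnt_congr _ _ ν ?_
      exact le_antisymm (inf_le_inf_right _ hH'H)
        (le_inf (le_inf inf_le_left hNH') inf_le_right)
    have hKSn : H ≤ Subgroup.normalizer ((K ⊔ S : Subgroup Γ) : Set Γ) :=
      hH'eq ▸ (inf_le_right : H' ≤ _)
    rcases hfac with ⟨m, hm⟩ | hp'
    · -- `K ≤ L ⊔ S`
      refine cnt_congr _ _ ν ?_
      have h1 : (L ⊔ S).relIndex K ∣ p ^ m :=
        (Subgroup.relIndex_dvd_of_le_left K (le_sup_left : L ≤ L ⊔ S)).trans hm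
      have h2 : ¬ p ∣ (L ⊔ S).relIndex K := fun h =>
        not_dvd_relIndex hKH hSH hKn hidx
          (h.trans (Subgroup.relIndex_dvd_of_le_left K (le_sup_right : S ≤ L ⊔ S)))
      obtain ⟨i, -, hi⟩ := (Nat.dvd_prime_pow hp).1 h1
      have hi0 : i = 0 := by
        by_contra hi0
        exact h2 (hi ▸ dvd_pow_self p hi0)
      rw [hi0, pow_zero, Subgroup.relIndex_eq_one] at hi
      have e : L ⊔ S = K ⊔ S :=
        le_antisymm (sup_le_sup_right hLK S) (sup_le hi le_sup_right)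
      exact (inf_eq_left.2 (by rw [e]; exact hKSn)).symm
    · exact terminal hLH hLK hKH hSH hLn hKn hKSn hS hidx hp' rfl _ ν hinv hdeg

end Cfsg.Agent.RelMcKay
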