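import Cfsg.Agent.ProjExt.Data
import Cfsg.Agent.ProjExt.Criteria
import Cfsg.Agent.Char.ClassAlg
import Cfsg.Prelude.Def_BlockLocal

/-!
# The commutator scalar of an irreducible character at a pair of elements

Let `ψ` be an irreducible character of a subgroup `M` and `x`, `y` elements normalising `M`,
fixing `ψ`, with `x⁻¹ y x y⁻¹ ∈ M`.  If `X`, `Y` implement the action of `x`, `y` on a
representation `ρ` affording `ψ`, then `X ρ(x⁻¹ y x y⁻¹) Y` and `Y X` differ by a scalar, which is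
independent of all choices; `omg M ψ x y` is that scalar, and `0` when it does not exist.
-/

set_option autoImplicit false

namespace Cfsg.Agent.RelMcKay

open Cfsg.Agent.ProjExt

universe u

variable {G : Type u} [Group G]

/-- A representation as a homomorphism into the units. -/
noncomputable def repU {H : Type u} [Group H] {d : ℕ} (ρ : Representation ℂ H (Fin d → ℂ)) :
    H →* EndU d :=
  MonoidHom.toHomUnits ρ

@[simp] theorem repU_val {H : Type u} [Group H] {d : ℕ} (ρ : Representation ℂ H (Fin d → ℂ))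
    (h : H) : (repU ρ h : Module.End ℂ (Fin d → ℂ)) = ρ h := rfl

theorem trace_conjU {d : ℕ} (u : EndU d) (v : Module.End ℂ (Fin d → ℂ)) :
    LinearMap.trace ℂ _ ((u : Module.End ℂ (Fin d → ℂ)) * v * (u⁻¹ : EndU d).1) =
      LinearMap.trace ℂ _ v := by
  rw [LinearMap.trace_mul_cycle, Units.inv_mul, one_mul]

theorem degree_eq_of_char {H : Type u} [Group H] {d d' : ℕ}
    (ρ : Representation ℂ H (Fin d → ℂ)) (ρ' : Representation ℂ H (Fin d' → ℂ))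
    (h : ρ.character = ρ'.character) : d = d' := by
  have h1 := congrFun h 1
  rw [ρ.char_one, ρ'.char_one, Module.finrank_fin_fun, Module.finrank_fin_fun] at h1
  exact_mod_cast h1

section Irr

variable {H : Type u} [Group H] [Finite H] {ψ : H → ℂ} {d : ℕ}

/-- Two representations affording the same irreducible character are conjugate. -/
theorem exists_conjU (hψ : IsIrrCharacter H ψ) (ρ ρ' : Representation ℂ H (Fin d → ℂ))
    (h : ρ.character = ψ) (h' : ρ'.character = ψ) :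
    ∃ u : EndU d, ∀ m, u * repU ρ m = repU ρ' m * u := by
  obtain ⟨e, σ, hσ, hσψ⟩ := hψ
  obtain rfl := degree_eq_of_char σ ρ (hσψ.trans h.symm)
  obtain ⟨a, ha⟩ := exists_intertwining_unit σ ρ hσ (h.trans hσψ.symm)
  obtain ⟨b, hb⟩ := exists_intertwining_unit σ ρ' hσ (h'.trans hσψ.symm)
  have ha' : ∀ m, a * repU σ m = repU ρ m * a := fun m => Units.ext (ha m)
  have hb' : ∀ m, b * repU σ m = repU ρ' m * b := fun m => Units.ext (hb m)
  refine ⟨b * a⁻¹, fun m => ?_⟩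
  have h1 : a⁻¹ * repU ρ m = repU σ m * a⁻¹ := by
    rw [inv_mul_eq_iff_eq_mul, ← mul_assoc, ha', mul_inv_cancel_right]
  rw [mul_assoc, h1, ← mul_assoc, hb', mul_assoc]

/-- Schur's lemma for a representation affording an irreducible character. -/
theorem exists_scalar_of_commute (hψ : IsIrrCharacter H ψ)
    (ρ : Representation ℂ H (Fin d → ℂ)) (h : ρ.character = ψ) (u : EndU d)
    (hu : ∀ m, u * repU ρ m = repU ρ m * u) : ∃ c : ℂˣ, u = scalarU d c := by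
  obtain ⟨e, σ, hσ, hσψ⟩ := id hψ
  obtain rfl := degree_eq_of_char σ ρ (hσψ.trans h.symm)
  obtain ⟨a, ha⟩ := exists_conjU hψ σ ρ hσψ h
  obtain ⟨c, hc⟩ := exists_scalarU σ hσ (a⁻¹ * u * a) fun m => by
    have hm : (a⁻¹ * u * a) * repU σ m = repU σ m * (a⁻¹ * u * a) := by
      have h1 : a⁻¹ * repU ρ m = repU σ m * a⁻¹ := by
        rw [inv_mul_eq_iff_eq_mul, ← mul_assoc, ha, mul_inv_cancel_right]
      calc a⁻¹ * u * a * repU σ m = a⁻¹ * (u * repU ρ m) * a := by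
            rw [mul_assoc _ a, ha]; group
        _ = (a⁻¹ * repU ρ m) * u * a := by rw [hu]; group
        _ = _ := by rw [h1]; group
    exact congrArg Units.val hm
  refine ⟨c, ?_⟩
  calc u = a * (a⁻¹ * u * a) * a⁻¹ := by group
    _ = a * scalarU e c * a⁻¹ := by rw [hc]
    _ = scalarU e c := by rw [← (scalarU_comm e c a).eq, mul_inv_cancel_right]

end Irr

variable {M : Subgroup G} {d : ℕ}

/-- `X` implements the action of `x` on `ρ`. -/
def Tw (ρ : Representation ℂ M (Fin d → ℂ)) (x : G) (X : EndU d) : Prop :=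
  ∀ m m' : M, (m' : G) = x * m * x⁻¹ → X * repU ρ m = repU ρ m' * X

theorem Tw.mul {ρ : Representation ℂ M (Fin d → ℂ)} {x y : G} {X Y : EndU d} (hX : Tw ρ x X)
    (hY : Tw ρ y Y) (hy : y ∈ Subgroup.normalizer (M : Set G)) : Tw ρ (x * y) (X * Y) := by
  intro m m' h
  let m1 : M := ⟨y * m * y⁻¹, (Subgroup.mem_normalizer_iff.1 hy m).1 m.2⟩
  rw [mul_assoc, hY m m1 rfl, ← mul_assoc, hX m1 m' (by rw [h]; simp only [m1]; group), mul_assoc]

theorem tw_self (ρ : Representation ℂ M (Fin d → ℂ)) (w : M) : Tw ρ (w : G) (repU ρ w) := by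
  intro m m' h
  rw [← map_mul, ← map_mul]
  congr 1
  refine Subtype.ext ?_
  rw [Subgroup.coe_mul, Subgroup.coe_mul, h]
  group

theorem Tw.scalar {ρ : Representation ℂ M (Fin d → ℂ)} {x : G} {X : EndU d} (hX : Tw ρ x X)
    (a : ℂˣ) : Tw ρ x (scalarU d a * X) := by
  intro m m' h
  rw [mul_assoc, hX m m' h, ← mul_assoc, (scalarU_comm d a _).eq, mul_assoc]

theorem Tw.unique [Finite G] {ψ : M → ℂ} (hψ : IsIrrCharacter M ψ)
    {ρ : Representation ℂ M (Fin d → ℂ)} (hρ : ρ.character = ψ) {x : G}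
    (hx : x ∈ Subgroup.normalizer (M : Set G)) {X X' : EndU d} (hX : Tw ρ x X) (hX' : Tw ρ x X') :
    ∃ a : ℂˣ, X' = scalarU d a * X := by
  obtain ⟨a, ha⟩ := exists_scalar_of_commute hψ ρ hρ (X⁻¹ * X') fun m => by
    let m' : M := ⟨x * m * x⁻¹, (Subgroup.mem_normalizer_iff.1 hx m).1 m.2⟩
    have h1 := hX m m' rfl
    have h2 := hX' m m' rfl
    rw [mul_assoc, h2, ← mul_assoc, inv_mul_eq_iff_eq_mul.2 (show repU ρ m' = X * (repU ρ m * X⁻¹) by
      rw [← mul_assoc, h1, mul_inv_cancel_right]), mul_assoc]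
  exact ⟨a, by rw [(scalarU_comm d a X).eq, ← ha, mul_inv_cancel_left]⟩

theorem Tw.inv [Finite G] {ψ : M → ℂ} {ρ : Representation ℂ M (Fin d → ℂ)}
    (hρ : ρ.character = ψ) {x : G} {X : EndU d} (hX : Tw ρ x X) : IsConjCharOf M x ψ ψ := by
  intro m m' h
  subst hρ
  show LinearMap.trace ℂ _ (ρ m') = LinearMap.trace ℂ _ (ρ m)
  have : repU ρ m' = X * repU ρ m * X⁻¹ := by rw [hX m m' h, mul_inv_cancel_right]
  rw [← repU_val ρ m', this, Units.val_mul, Units.val_mul, trace_conjU, repU_val]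

theorem exists_tw [Finite G] {ψ : M → ℂ} (hψ : IsIrrCharacter M ψ)
    (ρ : Representation ℂ M (Fin d → ℂ)) (hρ : ρ.character = ψ) {x : G}
    (hx : x ∈ Subgroup.normalizer (M : Set G)) (hinv : IsConjCharOf M x ψ ψ) :
    ∃ X : EndU d, Tw ρ x X := by
  let f : M →* M := MonoidHom.mk'
    (fun m => ⟨x * m * x⁻¹, (Subgroup.mem_normalizer_iff.1 hx m).1 m.2⟩)
    fun a b => Subtype.ext (by simp [mul_assoc])
  obtain ⟨u, hu⟩ := exists_conjU hψ ρ (ρ.comp f) hρ (by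
    funext m
    show ρ.character (f m) = ψ m
    rw [hρ]
    exact hinv m (f m) rfl)
  refine ⟨u, fun m m' h => ?_⟩
  rw [hu, show m' = f m from Subtype.ext h]
  congr 1
  exact Units.ext rfl

/-- The relation defining the commutator scalar. -/
def Rel (M : Subgroup G) (ψ : M → ℂ) (x y : G) (c : ℂˣ) : Prop :=
  ∃ (d : ℕ) (ρ : Representation ℂ M (Fin d → ℂ)) (X Y : EndU d) (w : M),
    ρ.character = ψ ∧ (w : G) = x⁻¹ * y * x * y⁻¹ ∧ Tw ρ x X ∧ Tw ρ y Y ∧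
      X * repU ρ w * Y = scalarU d c * (Y * X)

open Classical in
/-- The commutator scalar, `0` if undefined. -/
noncomputable def omg (M : Subgroup G) (ψ : M → ℂ) (x y : G) : ℂ :=
  if h : ∃ c, Rel M ψ x y c then (h.choose : ℂ) else 0

theorem omg_eq_zero {ψ : M → ℂ} {x y : G} (h : ¬ ∃ c, Rel M ψ x y c) : omg M ψ x y = 0 := by
  rw [omg, dif_neg h]

theorem omg_congr {G' : Type u} [Group G'] {M' : Subgroup G'} {ψ : M → ℂ} {ψ' : M' → ℂ}
    {x y : G} {x' y' : G'} (h : ∀ c, Rel M ψ x y c ↔ Rel M' ψ' x' y' c) :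
    omg M ψ x y = omg M' ψ' x' y' := by
  have this : Rel M ψ x y = Rel M' ψ' x' y' := funext fun c => propext (h c)
  unfold omg
  rw [this]

theorem omg_eq_zero_of_not_mem {ψ : M → ℂ} {x y : G} (h : x⁻¹ * y * x * y⁻¹ ∉ M) :
    omg M ψ x y = 0 :=
  omg_eq_zero fun ⟨_, _, _, _, _, w, _, hw, _⟩ => h (hw ▸ w.2)

section Fin

variable [Finite G] {ψ : M → ℂ} {x y : G}

theorem omg_eq_zero_of_not_inv (h : ¬ (IsConjCharOf M x ψ ψ ∧ IsConjCharOf M y ψ ψ)) :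
    omg M ψ x y = 0 :=
  omg_eq_zero fun ⟨_, _, _, _, _, _, hρ, _, hX, hY, _⟩ => h ⟨hX.inv hρ, hY.inv hρ⟩

theorem tw_prod {d : ℕ} {ρ : Representation ℂ M (Fin d → ℂ)} {X Y : EndU d} {w : M}
    (hyn : y ∈ Subgroup.normalizer (M : Set G)) (hw : (w : G) = x⁻¹ * y * x * y⁻¹)
    (hX : Tw ρ x X) (hY : Tw ρ y Y) : Tw ρ (y * x) (X * repU ρ w * Y) := by
  have h := (hX.mul (tw_self ρ w) (Subgroup.le_normalizer w.2)).mul hY hyn
  rwa [show x * (w : G) * y = y * x by rw [hw]; group] at h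

theorem exists_rel (hψ : IsIrrCharacter M ψ) (hxn : x ∈ Subgroup.normalizer (M : Set G))
    (hyn : y ∈ Subgroup.normalizer (M : Set G)) (hxi : IsConjCharOf M x ψ ψ)
    (hyi : IsConjCharOf M y ψ ψ) {d : ℕ} (ρ : Representation ℂ M (Fin d → ℂ))
    (hρ : ρ.character = ψ) (w : M) (hw : (w : G) = x⁻¹ * y * x * y⁻¹) :
    ∃ (c : ℂˣ) (X Y : EndU d), Tw ρ x X ∧ Tw ρ y Y ∧
      X * repU ρ w * Y = scalarU d c * (Y * X) := by
  obtain ⟨X, hX⟩ := exists_tw hψ ρ hρ hxn hxi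
  obtain ⟨Y, hY⟩ := exists_tw hψ ρ hρ hyn hyi
  obtain ⟨c, hc⟩ := Tw.unique hψ hρ (mul_mem hyn hxn) (hY.mul hX hxn) (tw_prod hyn hw hX hY)
  exact ⟨c, X, Y, hX, hY, hc⟩

theorem Rel.eq_of_tw (hψ : IsIrrCharacter M ψ) (hxn : x ∈ Subgroup.normalizer (M : Set G))
    (hyn : y ∈ Subgroup.normalizer (M : Set G)) {c c' : ℂˣ} (h : Rel M ψ x y c)
    {d : ℕ} (ρ : Representation ℂ M (Fin d → ℂ)) (hρ : ρ.character = ψ) (X Y : EndU d) (w : M)
    (hw : (w : G) = x⁻¹ * y * x * y⁻¹) (hX : Tw ρ x X) (hY : Tw ρ y Y)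
    (he : X * repU ρ w * Y = scalarU d c' * (Y * X)) : c = c' := by
  obtain ⟨e, σ, X', Y', w', hσ, hw', hX', hY', he'⟩ := h
  obtain rfl := degree_eq_of_char σ ρ (hσ.trans hρ.symm)
  obtain rfl : w' = w := Subtype.ext (hw'.trans hw.symm)
  obtain ⟨u, hu⟩ := exists_conjU hψ σ ρ hσ hρ
  have hu' : ∀ m, repU ρ m = u * repU σ m * u⁻¹ := fun m => by rw [hu, mul_inv_cancel_right]
  have conjTw : ∀ {z : G} {Z : EndU e}, Tw σ z Z → Tw ρ z (u * Z * u⁻¹) := by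
    intro z Z hZ m m' hm
    rw [hu' m, hu' m']
    calc u * Z * u⁻¹ * (u * repU σ m * u⁻¹) = u * (Z * repU σ m) * u⁻¹ := by group
      _ = _ := by rw [hZ m m' hm]; group
  obtain ⟨a, ha⟩ := Tw.unique hψ hρ hxn hX (conjTw hX')
  obtain ⟨b, hb⟩ := Tw.unique hψ hρ hyn hY (conjTw hY')
  have hd : 0 < e := by
    obtain ⟨k, hk, hk1⟩ := Cfsg.Agent.Char.IsIrr.degree hψ
    rw [← hρ, ρ.char_one, Module.finrank_fin_fun] at hk1
    have : e = k := by exact_mod_cast hk1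
    omega
  have e1 : u * (X' * repU σ w' * Y') * u⁻¹ = u * (scalarU e c * (Y' * X')) * u⁻¹ := by rw [he']
  have e2 : u * (X' * repU σ w' * Y') * u⁻¹ = scalarU e (a * b) * (X * repU ρ w' * Y) := by
    calc u * (X' * repU σ w' * Y') * u⁻¹ =
        (u * X' * u⁻¹) * (u * repU σ w' * u⁻¹) * (u * Y' * u⁻¹) := by group
      _ = scalarU e a * X * repU ρ w' * (scalarU e b * Y) := by rw [ha, hb, ← hu']
      _ = scalarU e a * (X * repU ρ w' * scalarU e b) * Y := by group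
      _ = _ := by rw [← (scalarU_comm e b (X * repU ρ w')).eq, map_mul]; group
  have e3 : u * (scalarU e c * (Y' * X')) * u⁻¹ = scalarU e (c * (a * b)) * (Y * X) := by
    calc u * (scalarU e c * (Y' * X')) * u⁻¹ =
        (u * scalarU e c) * Y' * X' * u⁻¹ := by group
      _ = scalarU e c * ((u * Y' * u⁻¹) * (u * X' * u⁻¹)) := by
          rw [← (scalarU_comm e c u).eq]; group
      _ = scalarU e c * (scalarU e b * Y * (scalarU e a * X)) := by rw [ha, hb]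
      _ = scalarU e c * (scalarU e b * (Y * scalarU e a) * X) := by group
      _ = _ := by
          rw [← (scalarU_comm e a Y).eq, mul_comm a b, map_mul, map_mul]; group
  rw [e2, e3, he, ← mul_assoc, ← map_mul, mul_left_inj] at e1
  have := scalarU_injective hd e1
  rw [mul_comm c] at this
  exact (mul_left_cancel this).symm

theorem omg_eq (hψ : IsIrrCharacter M ψ) (hxn : x ∈ Subgroup.normalizer (M : Set G))
    (hyn : y ∈ Subgroup.normalizer (M : Set G)) {c : ℂˣ}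
    {d : ℕ} (ρ : Representation ℂ M (Fin d → ℂ)) (hρ : ρ.character = ψ) (X Y : EndU d) (w : M)
    (hw : (w : G) = x⁻¹ * y * x * y⁻¹) (hX : Tw ρ x X) (hY : Tw ρ y Y)
    (he : X * repU ρ w * Y = scalarU d c * (Y * X)) : omg M ψ x y = c := by
  have h : ∃ c, Rel M ψ x y c := ⟨c, d, ρ, X, Y, w, hρ, hw, hX, hY, he⟩
  rw [omg, dif_pos h, h.choose_spec.eq_of_tw hψ hxn hyn ρ hρ X Y w hw hX hY he]

/-- Data computing the scalar. -/
theorem omg_spec (hψ : IsIrrCharacter M ψ) (hxn : x ∈ Subgroup.normalizer (M : Set G))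
    (hyn : y ∈ Subgroup.normalizer (M : Set G)) (hxi : IsConjCharOf M x ψ ψ)
    (hyi : IsConjCharOf M y ψ ψ) {d : ℕ} (ρ : Representation ℂ M (Fin d → ℂ))
    (hρ : ρ.character = ψ) (w : M) (hw : (w : G) = x⁻¹ * y * x * y⁻¹) :
    ∃ (c : ℂˣ) (X Y : EndU d), Tw ρ x X ∧ Tw ρ y Y ∧
      X * repU ρ w * Y = scalarU d c * (Y * X) ∧ omg M ψ x y = c := by
  obtain ⟨c, X, Y, hX, hY, he⟩ := exists_rel hψ hxn hyn hxi hyi ρ hρ w hw
  exact ⟨c, X, Y, hX, hY, he, omg_eq hψ hxn hyn ρ hρ X Y w hw hX hY he⟩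

/-- Multiplicativity in the second variable. -/
theorem omg_mul_right (hψ : IsIrrCharacter M ψ) {y' : G}
    (hxn : x ∈ Subgroup.normalizer (M : Set G)) (hyn : y ∈ Subgroup.normalizer (M : Set G))
    (hyn' : y' ∈ Subgroup.normalizer (M : Set G)) (hxi : IsConjCharOf M x ψ ψ)
    (hyi : IsConjCharOf M y ψ ψ) (hyi' : IsConjCharOf M y' ψ ψ)
    (hw : x⁻¹ * y * x * y⁻¹ ∈ M) (hw' : x⁻¹ * y' * x * y'⁻¹ ∈ M) :
    omg M ψ x (y * y') = omg M ψ x y * omg M ψ x y' := by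
  obtain ⟨d, ρ, -, hρ⟩ := id hψ
  obtain ⟨X, hX⟩ := exists_tw hψ ρ hρ hxn hxi
  obtain ⟨Y, hY⟩ := exists_tw hψ ρ hρ hyn hyi
  obtain ⟨Y', hY'⟩ := exists_tw hψ ρ hρ hyn' hyi'
  obtain ⟨c, hc⟩ := Tw.unique hψ hρ (mul_mem hyn hxn) (hY.mul hX hxn)
    (tw_prod (w := ⟨_, hw⟩) hyn rfl hX hY)
  obtain ⟨c', hc'⟩ := Tw.unique hψ hρ (mul_mem hyn' hxn) (hY'.mul hX hxn)
    (tw_prod (w := ⟨_, hw'⟩) hyn' rfl hX hY')
  set w1 : M := ⟨_, hw⟩
  set w2 : M := ⟨_, hw'⟩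
  let w3 : M := ⟨y * (w2 : G) * y⁻¹, (Subgroup.mem_normalizer_iff.1 hyn _).1 w2.2⟩
  have hY3 := hY w2 w3 rfl
  rw [omg_eq hψ hxn hyn ρ hρ X Y w1 rfl hX hY hc, omg_eq hψ hxn hyn' ρ hρ X Y' w2 rfl hX hY' hc',
    ← Units.val_mul]
  refine omg_eq hψ hxn (mul_mem hyn hyn') ρ hρ X (Y * Y') (w1 * w3) ?_ hX (hY.mul hY' hyn') ?_
  · simp only [w1, w2, w3, Subgroup.coe_mul]
    group
  · calc X * repU ρ (w1 * w3) * (Y * Y') = X * repU ρ w1 * (repU ρ w3 * Y) * Y' := by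
          rw [map_mul]; group
      _ = (X * repU ρ w1 * Y) * repU ρ w2 * Y' := by rw [← hY3]; group
      _ = scalarU d c * (Y * (X * repU ρ w2 * Y')) := by rw [hc]; group
      _ = scalarU d c * ((Y * scalarU d c') * (Y' * X)) := by rw [hc']; group
      _ = scalarU d (c * c') * (Y * Y' * X) := by
          rw [← (scalarU_comm d c' Y).eq, map_mul]; group

theorem omg_symm (hψ : IsIrrCharacter M ψ) (hxn : x ∈ Subgroup.normalizer (M : Set G))
    (hyn : y ∈ Subgroup.normalizer (M : Set G)) (hxi : IsConjCharOf M x ψ ψ)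
    (hyi : IsConjCharOf M y ψ ψ) (hw : x⁻¹ * y * x * y⁻¹ ∈ M) :
    omg M ψ y x = (omg M ψ x y)⁻¹ := by
  obtain ⟨d, ρ, -, hρ⟩ := id hψ
  obtain ⟨c, X, Y, hX, hY, he, hc⟩ := omg_spec hψ hxn hyn hxi hyi ρ hρ ⟨_, hw⟩ rfl
  have hv : y⁻¹ * x * y * x⁻¹ ∈ M := by
    rw [show y⁻¹ * x * y * x⁻¹ = x * ((y * x)⁻¹ * (x * y)) * x⁻¹ by group]
    refine (Subgroup.mem_normalizer_iff.1 hxn _).1 ?_
    rw [show (y * x)⁻¹ * (x * y) = y⁻¹ * (y * x⁻¹ * y⁻¹ * x) * y by group]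
    refine (Subgroup.mem_normalizer_iff.1 hyn _).2 ?_
    rw [show y * (y⁻¹ * (y * x⁻¹ * y⁻¹ * x) * y) * y⁻¹ = (x⁻¹ * y * x * y⁻¹)⁻¹ by group]
    exact inv_mem hw
  rw [hc, ← Units.val_inv_eq_inv_val]
  let w : M := ⟨_, hw⟩
  let v : M := ⟨_, hv⟩
  have h1 : x⁻¹ * (v : G) * x ∈ M := by
    have := (Subgroup.mem_normalizer_iff.1 (inv_mem hxn) _).1 v.2
    simpa using this
  let v' : M := ⟨_, h1⟩
  have hXv : X * repU ρ v' = repU ρ v * X := hX v' v (by simp only [v']; group)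
  have h2 : y * (v' : G) * y⁻¹ ∈ M := (Subgroup.mem_normalizer_iff.1 hyn _).1 v'.2
  have hYv : Y * repU ρ v' = repU ρ ⟨_, h2⟩ * Y := hY v' ⟨_, h2⟩ rfl
  have hprod : w * ⟨_, h2⟩ = 1 := Subtype.ext (by simp only [w, v', v, Subgroup.coe_mul]; group; rfl)
  refine omg_eq hψ hyn hxn ρ hρ Y X v rfl hY hX ?_
  have e : scalarU d c * (Y * repU ρ v * X) = X * Y := by
    calc scalarU d c * (Y * repU ρ v * X) = scalarU d c * (Y * X) * repU ρ v' := by
          rw [mul_assoc Y, ← hXv]; group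
      _ = X * repU ρ w * (Y * repU ρ v') := by rw [← he]; exact mul_assoc _ _ _
      _ = X * (repU ρ w * repU ρ ⟨_, h2⟩) * Y := by rw [hYv]; group
      _ = X * Y := by rw [← map_mul, hprod, map_one, mul_one]
  rw [map_inv, ← e, inv_mul_cancel_left]

theorem omg_self (hψ : IsIrrCharacter M ψ) (hxn : x ∈ Subgroup.normalizer (M : Set G))
    (hxi : IsConjCharOf M x ψ ψ) : omg M ψ x x = 1 := by
  obtain ⟨d, ρ, -, hρ⟩ := id hψ
  obtain ⟨X, hX⟩ := exists_tw hψ ρ hρ hxn hxi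
  rw [← Units.val_one]
  refine omg_eq hψ hxn hxn ρ hρ X X 1 (by simp) hX hX ?_
  simp

theorem omg_mem_left (hψ : IsIrrCharacter M ψ) (hx : x ∈ M)
    (hyn : y ∈ Subgroup.normalizer (M : Set G)) (hyi : IsConjCharOf M y ψ ψ) :
    omg M ψ x y = 1 := by
  obtain ⟨d, ρ, -, hρ⟩ := id hψ
  obtain ⟨Y, hY⟩ := exists_tw hψ ρ hρ hyn hyi
  have h1 : y * x * y⁻¹ ∈ M := (Subgroup.mem_normalizer_iff.1 hyn x).1 hx
  rw [← Units.val_one]
  refine omg_eq hψ (Subgroup.le_normalizer hx) hyn ρ hρ (repU ρ ⟨x, hx⟩) Y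
    (⟨x, hx⟩⁻¹ * ⟨_, h1⟩) (by simp [mul_assoc]) (tw_self ρ ⟨x, hx⟩) hY ?_
  rw [← map_mul, mul_inv_cancel_left, map_one, one_mul]
  exact (hY ⟨x, hx⟩ ⟨_, h1⟩ rfl).symm

/-- The scalar can be computed on a subgroup to which `ψ` restricts irreducibly. -/
theorem omg_res (hψ : IsIrrCharacter M ψ) {K : Subgroup G} (hKM : K ≤ M)
    (hθ : IsIrrCharacter K (fun k : K => ψ ⟨k, hKM k.2⟩))
    (hxn : x ∈ Subgroup.normalizer (M : Set G)) (hyn : y ∈ Subgroup.normalizer (M : Set G))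
    (hxK : x ∈ Subgroup.normalizer (K : Set G)) (hyK : y ∈ Subgroup.normalizer (K : Set G))
    (hxi : IsConjCharOf M x ψ ψ) (hyi : IsConjCharOf M y ψ ψ) (hw : x⁻¹ * y * x * y⁻¹ ∈ K) :
    omg M ψ x y = omg K (fun k : K => ψ ⟨k, hKM k.2⟩) x y := by
  obtain ⟨d, ρ, -, hρ⟩ := id hψ
  obtain ⟨c, X, Y, hX, hY, he, hc⟩ := omg_spec hψ hxn hyn hxi hyi ρ hρ ⟨_, hKM hw⟩ rfl
  rw [hc]
  symm
  refine omg_eq hθ hxK hyK (ρ.comp (Subgroup.inclusion hKM)) ?_ X Y ⟨_, hw⟩ rfl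
    (fun m m' h => hX (Subgroup.inclusion hKM m) (Subgroup.inclusion hKM m') h)
    (fun m m' h => hY (Subgroup.inclusion hKM m) (Subgroup.inclusion hKM m') h) he
  funext k
  show ρ.character (Subgroup.inclusion hKM k) = _
  rw [hρ]
  rfl

end Fin

end Cfsg.Agent.RelMcKay
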