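import Cfsg.Agent.RelMcKay.Terminal

/-!
# Clifford theory steps for the count of `p'`-degree characters over a character
-/

set_option autoImplicit false

namespace Cfsg.Agent.RelMcKay

open Cfsg.Agent.ProjExt Cfsg.Agent.Char
open scoped ComplexConjugate

universe u

noncomputable local instance stepsFin {α : Type u} [Finite α] : Fintype α := Fintype.ofFinite α

variable {Γ : Type u} [Group Γ] [Finite Γ]

theorem classInner_sub' {H L : Subgroup Γ} (hLH : L ≤ H) (f : H → ℂ) (ν : L → ℂ) :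
    classInner (fun n : L.subgroupOf H => f n)
      (fun n : L.subgroupOf H => ν (Subgroup.subgroupOfEquivOfLe hLH n)) =
      classInner (res hLH f) ν :=
  classInner_subgroupOf' hLH (res hLH f) ν

theorem inner_trans {M K L : Subgroup Γ} (hKM : K ≤ M) (hLK : L ≤ K) (χ : IrrCharacter M)
    (θ : IrrCharacter K) (η : IrrCharacter L)
    (h1 : classInner (res hKM (χ : M → ℂ)) (θ : K → ℂ) ≠ 0)
    (h2 : classInner (res hLK (θ : K → ℂ)) (η : L → ℂ) ≠ 0) :
    classInner (res (hLK.trans hKM) (χ : M → ℂ)) (η : L → ℂ) ≠ 0 := by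
  choose a ha using fun γ => exists_nat_inner hKM χ γ
  choose b hb using fun γ => exists_nat_inner hLK γ η
  have hexp : res hKM (χ : M → ℂ) = ∑ γ : IrrCharacter K, (a γ : ℂ) • (γ : K → ℂ) := by
    rw [classFun_expansion (isClassFunction_of_isCharacter
      (isCharacter_res' hKM (IsIrr.isCharacter χ.2)))]
    exact Finset.sum_congr rfl fun γ _ => by rw [ha γ]
  have hexp' : res (hLK.trans hKM) (χ : M → ℂ) =
      ∑ γ : IrrCharacter K, (a γ : ℂ) • res hLK (γ : K → ℂ) := by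
    funext c
    rw [← res_res hLK hKM, res_apply, hexp]
    simp [res_apply]
  have hm : classInner (res (hLK.trans hKM) (χ : M → ℂ)) (η : L → ℂ) =
      ((∑ γ, a γ * b γ : ℕ) : ℂ) := by
    rw [hexp', classInner_sum_left, Nat.cast_sum]
    exact Finset.sum_congr rfl fun γ _ => by rw [classInner_smul_left, hb γ, Nat.cast_mul]
  rw [hm, Nat.cast_ne_zero]
  intro h0
  have h3 := Finset.sum_eq_zero_iff.1 h0 θ (Finset.mem_univ θ)
  rcases Nat.mul_eq_zero.1 h3 with h | h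
  · exact h1 (by rw [ha θ, h, Nat.cast_zero])
  · exact h2 (by rw [hb θ, h, Nat.cast_zero])

theorem conjFun_eq_self_iff {H L : Subgroup Γ} (hLH : L ≤ H) [(L.subgroupOf H).Normal]
    (ν : L → ℂ) (t : H) :
    conjFun t (fun n : L.subgroupOf H => ν (Subgroup.subgroupOfEquivOfLe hLH n)) =
      (fun n : L.subgroupOf H => ν (Subgroup.subgroupOfEquivOfLe hLH n)) ↔
      IsConjCharOf L (t : Γ) ν ν := by
  let e := Subgroup.subgroupOfEquivOfLe hLH
  constructor
  · intro h k k' hk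
    have h2 := congrFun h (e.symm k)
    simp only [conjFun_apply] at h2
    convert h2 using 2
    · exact Subtype.ext hk
    · exact (e.apply_symm_apply k).symm
  · intro h
    funext n
    rw [conjFun_apply]
    exact h (e n) _ rfl

variable {p : ℕ} [Fact p.Prime]

theorem dvd_charDegree {H L : Subgroup Γ} (hLH : L ≤ H) (hLn : H ≤ Subgroup.normalizer (L : Set Γ))
    (χ : IrrCharacter H) (ν : IrrCharacter L)
    (hne : classInner (res hLH (χ : H → ℂ)) (ν : L → ℂ) ≠ 0) :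
    charDegree (ν : L → ℂ) ∣ charDegree (χ : H → ℂ) := by
  obtain ⟨k, hk, -⟩ := exists_ratio hLH hLn χ ν hne
  obtain ⟨d, -, hd⟩ := IsIrr.degree ν.2
  rw [hd, ← Nat.cast_mul] at hk
  rw [charDegree_eq_natCast hd, charDegree_eq_natCast hk]
  exact dvd_mul_left d k

theorem cnt_eq_zero {H L : Subgroup Γ} (hLH : L ≤ H) (hLn : H ≤ Subgroup.normalizer (L : Set Γ))
    (ν : IrrCharacter L) (hν : p ∣ charDegree (ν : L → ℂ)) : cnt p hLH ν = 0 := by
  have : IsEmpty {χ : IrrCharacter H //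
      ¬ p ∣ charDegree (χ : H → ℂ) ∧ classInner (res hLH (χ : H → ℂ)) (ν : L → ℂ) ≠ 0} :=
    ⟨fun χ => χ.2.1 (hν.trans (dvd_charDegree hLH hLn χ.1 ν χ.2.2))⟩
  rw [cnt, Nat.card_of_isEmpty]

/-- The Clifford correspondence preserves the count. -/
theorem clifford_count {H T L : Subgroup Γ} (hLH : L ≤ H) (hLT : L ≤ T) (hTH : T ≤ H)
    (hLn : H ≤ Subgroup.normalizer (L : Set Γ)) (ν : IrrCharacter L)
    (hT : T = H ⊓ stab L (ν : L → ℂ)) (hidx : ¬ p ∣ (T.subgroupOf H).index) :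
    cnt p hLH ν = cnt p hLT ν := by
  have hp : p.Prime := Fact.out
  let L' := L.subgroupOf H
  let T' := T.subgroupOf H
  have hL'n : L'.Normal := subgroupOf_normal hLn
  let eL := Subgroup.subgroupOfEquivOfLe hLH
  let eT := Subgroup.subgroupOfEquivOfLe hTH
  let θ : L' → ℂ := fun n => (ν : L → ℂ) (eL n)
  have hθ : IsIrrCharacter L' θ := (isIrrCharacter_comp_equiv eL).2 ν.2
  have hin : inertia θ = T' := by
    ext t
    rw [mem_inertia, Subgroup.mem_subgroupOf]
    refine (conjFun_eq_self_iff hLH (ν : L → ℂ) t).trans ?_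
    rw [hT, Subgroup.mem_inf]
    exact ⟨fun h => ⟨t.2, hLn t.2, h⟩, fun h => h.2.2⟩
  have hLT' : L' ≤ T' := fun x hx => Subgroup.mem_subgroupOf.2 (hLT (Subgroup.mem_subgroupOf.1 hx))
  let tr : IrrCharacter T → IrrCharacter T' := fun ψ =>
    ⟨fun x => (ψ : T → ℂ) (eT x), (isIrrCharacter_comp_equiv eT).2 ψ.2⟩
  have hinn : ∀ ψ : IrrCharacter T,
      classInner (fun n : L' => (tr ψ : T' → ℂ) ⟨n, hLT' n.2⟩) θ =
        classInner (res hLT (ψ : T → ℂ)) (ν : L → ℂ) := fun ψ => by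
    rw [← classInner_subgroupOf' hLH]
    rfl
  let S0 := {ψ : IrrCharacter T //
    ¬ p ∣ charDegree (ψ : T → ℂ) ∧ classInner (res hLT (ψ : T → ℂ)) (ν : L → ℂ) ≠ 0}
  have hdeg : ∀ ψ : IrrCharacter T, ∀ d : ℕ, (ψ : T → ℂ) 1 = d →
      indFun T' (tr ψ : T' → ℂ) 1 = ((T'.index * d : ℕ) : ℂ) := by
    intro ψ d hd
    rw [indFun_apply_one, Nat.cast_mul]
    congr 1
  have hind : ∀ ψ : S0, ¬ p ∣ charDegree (indFun T' (tr ψ.1 : T' → ℂ)) ∧
      classInner (res hLH (indFun T' (tr ψ.1 : T' → ℂ))) (ν : L → ℂ) ≠ 0 := by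
    intro ψ
    have h2 : classInner (fun n : L' => (tr ψ.1 : T' → ℂ) ⟨n, hLT' n.2⟩) θ ≠ 0 := by
      rw [hinn]; exact ψ.2.2
    obtain ⟨d, -, hd⟩ := IsIrr.degree ψ.1.2
    refine ⟨?_, ?_⟩
    · rw [charDegree_eq_natCast (hdeg ψ.1 d hd), hp.dvd_mul, not_or]
      refine ⟨hidx, ?_⟩
      have := ψ.2.1
      rwa [charDegree_eq_natCast hd] at this
    · have hirr := exists_induced hθ hin hLT' (tr ψ.1).2 h2
      have h1 : classInner (fun t : T' => indFun T' (tr ψ.1 : T' → ℂ) t) (tr ψ.1 : T' → ℂ) ≠ 0 := by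
        have h := classInner_indFun_left T' (tr ψ.1 : T' → ℂ) (isClassFunction_of_isIrr hirr)
        rw [classInner_irr_self hirr, ← classInner_conj_symm] at h
        intro h0
        rw [h0, map_zero] at h
        exact one_ne_zero h
      have h3 := (clifford_core hθ hin hLT' hirr (tr ψ.1).2 h1 h2).2
      rw [← classInner_sub' hLH, ← h3]
      exact h2
  symm
  refine Nat.card_congr (Equiv.ofBijective (fun ψ : S0 =>
    (⟨⟨indFun T' (tr ψ.1 : T' → ℂ), exists_induced hθ hin hLT' (tr ψ.1).2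
      (by rw [hinn]; exact ψ.2.2)⟩, hind ψ⟩ :
      {χ : IrrCharacter H // ¬ p ∣ charDegree (χ : H → ℂ) ∧
        classInner (res hLH (χ : H → ℂ)) (ν : L → ℂ) ≠ 0})) ⟨fun a b hab => ?_, fun χ => ?_⟩)
  · have h := indFun_injective hθ hin hLT' (tr a.1).2 (tr b.1).2 (by rw [hinn]; exact a.2.2)
      (by rw [hinn]; exact b.2.2) (congrArg Subtype.val (congrArg Subtype.val hab))
    refine Subtype.ext (Subtype.ext (funext fun x => ?_))
    have h2 := congrFun h (eT.symm x)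
    simpa [tr] using h2
  · obtain ⟨ψ', hψ', hind', hmul⟩ := exists_correspondent hθ hin hLT' χ.1.2
      (by rw [classInner_sub' hLH]; exact χ.2.2)
    let ψ : IrrCharacter T :=
      ⟨fun x => ψ' (eT.symm x), (isIrrCharacter_comp_equiv eT.symm).2 hψ'⟩
    have htr : (tr ψ : T' → ℂ) = ψ' := funext fun x => congrArg ψ' (eT.symm_apply_apply x)
    obtain ⟨d, -, hd⟩ := IsIrr.degree ψ.2
    have hχ : indFun T' (tr ψ : T' → ℂ) = (χ.1 : H → ℂ) := by rw [htr, hind']
    have h1 : ¬ p ∣ charDegree (ψ : T → ℂ) := by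
      intro h
      refine χ.2.1 ?_
      rw [← hχ, charDegree_eq_natCast (hdeg ψ d hd)]
      rw [charDegree_eq_natCast hd] at h
      exact h.mul_left _
    have h2 : classInner (res hLT (ψ : T → ℂ)) (ν : L → ℂ) ≠ 0 := by
      rw [← hinn, htr, hmul, classInner_sub' hLH]
      exact χ.2.2
    exact ⟨⟨ψ, h1, h2⟩, Subtype.ext (Subtype.ext hχ)⟩

/-- Two Sylow subgroups of a subgroup are conjugate in it. -/
theorem exists_conj_of_sylow {T S R : Subgroup Γ} (hST : S ≤ T) (hRT : R ≤ T) (hS : IsPGroup p S)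
    (hR : IsPGroup p R) (hidx : ¬ p ∣ (S.subgroupOf T).index) (hcard : Nat.card R = Nat.card S) :
    ∃ t ∈ T, ∀ x, x ∈ R ↔ t⁻¹ * x * t ∈ S := by
  have hp : p.Prime := Fact.out
  have hpg : ∀ {X : Subgroup Γ}, X ≤ T → IsPGroup p X → IsPGroup p (X.subgroupOf T) :=
    fun hX h => h.of_equiv (Subgroup.subgroupOfEquivOfLe hX).symm
  obtain ⟨P, hP⟩ := (hpg hST hS).exists_le_sylow
  have hPS : S.subgroupOf T = (P : Subgroup T) := by
    refine Subgroup.eq_of_le_of_card_ge hP ?_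
    obtain ⟨i, hi⟩ := IsPGroup.iff_card.1 (hpg hST hS)
    obtain ⟨j, hj⟩ := IsPGroup.iff_card.1 P.isPGroup'
    have h1 : p ^ j ∣ p ^ i * (S.subgroupOf T).index := by
      rw [← hi, Subgroup.card_mul_index, ← hj]
      exact Subgroup.card_subgroup_dvd_card _
    have h2 := ((hp.coprime_iff_not_dvd.2 hidx).pow_left j).dvd_of_dvd_mul_right h1
    rw [hi, hj]
    exact Nat.le_of_dvd (pow_pos hp.pos i) h2
  obtain ⟨P', hP'⟩ := (hpg hRT hR).exists_le_sylow
  have hP'R : R.subgroupOf T = (P' : Subgroup T) := by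
    refine Subgroup.eq_of_le_of_card_ge hP' ?_
    rw [Sylow.card_eq_multiplicity, ← Sylow.card_eq_multiplicity P, ← hPS,
      Nat.card_congr (Subgroup.subgroupOfEquivOfLe hST).toEquiv,
      Nat.card_congr (Subgroup.subgroupOfEquivOfLe hRT).toEquiv, hcard]
  obtain ⟨t, ht⟩ := MulAction.exists_smul_eq T P P'
  have hmem : ∀ x : T, x ∈ (P' : Subgroup T) ↔ t⁻¹ * x * t ∈ (P : Subgroup T) := by
    intro x
    rw [← ht, Sylow.coe_subgroup_smul, Subgroup.mem_pointwise_smul_iff_inv_smul_mem]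
    simp [MulAut.smul_def, mul_assoc]
  refine ⟨t, t.2, fun x => ⟨fun hx => ?_, fun hx => ?_⟩⟩
  · have h := (hmem ⟨x, hRT hx⟩).1 (hP'R ▸ Subgroup.mem_subgroupOf.2 hx)
    rw [← hPS] at h
    exact Subgroup.mem_subgroupOf.1 h
  · have hxT : x ∈ T := by
      have := mul_mem (mul_mem t.2 (hST hx)) (inv_mem t.2)
      simpa [mul_assoc] using this
    have h := (hmem ⟨x, hxT⟩).2 (hPS ▸ Subgroup.mem_subgroupOf.2 hx)
    rw [← hP'R] at h
    exact Subgroup.mem_subgroupOf.1 h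

/-- The index of `S ⊓ K` in `K` when `S` is a Sylow subgroup normalising `K`. -/
theorem not_dvd_relIndex {H K S : Subgroup Γ} (hKH : K ≤ H) (hSH : S ≤ H)
    (hKn : H ≤ Subgroup.normalizer (K : Set Γ)) (hidx : ¬ p ∣ (S.subgroupOf H).index) :
    ¬ p ∣ S.relIndex K := by
  intro h
  refine hidx (h.trans ?_)
  have e1 := CentLarge.card_mul_card_inf S K
  rw [← Subgroup.coe_mul_of_left_le_normalizer_right S K (hSH.trans hKn)] at e1
  have e2 := ((S ⊓ K).subgroupOf K).card_mul_index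
  rw [Nat.card_congr (Subgroup.subgroupOfEquivOfLe (inf_le_right : S ⊓ K ≤ K)).toEquiv] at e2
  have e2' : Nat.card (S ⊓ K : Subgroup Γ) * S.relIndex K = Nat.card K := by
    rw [← Subgroup.inf_relIndex_right]; exact e2
  have e3 : Nat.card (S ⊔ K : Subgroup Γ) = Nat.card S * S.relIndex K := by
    refine Nat.eq_of_mul_eq_mul_right (Nat.card_pos (α := (S ⊓ K : Subgroup Γ))) ?_
    rw [mul_assoc, mul_comm (S.relIndex K), e2']
    exact e1
  have e4 := (S.subgroupOf H).card_mul_index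
  rw [Nat.card_congr (Subgroup.subgroupOfEquivOfLe hSH).toEquiv] at e4
  refine Nat.dvd_of_mul_dvd_mul_left (Nat.card_pos (α := S)) ?_
  rw [e4, ← e3]
  exact Subgroup.card_dvd_of_le (sup_le hSH hKH)

/-- `θ` is conjugate to `θ'` by an element of `NS`. -/
def Orb (K NS : Subgroup Γ) (θ θ' : IrrCharacter K) : Prop :=
  ∃ x ∈ NS, IsConjCharOf K x (θ' : K → ℂ) (θ : K → ℂ)

theorem Orb.symm {K NS : Subgroup Γ} {θ θ' : IrrCharacter K} (h : Orb K NS θ θ') :
    Orb K NS θ' θ := by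
  obtain ⟨x, hx, hc⟩ := h
  exact ⟨x⁻¹, inv_mem hx, fun k k' hk => (hc k' k (by rw [hk]; group)).symm⟩

theorem Orb.trans {K NS : Subgroup Γ} (hn : NS ≤ Subgroup.normalizer (K : Set Γ))
    {θ θ' θ'' : IrrCharacter K} (h : Orb K NS θ θ') (h' : Orb K NS θ' θ'') : Orb K NS θ θ'' := by
  obtain ⟨x, hx, hc⟩ := h
  obtain ⟨y, hy, hc'⟩ := h'
  refine ⟨x * y, mul_mem hx hy, fun k k' hk => ?_⟩
  let k1 : K := ⟨y * k * y⁻¹, conj_mem (hn hy) k.2⟩
  rw [hc k1 k' (by rw [hk]; simp only [k1]; group), hc' k k1 rfl]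

/-- The sum formula over the `S`-invariant characters of an intermediate normal subgroup. -/
theorem orbit_sum {H K L S NS : Subgroup Γ} (hLK : L ≤ K) (hKH : K ≤ H)
    (hLn : H ≤ Subgroup.normalizer (L : Set Γ)) (hKn : H ≤ Subgroup.normalizer (K : Set Γ))
    (hSH : S ≤ H) (hS : IsPGroup p S) (hidx : ¬ p ∣ (S.subgroupOf H).index) (ν : IrrCharacter L)
    (hν : H ≤ stab L (ν : L → ℂ)) (hNS : NS = H ⊓ Subgroup.normalizer (S : Set Γ))
    (Θ : Finset (IrrCharacter K))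
    (hΘ : ∀ θ, θ ∈ Θ ↔ ¬ p ∣ charDegree (θ : K → ℂ) ∧ S ≤ stab K (θ : K → ℂ) ∧
      classInner (res hLK (θ : K → ℂ)) (ν : L → ℂ) ≠ 0) :
    (cnt p (hLK.trans hKH) ν : ℚ) =
      ∑ θ ∈ Θ, (cnt p hKH θ : ℚ) / Nat.card {θ' : IrrCharacter K // Orb K NS θ θ'} := by
  have hp : p.Prime := Fact.out
  have iEqK := Classical.decEq (IrrCharacter K)
  let L' := L.subgroupOf H
  let K' := K.subgroupOf H
  have hL'n : L'.Normal := subgroupOf_normal hLn
  have hK'n : K'.Normal := subgroupOf_normal hKn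
  let eL := Subgroup.subgroupOfEquivOfLe (hLK.trans hKH)
  let eK := Subgroup.subgroupOfEquivOfLe hKH
  let P : IrrCharacter H → Prop := fun χ =>
    ¬ p ∣ charDegree (χ : H → ℂ) ∧ classInner (res (hLK.trans hKH) (χ : H → ℂ)) (ν : L → ℂ) ≠ 0
  let R : IrrCharacter H → IrrCharacter K → Prop := fun χ θ =>
    ¬ p ∣ charDegree (χ : H → ℂ) ∧ classInner (res hKH (χ : H → ℂ)) (θ : K → ℂ) ≠ 0
  have iP : ∀ χ, Decidable (P χ) := fun _ => Classical.propDecidable _
  have iO : ∀ θ θ' : IrrCharacter K, Decidable (Orb K NS θ θ') :=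
    fun _ _ => Classical.propDecidable _
  have iR : ∀ χ θ, Decidable (R χ θ) := fun _ _ => Classical.propDecidable _
  have hRP : ∀ χ, ∀ θ ∈ Θ, R χ θ → P χ := fun χ θ hθ h =>
    ⟨h.1, inner_trans hKH hLK χ θ ν h.2 ((hΘ θ).1 hθ).2.2⟩
  -- `H`-conjugates of constituents
  have hcj : ∀ (χ : IrrCharacter H) (θ θ' : IrrCharacter K) (x : Γ), x ∈ H →
      IsConjCharOf K x (θ' : K → ℂ) (θ : K → ℂ) →
      classInner (res hKH (χ : H → ℂ)) (θ' : K → ℂ) =
        classInner (res hKH (χ : H → ℂ)) (θ : K → ℂ) := by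
    intro χ θ θ' x hx hc
    rw [← classInner_sub' hKH, ← classInner_sub' hKH,
      ← classInner_conjFun (⟨x, hx⟩ : H) _ (fun n : K' => (θ : K → ℂ) (eK n)),
      conjFun_res _ (isClassFunction_of_isIrr χ.2)]
    refine congrArg _ (funext fun n => ?_)
    rw [conjFun_apply]
    exact (hc (eK n) _ rfl).symm
  -- an `S`-invariant constituent
  have hex : ∀ χ, P χ → ∃ θ ∈ Θ, R χ θ := by
    intro χ hP
    obtain ⟨θ1, hθ1⟩ := exists_constituent hKH χ
    let θ1' : K' → ℂ := fun n => (θ1 : K → ℂ) (eK n)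
    have hθ1' : IsIrrCharacter K' θ1' := (isIrrCharacter_comp_equiv eK).2 θ1.2
    have hne : classInner (fun n : K' => (χ : H → ℂ) n) θ1' ≠ 0 := by
      rw [classInner_sub' hKH]; exact hθ1
    have hdeg := degree_eq_of_clifford χ.2 hθ1' hne
    obtain ⟨m, hm⟩ := exists_nat_inner hKH χ θ1
    obtain ⟨d, -, hd⟩ := IsIrr.degree θ1.2
    rw [classInner_sub' hKH, hm,
      show θ1' 1 = (d : ℂ) from (congrArg (θ1 : K → ℂ) (map_one eK)).trans hd,
      ← Nat.cast_mul, ← Nat.cast_mul] at hdeg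
    have hχdeg := hP.1
    rw [charDegree_eq_natCast hdeg, hp.dvd_mul, hp.dvd_mul, not_or, not_or] at hχdeg
    -- a conjugate of `S` fixes `θ1`
    set T0 := inertia θ1'
    let S' := S.subgroupOf H
    obtain ⟨P0⟩ : Nonempty (Sylow p T0) := inferInstance
    have hS' : IsPGroup p S' := hS.of_equiv (Subgroup.subgroupOfEquivOfLe hSH).symm
    let R0 : Subgroup H := (P0 : Subgroup T0).map T0.subtype
    have hR0 : IsPGroup p R0 := P0.isPGroup'.map _
    have hR0idx : ¬ p ∣ R0.index := by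
      rw [Subgroup.index_map, T0.ker_subtype, sup_bot_eq, Subgroup.range_subtype]
      exact hp.not_dvd_mul P0.not_dvd_index hχdeg.1.2
    have hcard : ∀ (A B : Subgroup H), IsPGroup p A → IsPGroup p B → ¬ p ∣ B.index →
        Nat.card A ≤ Nat.card B := by
      intro A B hA hB hBi
      obtain ⟨i, hi⟩ := IsPGroup.iff_card.1 hA
      obtain ⟨j, hj⟩ := IsPGroup.iff_card.1 hB
      have h1 : p ^ i ∣ p ^ j * B.index := by
        rw [← hj, Subgroup.card_mul_index, ← hi]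
        exact Subgroup.card_subgroup_dvd_card _
      have h2 := ((hp.coprime_iff_not_dvd.2 hBi).pow_left i).dvd_of_dvd_mul_right h1
      rw [hi, hj]
      exact Nat.le_of_dvd (pow_pos hp.pos j) h2
    have hidx' : ¬ p ∣ (S'.subgroupOf ⊤).index := by
      show ¬ p ∣ S'.relIndex ⊤
      rwa [Subgroup.relIndex_top_right]
    obtain ⟨g, -, hg⟩ := exists_conj_of_sylow (le_top : S' ≤ ⊤) (le_top : R0 ≤ ⊤) hS' hR0 hidx'
      (le_antisymm (hcard _ _ hR0 hS' hidx) (hcard _ _ hS' hR0 hR0idx))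
    let θ : IrrCharacter K := cjc (hKn g.2) θ1
    have hθc : IsConjCharOf K (g : Γ) (θ : K → ℂ) (θ1 : K → ℂ) := isConjCharOf_cjc (hKn g.2) θ1
    have hRθ : classInner (res hKH (χ : H → ℂ)) (θ : K → ℂ) ≠ 0 := by
      rw [hcj χ θ1 θ g g.2 hθc]; exact hθ1
    refine ⟨θ, (hΘ θ).2 ⟨?_, fun s hs => ?_, ?_⟩, hP.1, hRθ⟩
    · have h1 : (θ : K → ℂ) 1 = (θ1 : K → ℂ) 1 := (hθc 1 1 (by simp)).symm
      rw [charDegree_eq_natCast (h1.trans hd)]
      exact hχdeg.2
    · have hmem : g * (⟨s, hSH hs⟩ : H) * g⁻¹ ∈ R0 := by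
        rw [hg]
        simpa [mul_assoc] using (Subgroup.mem_subgroupOf.2 hs : (⟨s, hSH hs⟩ : H) ∈ S')
      obtain ⟨z, -, hz⟩ := Subgroup.mem_map.1 hmem
      have hzT : conjFun (g * (⟨s, hSH hs⟩ : H) * g⁻¹) θ1' = θ1' := by
        rw [← hz]
        exact mem_inertia.1 z.2
      have hst : (g : Γ) * s * (g : Γ)⁻¹ ∈ stab K (θ1 : K → ℂ) :=
        ⟨hKn (mul_mem (mul_mem g.2 (hSH hs)) (inv_mem g.2)),
          (conjFun_eq_self_iff hKH (θ1 : K → ℂ) _).1 hzT⟩
      have := stab_cjc (hKn g.2) hst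
      simpa [mul_assoc] using this
    · obtain ⟨η, hη⟩ := exists_constituent hLK θ
      have h3 := inner_trans hKH hLK χ θ η hRθ hη
      have h4 := constituent_mem_orbit χ.2 ((isIrrCharacter_comp_equiv eL).2 ν.2)
        ((isIrrCharacter_comp_equiv eL).2 η.2) (N := L')
        (by rw [classInner_sub' (hLK.trans hKH)]; exact hP.2)
        (by rw [classInner_sub' (hLK.trans hKH)]; exact h3)
      obtain ⟨t, ht⟩ := mem_orbit.1 h4
      have hfix := (conjFun_eq_self_iff (hLK.trans hKH) (ν : L → ℂ) t).2 (hν t.2).2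
      have hην : η = ν := by
        refine Subtype.ext (funext fun l => ?_)
        have h5 := congrFun (hfix.symm.trans ht) (eL.symm l)
        simp only [eL, MulEquiv.apply_symm_apply] at h5
        exact h5.symm
      rwa [hην] at hη
  -- the constituents in `Θ` form one orbit
  have horb : ∀ χ, ∀ θ0 ∈ Θ, R χ θ0 → ∀ θ, (θ ∈ Θ ∧ R χ θ) ↔ Orb K NS θ0 θ := by
    intro χ θ0 h0 hR0 θ
    obtain ⟨hdeg0, hS0, hν0⟩ := (hΘ θ0).1 h0
    constructor
    · rintro ⟨hθ, hR⟩
      obtain ⟨-, hSθ, -⟩ := (hΘ θ).1 hθ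
      have h4 := constituent_mem_orbit χ.2 ((isIrrCharacter_comp_equiv eK).2 θ0.2)
        ((isIrrCharacter_comp_equiv eK).2 θ.2) (N := K')
        (by rw [classInner_sub' hKH]; exact hR0.2)
        (by rw [classInner_sub' hKH]; exact hR.2)
      obtain ⟨h, hh⟩ := mem_orbit.1 h4
      have hθeq : cjc (hKn h.2) θ0 = θ := by
        refine Subtype.ext (funext fun k => ?_)
        have h5 := congrFun hh (eK.symm k)
        simp only [conjFun_apply, eK, MulEquiv.apply_symm_apply] at h5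
        rw [cjc_apply, ← h5]
        exact congrArg _ (Subtype.ext rfl)
      let T := H ⊓ stab K (θ : K → ℂ)
      have hST : S ≤ T := le_inf hSH hSθ
      let R' : Subgroup Γ := S.map (MulAut.conj (h : Γ)⁻¹).toMonoidHom
      have hR'T : R' ≤ T := by
        rintro _ ⟨s, hs, rfl⟩
        refine Subgroup.mem_inf.2 ⟨?_, ?_⟩
        · show (h : Γ)⁻¹ * s * ((h : Γ)⁻¹)⁻¹ ∈ H
          exact mul_mem (mul_mem (inv_mem h.2) (hSH hs)) (inv_mem (inv_mem h.2))
        · show (h : Γ)⁻¹ * s * ((h : Γ)⁻¹)⁻¹ ∈ stab K (θ : K → ℂ)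
          rw [inv_inv, ← hθeq]
          exact stab_cjc (hKn h.2) (hS0 hs)
      have hTidx : ¬ p ∣ (S.subgroupOf T).index := fun hd =>
        hidx (hd.trans (Dvd.intro _ (Subgroup.relIndex_mul_relIndex S T H hST inf_le_left)))
      obtain ⟨t, ht, htR⟩ := exists_conj_of_sylow hST hR'T hS (hS.map _) hTidx
        (Subgroup.card_map_of_injective (MulAut.conj (h : Γ)⁻¹).injective)
      obtain ⟨htH, htθ⟩ := Subgroup.mem_inf.1 ht
      have hR'iff : ∀ y, y ∈ R' ↔ (h : Γ) * y * (h : Γ)⁻¹ ∈ S := fun y =>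
        ⟨by rintro ⟨s, hs, rfl⟩; simpa [mul_assoc] using hs,
          fun hy => ⟨_, hy, by simp [mul_assoc]⟩⟩
      refine ⟨h * t, hNS ▸ Subgroup.mem_inf.2 ⟨mul_mem h.2 htH, ?_⟩, ?_⟩
      · refine mem_normalizer_of_conj (fun s hs => ?_) fun s hs => ?_
        · have h6 : t * s * t⁻¹ ∈ R' := by rw [htR]; simpa [mul_assoc] using hs
          have := (hR'iff _).1 h6
          simpa [mul_assoc] using this
        · have h6 : (h : Γ)⁻¹ * s * h ∈ R' := (hR'iff _).2 (by simpa [mul_assoc] using hs)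
          have := (htR _).1 h6
          simpa [mul_assoc] using this
      · intro k k' hk
        let k1 : K := ⟨t * k * t⁻¹, conj_mem (hKn htH) k.2⟩
        have e1 : (θ : K → ℂ) k1 = (θ : K → ℂ) k := htθ.2 k k1 rfl
        rw [← hθeq, cjc_apply] at e1
        rw [← hθeq, ← e1]
        exact congrArg _ (Subtype.ext (by rw [hk]; simp only [k1]; group))
    · rintro ⟨x, hx, hc⟩
      obtain ⟨hxH, hxS⟩ := Subgroup.mem_inf.1 (hNS ▸ hx)
      have hθeq : cjc (hKn hxH) θ0 = θ := (cjc_eq_iff _ _ _).2 hc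
      refine ⟨(hΘ θ).2 ⟨?_, fun s hs => ?_, ?_⟩, hR0.1, ?_⟩
      · have h1 : (θ : K → ℂ) 1 = (θ0 : K → ℂ) 1 := (hc 1 1 (by simp)).symm
        rwa [charDegree, h1]
      · rw [← hθeq]
        have := stab_cjc (hKn hxH) (hS0 (conj_mem hxS hs))
        simpa [mul_assoc] using this
      · rw [← classInner_subgroupOf' (hLK) (res hLK (θ : K → ℂ)) (ν : L → ℂ)]
        rw [classInner_subgroupOf']
        have e : classInner (res hLK (θ : K → ℂ)) (ν : L → ℂ) =
            classInner (res hLK (θ0 : K → ℂ)) (ν : L → ℂ) := by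
          rw [classInner, classInner]
          congr 1
          let el : L ≃ L :=
            { toFun := fun l => ⟨x * l * x⁻¹, conj_mem (hLn hxH) l.2⟩
              invFun := fun l => ⟨x⁻¹ * l * x, conj_mem' (hLn hxH) l.2⟩
              left_inv := fun l => Subtype.ext (by simp [mul_assoc])
              right_inv := fun l => Subtype.ext (by simp [mul_assoc]) }
          refine Fintype.sum_equiv el _ _ fun l => ?_
          rw [res_apply, res_apply, (hν hxH).2 l (el l) rfl,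
            hc ⟨l, hLK l.2⟩ ⟨(el l : Γ), hLK (el l).2⟩ rfl]
        rw [e]
        exact hν0
      · rw [hcj χ θ0 θ x hxH hc]
        exact hR0.2
  -- counting
  have hcnt : ∀ θ : IrrCharacter K,
      (cnt p hKH θ : ℚ) = ∑ χ : IrrCharacter H, if R χ θ then (1 : ℚ) else 0 := by
    intro θ
    rw [Finset.sum_boole, cnt, Nat.card_eq_fintype_card, Fintype.card_subtype]
  have hL : (cnt p (hLK.trans hKH) ν : ℚ) = ∑ χ : IrrCharacter H, if P χ then (1 : ℚ) else 0 := by
    rw [Finset.sum_boole, cnt, Nat.card_eq_fintype_card, Fintype.card_subtype]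
  rw [hL]
  simp only [hcnt, Finset.sum_div]
  rw [Finset.sum_comm]
  refine Finset.sum_congr rfl fun χ _ => ?_
  by_cases hP : P χ
  · obtain ⟨θ0, h0, hR0⟩ := hex χ hP
    have hn : NS ≤ Subgroup.normalizer (K : Set Γ) := hNS ▸ inf_le_left.trans hKn
    rw [if_pos hP]
    set o := Nat.card {θ' : IrrCharacter K // Orb K NS θ0 θ'} with ho
    have hsum : ∀ θ ∈ Θ, (if R χ θ then (1 : ℚ) else 0) /
        Nat.card {θ' : IrrCharacter K // Orb K NS θ θ'} = if R χ θ then (1 : ℚ) / o else 0 := by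
      intro θ hθ
      by_cases hR : R χ θ
      · have h1 := (horb χ θ0 h0 hR0 θ).1 ⟨hθ, hR⟩
        rw [if_pos hR, if_pos hR, ho, Nat.card_congr (Equiv.subtypeEquivRight fun θ' =>
          (⟨fun h => h1.trans hn h, fun h => h1.symm.trans hn h⟩ :
            Orb K NS θ θ' ↔ Orb K NS θ0 θ'))]
      · rw [if_neg hR, if_neg hR, zero_div]
    rw [Finset.sum_congr rfl hsum, ← Finset.sum_filter, Finset.sum_const, nsmul_eq_mul]
    have hcardf : (Θ.filter fun θ => R χ θ).card = o := by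
      rw [ho, Nat.card_eq_fintype_card, Fintype.card_subtype]
      congr 1
      ext θ
      simp only [Finset.mem_filter, Finset.mem_univ, true_and]
      exact horb χ θ0 h0 hR0 θ
    rw [hcardf, mul_one_div_cancel]
    rw [Nat.cast_ne_zero, ho]
    have : Nonempty {θ' : IrrCharacter K // Orb K NS θ0 θ'} :=
      ⟨⟨θ0, (horb χ θ0 h0 hR0 θ0).1 ⟨h0, hR0⟩⟩⟩
    exact Nat.card_pos.ne'
  · rw [if_neg hP]
    symm
    refine Finset.sum_eq_zero fun θ hθ => ?_
    rw [if_neg fun hR => hP (hRP χ θ hθ hR), zero_div]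

end Cfsg.Agent.RelMcKay
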