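import Cfsg.Agent.RelMcKay.Hard
import Cfsg.Agent.Char.OddCorr.Ext
import Cfsg.Agent.Char.OddCorr.Triple

/-!
# The case of an invariant character with `K S` normal, `K / L` of order prime to `p`

The character triple `(H, L, ν)` is replaced by a group with a central subgroup and a normal
`p'`-subgroup, to which `hard` applies.
-/

set_option autoImplicit false

namespace Cfsg.Agent.RelMcKay

open Cfsg.Agent.ProjExt Cfsg.Agent.Char
open scoped ComplexConjugate

universe u

noncomputable local instance termFin {α : Type u} [Finite α] : Fintype α := Fintype.ofFinite α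

theorem classInner_equiv {A B : Type u} [Group A] [Group B] [Finite A] [Finite B] (e : A ≃* B)
    (f g : B → ℂ) : classInner (fun a => f (e a)) (fun a => g (e a)) = classInner f g := by
  rw [classInner, classInner, Nat.card_congr e.toEquiv]
  exact congrArg _ (Fintype.sum_equiv e.toEquiv _ _ fun _ => rfl)

/-- The number of `p'`-degree irreducible characters of `H` over `ν`. -/
noncomputable def cnt {Γ : Type u} [Group Γ] [Finite Γ] (p : ℕ) {H L : Subgroup Γ} (hLH : L ≤ H)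
    (ν : IrrCharacter L) : ℕ :=
  Nat.card {χ : IrrCharacter H //
    ¬ p ∣ charDegree (χ : H → ℂ) ∧ classInner (res hLH (χ : H → ℂ)) (ν : L → ℂ) ≠ 0}

/-- Counting through an extension of the character. -/
theorem triple_count {E G Q : Type u} [Group E] [Group G] [Group Q] [Finite E] [Finite G] [Finite Q]
    {p : ℕ} [Fact p.Prime] (π : E →* G) (hπ : Function.Surjective π) (q : E →* Q)
    (hq : Function.Surjective q) {Φ : E → ℂ} (hΦ : IsIrrCharacter E Φ)
    (hM : IsIrrCharacter q.ker (fun n : q.ker => Φ n)) (c : π.ker → ℂ)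
    (hc : ∀ z : π.ker, Φ z = c z * Φ 1) {d : ℕ} (hd : Φ 1 = d) (hdp : ¬ p ∣ d) :
    Nat.card {χ : IrrCharacter G // ¬ p ∣ charDegree (χ : G → ℂ) ∧
        classInner (fun n : q.ker => (χ : G → ℂ) (π n)) (fun n : q.ker => Φ n) ≠ 0} =
      Nat.card {β : IrrCharacter Q // ¬ p ∣ charDegree (β : Q → ℂ) ∧
        ∀ z : π.ker, (β : Q → ℂ) (q z) * c z = (β : Q → ℂ) 1} := by
  have hdeg : ∀ {χ : IrrCharacter G} {β : IrrCharacter Q},
      OddCorr.Rel π q Φ (χ : G → ℂ) (β : Q → ℂ) →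
      (¬ p ∣ charDegree (χ : G → ℂ) ↔ ¬ p ∣ charDegree (β : Q → ℂ)) := by
    intro χ β h
    obtain ⟨k, -, hk⟩ := IsIrr.degree β.2
    have h1 := h 1
    rw [map_one, map_one, hk, hd, ← Nat.cast_mul] at h1
    rw [charDegree_eq_natCast h1, charDegree_eq_natCast hk, (Fact.out : p.Prime).dvd_mul]
    simp [hdp]
  choose F hF using fun χ : {χ : IrrCharacter G // ¬ p ∣ charDegree (χ : G → ℂ) ∧
      classInner (fun n : q.ker => (χ : G → ℂ) (π n)) (fun n : q.ker => Φ n) ≠ 0} =>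
    OddCorr.exists_right hπ hq hΦ hM hc χ.1 χ.2.2
  refine Nat.card_congr (Equiv.ofBijective
    (fun χ => ⟨F χ, (hdeg (hF χ).1).1 χ.2.1, (hF χ).2⟩) ⟨fun a b hab => ?_, fun β => ?_⟩)
  · have e : F a = F b := congrArg Subtype.val hab
    exact Subtype.ext (Subtype.ext ((hF a).1.eq_left hπ (e ▸ (hF b).1)))
  · obtain ⟨χ, hχ, hne⟩ := OddCorr.exists_left hπ hq hΦ hM hc β.1 β.2.2
    let χ' : {χ : IrrCharacter G // ¬ p ∣ charDegree (χ : G → ℂ) ∧
        classInner (fun n : q.ker => (χ : G → ℂ) (π n)) (fun n : q.ker => Φ n) ≠ 0} :=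
      ⟨χ, (hdeg hχ).2 β.2.1, hne⟩
    refine ⟨χ', Subtype.ext (Subtype.ext ?_)⟩
    exact OddCorr.Rel.eq_right hq hΦ hM (IsIrr.isCharacter (F χ').2) (IsIrr.isCharacter β.1.2)
      (hF χ').1 hχ

variable {Γ : Type u} [Group Γ] [Finite Γ] {p : ℕ} [Fact p.Prime]

theorem mem_normalizer_subgroupOf_iff {H X : Subgroup Γ} (hXH : X ≤ H) (x : H) :
    x ∈ Subgroup.normalizer ((X.subgroupOf H : Subgroup H) : Set H) ↔
      (x : Γ) ∈ Subgroup.normalizer (X : Set Γ) := by
  constructor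
  · intro h
    refine mem_normalizer_of_conj (fun g hg => ?_) fun g hg => ?_
    · exact Subgroup.mem_subgroupOf.1 (conj_mem h (g := ⟨g, hXH hg⟩) (Subgroup.mem_subgroupOf.2 hg))
    · exact Subgroup.mem_subgroupOf.1 (conj_mem' h (g := ⟨g, hXH hg⟩) (Subgroup.mem_subgroupOf.2 hg))
  · exact fun h => mem_normalizer_of_conj
      (fun g hg => Subgroup.mem_subgroupOf.2 (conj_mem h (Subgroup.mem_subgroupOf.1 hg)))
      fun g hg => Subgroup.mem_subgroupOf.2 (conj_mem' h (Subgroup.mem_subgroupOf.1 hg))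

/-- A Sylow subgroup and its product with a central subgroup have the same normaliser. -/
theorem normalizer_sup_central {Q : Type u} [Group Q] [Finite Q] (P : Sylow p Q) {Z : Subgroup Q}
    (hZ : Z ≤ Subgroup.center Q) :
    Subgroup.normalizer ((Z ⊔ (P : Subgroup Q) : Subgroup Q) : Set Q) =
      Subgroup.normalizer ((P : Subgroup Q) : Set Q) := by
  have hle : Z ⊔ (P : Subgroup Q) ≤ Subgroup.normalizer ((P : Subgroup Q) : Set Q) := by
    refine sup_le (fun z hz => ?_) Subgroup.le_normalizer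
    exact mem_normalizer_of_conj
      (fun g hg => by rwa [← Subgroup.mem_center_iff.1 (hZ hz) g, mul_inv_cancel_right])
      fun g hg => by rwa [mul_assoc, Subgroup.mem_center_iff.1 (hZ hz) g, inv_mul_cancel_left]
  refine le_antisymm (fun x hx => ?_) fun x hx => ?_
  · have key : ∀ y ∈ Subgroup.normalizer ((Z ⊔ (P : Subgroup Q) : Subgroup Q) : Set Q),
        ∀ g ∈ (P : Subgroup Q), y * g * y⁻¹ ∈ (P : Subgroup Q) := by
      intro y hy g hg
      let R := (P : Subgroup Q).map (MulAut.conj y).toMonoidHom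
      have hR : IsPGroup p R := P.isPGroup'.map _
      have hRle : R ≤ Subgroup.normalizer ((P : Subgroup Q) : Set Q) := by
        rintro _ ⟨g', hg', rfl⟩
        exact hle (conj_mem hy ((le_sup_right : (P : Subgroup Q) ≤ Z ⊔ P) hg'))
      have hsup : IsPGroup p (R ⊔ (P : Subgroup Q) : Subgroup Q) :=
        IsPGroup.to_sup_of_normal_right' hR P.isPGroup' hRle
      rw [← P.is_maximal' hsup le_sup_right]
      exact (le_sup_left : R ≤ R ⊔ (P : Subgroup Q)) ⟨g, hg, rfl⟩
    exact mem_normalizer_of_conj (key x hx) fun g hg => by simpa using key x⁻¹ (inv_mem hx) g hg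
  · have key : ∀ y ∈ Subgroup.normalizer ((P : Subgroup Q) : Set Q),
        ∀ g ∈ Z ⊔ (P : Subgroup Q), y * g * y⁻¹ ∈ Z ⊔ (P : Subgroup Q) := by
      intro y hy
      show Z ⊔ (P : Subgroup Q) ≤ (Z ⊔ (P : Subgroup Q)).comap (MulAut.conj y).toMonoidHom
      refine sup_le (fun z hz => (le_sup_left : Z ≤ Z ⊔ (P : Subgroup Q)) ?_)
        fun g hg => (le_sup_right : (P : Subgroup Q) ≤ Z ⊔ (P : Subgroup Q)) (conj_mem hy hg)
      show y * z * y⁻¹ ∈ Z
      rwa [Subgroup.mem_center_iff.1 (hZ hz) y, mul_inv_cancel_right]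
    exact mem_normalizer_of_conj (key x hx) fun g hg => by simpa using key x⁻¹ (inv_mem hx) g hg

/-- A normal subgroup that is a `p'`-group modulo a central subgroup has a normal `p`-complement,
generating the same subgroup with any Sylow subgroup. -/
theorem exists_complement_central {Q : Type u} [Group Q] [Finite Q] (P : Sylow p Q)
    {Z W : Subgroup Q} [W.Normal] (hZ : Z ≤ Subgroup.center Q) (hidx : ¬ p ∣ Z.relIndex W) :
    ∃ K0 : Subgroup Q, K0.Normal ∧ ¬ p ∣ Nat.card K0 ∧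
      K0 ⊔ (P : Subgroup Q) = W ⊔ (P : Subgroup Q) := by
  have hp : p.Prime := Fact.out
  obtain ⟨m, hm⟩ := IsPGroup.iff_card.1 P.isPGroup'
  set P' := (P : Subgroup Q) ⊓ W
  have hP'c : P' ≤ Subgroup.center Q := by
    intro x hx
    obtain ⟨hxP, hxW⟩ := Subgroup.mem_inf.1 hx
    refine hZ ?_
    have hn : (Z.subgroupOf W).Normal := by
      refine subgroupOf_normal fun w _ => ?_
      exact mem_normalizer_of_conj
        (fun z hz => by rwa [Subgroup.mem_center_iff.1 (hZ hz) w, mul_inv_cancel_right])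
        fun z hz => by rwa [Subgroup.mem_center_iff.1 (hZ hz) w⁻¹, inv_mul_cancel_right]
    let y : W ⧸ Z.subgroupOf W := ((⟨x, hxW⟩ : W) : W ⧸ Z.subgroupOf W)
    have h1 : y = 1 := by
      refine eq_one_of_pow_coprime (m := p ^ m) (n := Nat.card (W ⧸ Z.subgroupOf W)) ?_
        pow_card_eq_one' (((hp.coprime_iff_not_dvd).2 hidx).pow_left m)
      have h := pow_card_eq_one' (x := (⟨x, hxP⟩ : (P : Subgroup Q)))
      rw [hm] at h
      show ((⟨x, hxW⟩ : W) : W ⧸ Z.subgroupOf W) ^ p ^ m = 1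
      rw [← QuotientGroup.mk_pow,
        show (⟨x, hxW⟩ : W) ^ p ^ m = 1 from Subtype.ext (show x ^ p ^ m = 1 from congrArg Subtype.val h)]
      rfl
    exact Subgroup.mem_subgroupOf.1 ((QuotientGroup.eq_one_iff _).1 h1)
  obtain ⟨a, ha⟩ := IsPGroup.iff_card.1 (P.isPGroup'.to_le (inf_le_left : P' ≤ (P : Subgroup Q)))
  have hidx' : ¬ p ∣ (P'.subgroupOf W).index := by
    intro h
    refine P.not_dvd_index (h.trans ?_)
    have e1 := CentLarge.card_mul_card_inf (P : Subgroup Q) W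
    rw [← Subgroup.coe_mul_of_left_le_normalizer_right (P : Subgroup Q) W
      (by rw [Subgroup.normalizer_eq_top]; exact le_top)] at e1
    have e2 := (P'.subgroupOf W).card_mul_index
    rw [Nat.card_congr (Subgroup.subgroupOfEquivOfLe (inf_le_right : P' ≤ W)).toEquiv] at e2
    have e3 : Nat.card ((P : Subgroup Q) ⊔ W : Subgroup Q) =
        Nat.card (P : Subgroup Q) * (P'.subgroupOf W).index := by
      refine Nat.eq_of_mul_eq_mul_right (Nat.card_pos (α := P')) ?_
      rw [mul_assoc, mul_comm (P'.subgroupOf W).index, e2]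
      exact e1
    refine Nat.dvd_of_mul_dvd_mul_left (Nat.card_pos (α := (P : Subgroup Q))) ?_
    rw [Subgroup.card_mul_index, ← e3]
    exact Subgroup.card_subgroup_dvd_card _
  have hP'n : (P'.subgroupOf W).Normal := by
    refine subgroupOf_normal fun w _ => mem_normalizer_of_conj
      (fun z hz => by rwa [Subgroup.mem_center_iff.1 (hP'c hz) w, mul_inv_cancel_right])
      fun z hz => by rwa [Subgroup.mem_center_iff.1 (hP'c hz) w⁻¹, inv_mul_cancel_right]
  obtain ⟨U, hU⟩ := Subgroup.exists_right_complement'_of_coprime (N := P'.subgroupOf W) (by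
    rw [Nat.card_congr (Subgroup.subgroupOfEquivOfLe (inf_le_right : P' ≤ W)).toEquiv, ha]
    exact ((hp.coprime_iff_not_dvd).2 hidx').pow_left a)
  set n := Nat.card U
  have hn : ¬ p ∣ n := by
    show ¬ p ∣ Nat.card U
    rw [← hU.symm.index_eq_card]
    exact hidx'
  have hdec : ∀ x ∈ W, ∃ z ∈ P', ∃ u : U, x = z * ((u : W) : Q) := by
    intro x hx
    obtain ⟨⟨z, u⟩, h, -⟩ := hU.existsUnique (⟨x, hx⟩ : W)
    exact ⟨((z : W) : Q), Subgroup.mem_subgroupOf.1 z.2, u, congrArg Subtype.val h.symm⟩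
  have hmem : ∀ x, x ∈ U.map W.subtype ↔ x ∈ W ∧ x ^ n = 1 := by
    intro x
    constructor
    · rintro ⟨u, hu, rfl⟩
      refine ⟨u.2, ?_⟩
      exact congrArg (fun t : U => ((t : W) : Q)) (pow_card_eq_one' (x := (⟨u, hu⟩ : U)))
    · rintro ⟨hx, hxn⟩
      obtain ⟨z, hz, u, rfl⟩ := hdec x hx
      have hcomm : Commute z ((u : W) : Q) := (Subgroup.mem_center_iff.1 (hP'c hz) _).symm
      have hu : ((u : W) : Q) ^ n = 1 :=
        congrArg (fun t : U => ((t : W) : Q)) (pow_card_eq_one' (x := u))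
      rw [hcomm.mul_pow, hu, mul_one] at hxn
      have hzc : z ^ p ^ a = 1 := by
        have := pow_card_eq_one' (x := (⟨z, hz⟩ : P'))
        rw [ha] at this
        exact congrArg Subtype.val this
      rw [eq_one_of_pow_coprime hzc hxn (((hp.coprime_iff_not_dvd).2 hn).pow_left a), one_mul]
      exact ⟨u, u.2, rfl⟩
  refine ⟨U.map W.subtype, ⟨fun x hx g => (hmem _).2 ⟨?_, ?_⟩⟩, ?_, ?_⟩
  · exact (inferInstance : W.Normal).conj_mem _ ((hmem x).1 hx).1 g
  · rw [conj_pow, ((hmem x).1 hx).2, mul_one, mul_inv_cancel]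
  · rw [Nat.card_congr (Subgroup.equivMapOfInjective U _ W.subtype_injective).toEquiv.symm]
    exact hn
  · refine le_antisymm (sup_le_sup_right (fun x hx => ((hmem x).1 hx).1) _)
      (sup_le (fun x hx => ?_) le_sup_right)
    obtain ⟨z, hz, u, rfl⟩ := hdec x hx
    exact mul_mem ((le_sup_right : (P : Subgroup Q) ≤ U.map W.subtype ⊔ P) (Subgroup.mem_inf.1 hz).1)
      ((le_sup_left : U.map W.subtype ≤ U.map W.subtype ⊔ P) ⟨u, u.2, rfl⟩)

/-- The count in the terminal case. -/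
theorem terminal {H L K S N : Subgroup Γ} (hLH : L ≤ H) (hLK : L ≤ K) (hKH : K ≤ H) (hSH : S ≤ H)
    (hLn : H ≤ Subgroup.normalizer (L : Set Γ)) (hKn : H ≤ Subgroup.normalizer (K : Set Γ))
    (hKSn : H ≤ Subgroup.normalizer ((K ⊔ S : Subgroup Γ) : Set Γ))
    (hS : IsPGroup p S) (hSidx : ¬ p ∣ (S.subgroupOf H).index)
    (hKidx : ¬ p ∣ L.relIndex K) (hN : N = H ⊓ Subgroup.normalizer ((L ⊔ S : Subgroup Γ) : Set Γ))
    (hLN : L ≤ N) (ν : IrrCharacter L) (hν : H ≤ stab L (ν : L → ℂ))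
    (hdeg : ¬ p ∣ charDegree (ν : L → ℂ)) :
    cnt p hLH ν = cnt p hLN ν := by
  have hp : p.Prime := Fact.out
  let L' := L.subgroupOf H
  have hL'n : L'.Normal := subgroupOf_normal hLn
  let eL := Subgroup.subgroupOfEquivOfLe hLH
  obtain ⟨T⟩ := OddCorr.exists_tripleExt (1 : PUnit.{1} →* MulAut H) L' (fun _ n hn => hn)
    (θ := fun x => (ν : L → ℂ) (eL x)) ((isIrrCharacter_comp_equiv eL).2 ν.2)
    (fun g n => (hν g.2).2 (eL n) _ rfl) (fun _ n => rfl)
  let iE : Group T.E := T.grp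
  have iF : Finite T.E := T.fin
  let π := T.π
  -- the copy of `L`
  let I : Subgroup T.E := T.i.range
  have hπI : ∀ n : L', π (T.i n) = (n : H) := T.π_i
  have hiinj : Function.Injective T.i := fun a b h =>
    Subtype.ext (by rw [← hπI a, h, hπI b])
  have hIn : I.Normal := by
    constructor
    rintro _ ⟨n, rfl⟩ e
    exact ⟨⟨π e * n * (π e)⁻¹, hL'n.conj_mem _ n.2 _⟩, (T.conj_i e n _ rfl).symm⟩
  let Q := T.E ⧸ I
  let q : T.E →* Q := QuotientGroup.mk' I
  have hq : Function.Surjective q := QuotientGroup.mk'_surjective I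
  have hqker : ∀ x, q x = 1 ↔ x ∈ I := QuotientGroup.eq_one_iff
  -- the central subgroup
  let fz : π.ker →* Q := q.comp π.ker.subtype
  have hfz : Function.Injective fz := by
    refine (injective_iff_map_eq_one fz).2 fun z hz => ?_
    obtain ⟨n, hn⟩ := (hqker _).1 hz
    have hn1 : (n : H) = 1 := by rw [← hπI n, hn]; exact z.2
    refine Subtype.ext ?_
    show (z : T.E) = 1
    rw [← show T.i n = (z : T.E) from hn, show n = 1 from Subtype.ext hn1, map_one]
  let Z := fz.range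
  have hZ : Z ≤ Subgroup.center Q := by
    rintro _ ⟨z, rfl⟩
    rw [Subgroup.mem_center_iff]
    intro y
    obtain ⟨e, rfl⟩ := hq y
    show q e * q z = q z * q e
    rw [← map_mul, ← map_mul, Subgroup.mem_center_iff.1 (T.ker_central z.2) e]
  let ez := MonoidHom.ofInjective hfz
  let lam : Z →* ℂˣ := (T.sc.comp ez.symm.toMonoidHom)⁻¹
  have hlam : ∀ z : π.ker, lam (ez z) = (T.sc z)⁻¹ := fun z => by
    show (T.sc (ez.symm (ez z)))⁻¹ = _
    rw [MulEquiv.symm_apply_apply]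
  -- images of subgroups
  let K' := K.subgroupOf H
  let S' := S.subgroupOf H
  let LS := L' ⊔ S'
  let WQ : Subgroup Q := (K'.comap π).map q
  let PQ : Subgroup Q := (LS.comap π).map q
  have hK'n : K'.Normal := subgroupOf_normal hKn
  have hLS : LS = (L ⊔ S).subgroupOf H := (Subgroup.subgroupOf_sup hLH hSH).symm
  have hWn : WQ.Normal := Subgroup.Normal.map (hK'n.comap π) q hq
  have hIcomap : ∀ {X : Subgroup H}, L' ≤ X → I ≤ X.comap π := by
    rintro X hX _ ⟨n, rfl⟩
    rw [Subgroup.mem_comap, hπI]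
    exact hX n.2
  have hL'K' : L' ≤ K' := fun x hx => Subgroup.mem_subgroupOf.2 (hLK (Subgroup.mem_subgroupOf.1 hx))
  have hqcomap : ∀ {X : Subgroup H}, L' ≤ X → ((X.comap π).map q).comap q = X.comap π := by
    intro X hX
    refine Subgroup.comap_map_eq_self ?_
    rw [QuotientGroup.ker_mk']
    exact hIcomap hX
  have hker_le : π.ker ⊔ I = L'.comap π := by
    refine le_antisymm (sup_le (Subgroup.ker_le_comap π L') (hIcomap le_rfl)) fun x hx => ?_
    have := mul_mem ((le_sup_left : π.ker ≤ π.ker ⊔ I)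
      (show x * (T.i ⟨π x, hx⟩)⁻¹ ∈ π.ker by
        rw [MonoidHom.mem_ker, map_mul, map_inv, hπI, mul_inv_cancel]))
      ((le_sup_right : I ≤ π.ker ⊔ I) ⟨⟨π x, hx⟩, rfl⟩)
    simpa using this
  have hZeq : Z = (L'.comap π).map q := by
    rw [← hker_le, Subgroup.map_sup, QuotientGroup.map_mk'_self, sup_bot_eq]
    exact (MonoidHom.range_comp _ _).trans (by rw [Subgroup.range_subtype])
  have hidx : ∀ {X : Subgroup H}, L' ≤ X → ((X.comap π).map q).index = X.index := by
    intro X hX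
    rw [← Subgroup.index_comap_of_surjective _ hq, hqcomap hX,
      Subgroup.index_comap_of_surjective _ T.surj]
  have hLSidx : ¬ p ∣ LS.index := fun h =>
    hSidx (h.trans (Subgroup.index_dvd_of_le le_sup_right))
  have hWZ : ¬ p ∣ Z.relIndex WQ := by
    rw [hZeq, ← Subgroup.relIndex_comap, hqcomap le_rfl, ← hqcomap hL'K', Subgroup.comap_map_eq_self
      (by rw [QuotientGroup.ker_mk']; exact (hIcomap hL'K'))] at *
    rw [Subgroup.relIndex_comap, Subgroup.map_comap_eq_self_of_surjective T.surj]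
    rwa [Subgroup.relIndex_subgroupOf hKH]
  -- a Sylow subgroup of the quotient
  obtain ⟨P₁⟩ : Nonempty (Sylow p PQ) := inferInstance
  have hP₁ : IsPGroup p ((P₁ : Subgroup PQ).map PQ.subtype) := P₁.isPGroup'.map _
  obtain ⟨P, hPle⟩ := hP₁.exists_le_sylow
  have hPQidx : ¬ p ∣ ((P₁ : Subgroup PQ).map PQ.subtype).index := by
    rw [Subgroup.index_map, PQ.ker_subtype, sup_bot_eq, Subgroup.range_subtype, hidx le_sup_left]
    exact hp.not_dvd_mul P₁.not_dvd_index hLSidx
  have hPeq : (P₁ : Subgroup PQ).map PQ.subtype = (P : Subgroup Q) := by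
    refine Subgroup.eq_of_le_of_card_ge hPle ?_
    obtain ⟨i, hi⟩ := IsPGroup.iff_card.1 hP₁
    obtain ⟨j, hj⟩ := IsPGroup.iff_card.1 P.isPGroup'
    have h1 : p ^ j ∣ p ^ i * ((P₁ : Subgroup PQ).map PQ.subtype).index := by
      rw [← hi, Subgroup.card_mul_index, ← hj]
      exact Subgroup.card_subgroup_dvd_card _
    have h2 := ((hp.coprime_iff_not_dvd.2 hPQidx).pow_left j).dvd_of_dvd_mul_right h1
    rw [hi, hj]
    exact Nat.le_of_dvd (pow_pos hp.pos i) h2
  have hPPQ : (P : Subgroup Q) ≤ PQ := hPeq ▸ Subgroup.map_subtype_le _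
  have hZPQ : Z ≤ PQ := by
    rw [hZeq]
    exact Subgroup.map_mono (Subgroup.comap_mono le_sup_left)
  have hPQeq : PQ = Z ⊔ (P : Subgroup Q) := by
    refine le_antisymm ?_ (sup_le hZPQ hPPQ)
    have hle : Z ⊔ (P : Subgroup Q) ≤ PQ := sup_le hZPQ hPPQ
    rw [← Subgroup.relIndex_eq_one]
    obtain ⟨j, hj⟩ := IsPGroup.iff_card.1 hS
    have e1 : (Z ⊔ (P : Subgroup Q)).relIndex PQ ∣ p ^ j := by
      refine (Subgroup.relIndex_dvd_of_le_left _ (le_sup_left : Z ≤ Z ⊔ (P : Subgroup Q))).trans ?_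
      rw [hZeq, ← Subgroup.relIndex_comap, hqcomap le_rfl, Subgroup.relIndex_comap,
        Subgroup.map_comap_eq_self_of_surjective T.surj]
      show (L'.subgroupOf LS).index ∣ p ^ j
      refine (index_subgroupOf_dvd rfl (by rw [Subgroup.normalizer_eq_top]; exact le_top)).trans ?_
      rw [Nat.card_congr (Subgroup.subgroupOfEquivOfLe hSH).toEquiv, hj]
    have e2 : ¬ p ∣ (Z ⊔ (P : Subgroup Q)).relIndex PQ := fun h =>
      P.not_dvd_index ((h.trans (Subgroup.relIndex_dvd_of_le_left _ le_sup_right)).trans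
        (Dvd.intro _ (Subgroup.relIndex_mul_index hPPQ)))
    obtain ⟨i, -, hi⟩ := (Nat.dvd_prime_pow hp).1 e1
    rcases Nat.eq_zero_or_pos i with h0 | h0
    · rw [hi, h0, pow_zero]
    · exact absurd (hi ▸ dvd_pow_self p h0.ne') e2
  have hNH : N ≤ H := hN ▸ inf_le_left
  let N' := N.subgroupOf H
  let NE := N'.comap π
  let NQ := NE.map q
  have hN' : N' = Subgroup.normalizer (LS : Set H) := by
    ext x
    rw [hLS, mem_normalizer_subgroupOf_iff (sup_le hLH hSH), Subgroup.mem_subgroupOf, hN,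
      Subgroup.mem_inf]
    exact and_iff_right x.2
  have hNQ : NQ = Subgroup.normalizer ((P : Subgroup Q) : Set Q) := by
    rw [← normalizer_sup_central P hZ, ← hPQeq,
      ← Subgroup.map_comap_eq_self_of_surjective hq (Subgroup.normalizer (PQ : Set Q)),
      Subgroup.comap_normalizer_eq_of_surjective PQ hq, hqcomap le_sup_left]
    show (N'.comap π).map q = _
    rw [hN', Subgroup.comap_normalizer_eq_of_surjective LS T.surj]
  have hL'N' : L' ≤ N' := fun x hx => Subgroup.mem_subgroupOf.2 (hLN (Subgroup.mem_subgroupOf.1 hx))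
  have hINE : I ≤ NE := hIcomap hL'N'
  have hkNE : π.ker ≤ NE := Subgroup.ker_le_comap π N'
  have hZN : Z ≤ NQ := by
    rintro _ ⟨z, rfl⟩
    exact ⟨(z : T.E), hkNE z.2, rfl⟩
  -- the normal `p'`-subgroup
  obtain ⟨K0, hK0n, hK0p, hK0⟩ := exists_complement_central P (W := WQ) hZ hWZ
  have hZW : Z ≤ WQ := by
    rw [hZeq]
    exact Subgroup.map_mono (Subgroup.comap_mono hL'K')
  have hKSeq : K0 ⊔ (P : Subgroup Q) = ((K' ⊔ LS).comap π).map q := by
    rw [hK0, ← Subgroup.comap_sup_eq π K' LS T.surj, Subgroup.map_sup]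
    show WQ ⊔ (P : Subgroup Q) = WQ ⊔ PQ
    rw [hPQeq, ← sup_assoc, sup_of_le_left hZW]
  have hKS'n : (K' ⊔ LS).Normal := by
    have e : K' ⊔ LS = (K ⊔ S).subgroupOf H := by
      rw [← sup_assoc, sup_of_le_left hL'K']
      exact (Subgroup.subgroupOf_sup hKH hSH).symm
    rw [e]
    exact subgroupOf_normal hKSn
  have hMn : (K0 ⊔ (P : Subgroup Q)).Normal := hKSeq ▸ Subgroup.Normal.map (hKS'n.comap π) q hq
  have hard' := hard K0 hK0p P hMn Z hZ (hK0 ▸ hZW.trans le_sup_left) lam NQ hNQ hZN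
  -- degree
  obtain ⟨d, -, hd⟩ := IsIrr.degree ν.2
  rw [charDegree_eq_natCast hd] at hdeg
  have hΦ1 : T.Φ 1 = d := by
    have := T.Φ_res 1
    rw [map_one] at this
    rw [this]
    exact (congrArg (ν : L → ℂ) (map_one eL)).trans hd
  have hcz : ∀ z : π.ker, T.Φ z = (T.sc z : ℂ) * T.Φ 1 := fun z => by
    simpa using T.Φ_sc z 1
  -- the correspondence for `H`
  have hbij : Function.Bijective (fun n : L' => (⟨T.i n, (hqker _).2 ⟨n, rfl⟩⟩ : q.ker)) :=
    ⟨fun a b h => hiinj (congrArg Subtype.val h), fun x => by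
      obtain ⟨n, hn⟩ := (hqker _).1 x.2
      exact ⟨n, Subtype.ext hn⟩⟩
  let jh : L' →* q.ker := T.i.codRestrict q.ker fun n => (hqker _).2 ⟨n, rfl⟩
  let j : L ≃* q.ker := eL.symm.trans (MulEquiv.ofBijective jh hbij)
  have hjπ : ∀ l : L, π (j l) = ⟨l, hLH l.2⟩ := fun l => hπI (eL.symm l)
  have hjΦ : ∀ l : L, T.Φ (j l) = (ν : L → ℂ) l := fun l =>
    (T.Φ_res _).trans (congrArg (ν : L → ℂ) (eL.apply_symm_apply l))
  have hM : IsIrrCharacter q.ker (fun n : q.ker => T.Φ n) := by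
    refine (isIrrCharacter_comp_equiv j).1 ?_
    have : (fun l => T.Φ (j l : q.ker)) = (ν : L → ℂ) := funext hjΦ
    rw [this]
    exact ν.2
  have hinner : ∀ f : H → ℂ, classInner (fun n : q.ker => f (π n)) (fun n : q.ker => T.Φ n) =
      classInner (res hLH f) (ν : L → ℂ) := by
    intro f
    rw [← classInner_equiv j]
    simp only [hjπ, hjΦ]
    rfl
  have h1 := triple_count π T.surj q hq T.Φ_irr hM (fun z => (T.sc z : ℂ)) hcz hΦ1 hdeg
  -- the correspondence for `N`
  let π2 : NE →* N :=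
    { toFun := fun e => ⟨(π e : Γ), Subgroup.mem_subgroupOf.1 e.2⟩
      map_one' := Subtype.ext (by simp)
      map_mul' := fun a b => Subtype.ext (by simp) }
  have hπ2 : Function.Surjective π2 := fun y => by
    obtain ⟨e, he⟩ := T.surj ⟨(y : Γ), hNH y.2⟩
    have he' : e ∈ NE := by
      rw [Subgroup.mem_comap]
      show π e ∈ N'
      rw [show π e = ⟨(y : Γ), hNH y.2⟩ from he]
      exact Subgroup.mem_subgroupOf.2 y.2
    exact ⟨⟨e, he'⟩, Subtype.ext (congrArg (fun t : H => (t : Γ)) he)⟩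
  let q2 : NE →* NQ := q.subgroupMap NE
  have hq2 : Function.Surjective q2 := MonoidHom.subgroupMap_surjective q NE
  have hq2ker : ∀ x : NE, q2 x = 1 ↔ (x : T.E) ∈ q.ker := fun x =>
    ⟨fun h => congrArg Subtype.val h, fun h => Subtype.ext h⟩
  have hkerle : q.ker ≤ NE := fun x hx => hINE ((hqker x).1 hx)
  let k2 : q.ker →* q2.ker :=
    { toFun := fun x => ⟨⟨x, hkerle x.2⟩, (hq2ker _).2 x.2⟩
      map_one' := rfl
      map_mul' := fun _ _ => rfl }
  have hk2 : Function.Bijective k2 :=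
    ⟨fun a b h => Subtype.ext (congrArg (fun t : q2.ker => ((t : NE) : T.E)) h), fun x =>
      ⟨⟨x, (hq2ker _).1 x.2⟩, rfl⟩⟩
  let j2 : L ≃* q2.ker := j.trans (MulEquiv.ofBijective k2 hk2)
  have hM2 : IsIrrCharacter q2.ker (fun n : q2.ker => T.Φ ((n : NE) : T.E)) := by
    refine (isIrrCharacter_comp_equiv j2).1 ?_
    have : (fun l => T.Φ ((j2 l : NE) : T.E)) = (ν : L → ℂ) := funext hjΦ
    rw [this]
    exact ν.2
  have hΦ2 : IsIrrCharacter NE (fun e : NE => T.Φ e) :=
    isIrr_of_res (isCharacter_res NE (IsIrr.isCharacter T.Φ_irr)) hM2 fun _ => rfl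
  have hc2 : ∀ z : π2.ker, ((z : NE) : T.E) ∈ π.ker := fun z => by
    rw [MonoidHom.mem_ker]
    exact Subtype.ext (congrArg (fun t : N => (t : Γ)) z.2)
  have hinner2 : ∀ f : N → ℂ, classInner (fun n : q2.ker => f (π2 n))
      (fun n : q2.ker => T.Φ ((n : NE) : T.E)) = classInner (res hLN f) (ν : L → ℂ) := by
    intro f
    rw [← classInner_equiv j2]
    have e1 : ∀ l : L, π2 (j2 l : NE) = ⟨l, hLN l.2⟩ := fun l =>
      Subtype.ext (congrArg (fun t : H => (t : Γ)) (hjπ l))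
    simp only [e1]
    exact congrArg _ (funext hjΦ)
  have h2 := triple_count π2 hπ2 q2 hq2 hΦ2 hM2
    (fun z => (T.sc ⟨((z : NE) : T.E), hc2 z⟩ : ℂ)) (fun z => hcz ⟨_, hc2 z⟩) hΦ1 hdeg
  -- assemble
  have key : ∀ (x : π.ker) (a b : ℂ), a = (lam (ez x) : ℂ) * b ↔ a * (T.sc x : ℂ) = b := by
    intro x a b
    rw [hlam, Units.val_inv_eq_inv_val]
    constructor
    · rintro rfl
      field_simp
    · rintro rfl
      field_simp
  have eA : Nat.card {χ : IrrCharacter Q // ¬ p ∣ charDegree (χ : Q → ℂ) ∧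
      ∀ z : Z, (χ : Q → ℂ) z = (lam z : ℂ) * (χ : Q → ℂ) 1} =
      Nat.card {β : IrrCharacter Q // ¬ p ∣ charDegree (β : Q → ℂ) ∧
        ∀ z : π.ker, (β : Q → ℂ) (q z) * (T.sc z : ℂ) = (β : Q → ℂ) 1} := by
    refine Nat.card_congr (Equiv.subtypeEquivRight fun β => and_congr_right fun _ => ?_)
    refine ⟨fun h z => (key z _ _).1 (h (ez z)), fun h z => ?_⟩
    obtain ⟨x, rfl⟩ := ez.surjective z
    exact (key x _ _).2 (h x)
  have eB : Nat.card {χ : IrrCharacter NQ // ¬ p ∣ charDegree (χ : NQ → ℂ) ∧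
      ∀ z : Z, (χ : NQ → ℂ) ⟨z, hZN z.2⟩ = (lam z : ℂ) * (χ : NQ → ℂ) 1} =
      Nat.card {β : IrrCharacter NQ // ¬ p ∣ charDegree (β : NQ → ℂ) ∧
        ∀ z : π2.ker, (β : NQ → ℂ) (q2 z) * (T.sc ⟨((z : NE) : T.E), hc2 z⟩ : ℂ) =
          (β : NQ → ℂ) 1} := by
    refine Nat.card_congr (Equiv.subtypeEquivRight fun β => and_congr_right fun _ => ?_)
    refine ⟨fun h z => (key _ _ _).1 (h (ez ⟨_, hc2 z⟩)), fun h z => ?_⟩
    obtain ⟨x, rfl⟩ := ez.surjective z
    refine (key x _ _).2 ?_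
    have hx2 : π2 ⟨(x : T.E), hkNE x.2⟩ = 1 := by
      refine Subtype.ext ?_
      show ((π x : H) : Γ) = 1
      rw [show π x = 1 from x.2]
      rfl
    exact h ⟨⟨(x : T.E), hkNE x.2⟩, hx2⟩
  simp only [hinner] at h1
  simp only [hinner2] at h2
  rw [cnt, cnt, h1, h2, ← eA, ← eB, hard']

end Cfsg.Agent.RelMcKay
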